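import Cfsg.Agent.Held.GenC
import Cfsg.Agent.KFacts.He.Hyp
import Cfsg.Agent.FastGrp
import Cfsg.Agent.Prune
set_option linter.all false

-- part: KFacts/He/AutP
section
set_option linter.all false
open scoped Cfsg.Agent.FastGrp

/-!
# Automorphisms trivial on the centraliser of `z` (helper579)

`G` any group with an embedding `Emb z ph` of the centraliser of a transvection of `L5(2)` as the centraliser of `z`,
and elements `y1`, `y2` with the relations of a configuration, generating `G` together with `C(z)`. Then an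
automorphism of `G` trivial on `C(z)` is `1` or conjugation by `z`.
-/

set_option autoImplicit false

namespace Cfsg.Agent.KFacts.He.AutP

open Cfsg.Agent.Held.Config Cfsg.Agent.Held.Code Cfsg.Agent.Held.EmbSt Cfsg.Agent.Held.GenC
  Cfsg.Agent.Held.Letters

/-! ### Centralisers, by codes -/

/-- commutation of codes -/
noncomputable def cm (a b : ℕ) : Bool := Nat.beq (mu a b) (mu b a)

/-- commutation with all the codes of a list (short-circuit) -/
noncomputable def cmAll (a : ℕ) (l : List ℕ) : Bool :=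
  List.rec (motive := fun _ => Bool) true (fun b _ ih => Bool.rec false ih (cm a b)) l

theorem cmAll_iff {a : ℕ} {l : List ℕ} : cmAll a l = true ↔ ∀ b ∈ l, mu a b = mu b a := by
  induction l with
  | nil => simp [cmAll]
  | cons b l ih =>
    show (Bool.rec false (cmAll a l) (cm a b) : Bool) = true ↔ _
    rcases h : cm a b with _ | _
    · constructor
      · intro h1; exact absurd (show false = true from h1) (by simp)
      · intro h1
        have h2 := h1 b (by simp)
        unfold cm at h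
        rw [h2, Nat.beq_refl] at h
        exact absurd h (by simp)
    · have h2 : mu a b = mu b a := Nat.eq_of_beq_eq_true h
      constructor
      · intro h1 c hc
        rcases List.mem_cons.mp hc with rfl | hc
        · exact h2
        · exact (ih.mp h1) c hc
      · intro h1
        exact ih.mpr fun c hc => h1 c (by simp [hc])

/-- membership in a list of codes -/
noncomputable def memL (a : ℕ) (l : List ℕ) : Bool :=
  List.rec (motive := fun _ => Bool) false (fun b _ ih => Bool.rec ih true (Nat.beq a b)) l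

theorem memL_iff {a : ℕ} {l : List ℕ} : memL a l = true → a ∈ l := by
  induction l with
  | nil => intro h; exact absurd (show false = true from h) (by simp)
  | cons b l ih =>
    intro h
    have h' : (Bool.rec (memL a l) true (Nat.beq a b) : Bool) = true := h
    rcases hb : Nat.beq a b with _ | _
    · rw [hb] at h'
      exact List.mem_cons_of_mem _ (ih h')
    · rw [Nat.eq_of_beq_eq_true hb]; simp

/-- the check: the codes commuting with the list `l` are in the list `r` -/
noncomputable def chk (l r : List ℕ) (a : ℕ) : Bool := Bool.rec true (memL a r) (cmAll a l)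

theorem of_chk {l r : List ℕ} (h : HeldType.Code.allC (chk l r) = true) {a : ℕ} (ha : C a)
    (hl : ∀ b ∈ l, mu a b = mu b a) : a ∈ r := by
  have h1 := HeldType.Code.of_allC h (good_of_C ha)
  unfold chk at h1
  rw [cmAll_iff.mpr hl] at h1
  exact memL_iff h1

/-- the product, unrolled -/
def mu5 (a b : ℕ) : ℕ := Nat.xor (Nat.xor (Nat.xor (Nat.xor (Nat.xor 0 (Nat.mul (Nat.land (Nat.shiftRight a 0) 1082401) (Nat.mod (Nat.shiftRight b 0) 32)))
  (Nat.mul (Nat.land (Nat.shiftRight a 1) 1082401) (Nat.mod (Nat.shiftRight b 5) 32)))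
  (Nat.mul (Nat.land (Nat.shiftRight a 2) 1082401) (Nat.mod (Nat.shiftRight b 10) 32)))
  (Nat.mul (Nat.land (Nat.shiftRight a 3) 1082401) (Nat.mod (Nat.shiftRight b 15) 32)))
  (Nat.mul (Nat.land (Nat.shiftRight a 4) 1082401) (Nat.mod (Nat.shiftRight b 20) 32))

theorem mu_eq5 : Lib.F2Mat.mul 5 = mu5 := by
  funext a b
  rw [Lib.F2Mat.mul_eq, show Lib.F2Mat.msk 5 = 1082401 by decide +kernel]
  rfl

/-- the codes `b + o`, `o` in a list -/
noncomputable def eightC (P : ℕ → Bool) (l : List ℕ) (b : ℕ) (z : Bool) : Bool :=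
  List.rec z (fun o _ ih => Bool.rec false ih (Nat.rec true (fun x _ => P x) (Nat.succ (Nat.add b o)))) l

/-- the enumeration, with the codes by value -/
noncomputable def allC5 (P : ℕ → Bool) (l : List ℕ) (k : ℕ) : Bool :=
  List.rec true (fun m _ ih => Nat.rec ih (fun r ih => Nat.rec true (fun b _ => eightC P l b ih)
    (Nat.succ (Nat.add (Nat.add k (Nat.mul 2 r)) m))) 16) HeldType.Code.mids

theorem allC_of5 {P : ℕ → Bool} (h : allC5 P [0, 512, 16384, 16896, 524288, 524800, 540672, 541184] 16777217 = true) :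
    HeldType.Code.allC P = true := by
  have e : ∀ (l : List ℕ) (b : ℕ) (z : Bool), eightC P l b z = true → z = true ∧ ∀ o ∈ l, P (b + o) = true := fun l b z => by
    induction l with
    | nil => exact fun h => ⟨h, fun _ h => nomatch h⟩
    | cons o l ih =>
      intro h
      have h1 : (Bool.rec false (eightC P l b z) (P (b + o)) : Bool) = true := h
      cases h2 : P (b + o) with
      | false => rw [h2] at h1; cases h1
      | true =>
        rw [h2] at h1
        exact ⟨(ih h1).1, List.forall_mem_cons.2 ⟨h2, (ih h1).2⟩⟩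
  have h1 : ∀ (l : List ℕ) (k m n : ℕ) (z : Bool), (Nat.rec z (fun r ih => Nat.rec true (fun b _ => eightC P l b ih)
      (Nat.succ (Nat.add (Nat.add k (Nat.mul 2 r)) m))) n : Bool) = true → z = true ∧ ∀ r < n, ∀ o ∈ l,
      P (k + 2 * r + m + o) = true := fun l k m n z => by
    induction n with
    | zero => exact fun h => ⟨h, fun _ h => absurd h (Nat.not_lt_zero _)⟩
    | succ n ih =>
      intro h
      obtain ⟨h, h2⟩ := e l _ _ h
      refine ⟨(ih h).1, fun r hr => ?_⟩
      rcases Nat.lt_succ_iff_lt_or_eq.1 hr with hr | rfl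
      exacts [(ih h).2 r hr, h2]
  have h2 : ∀ c < 8, 512 * (c % 2) + (16384 * (c / 2 % 2) + 524288 * (c / 4)) ∈ [0, 512, 16384, 16896, 524288, 524800, 540672, 541184] := by
    decide +kernel
  delta HeldType.Code.allC
  delta allC5 at h
  generalize HeldType.Code.mids = l at h ⊢
  induction l with
  | nil => rfl
  | cons m l ih =>
    rw [List.all_cons, Bool.and_eq_true]
    refine ⟨List.all_eq_true.2 fun r hr => List.all_eq_true.2 fun c hc => ?_, ih (h1 _ _ m 16 _ h).1⟩
    rw [Nat.add_assoc, Nat.add_assoc _ (512 * _)]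
    exact (h1 _ _ m 16 _ h).2 r (List.mem_range.1 hr) _ (h2 c (List.mem_range.1 hc))

theorem chk_1 : HeldType.Code.allC
    (chk [X 0 1, X 0 2, X 1 3, X 1 4, X 2 3, X 2 4] [e1, X 0 3, zc, mu (X 0 3) zc]) = true := by
  refine allC_of5 ?_
  delta chk cmAll cm mu
  rewrite [mu_eq5]
  decide +kernel

theorem chk_2 : HeldType.Code.allC
    (chk [X 3 4, X 2 4, X 1 3, X 0 3, X 1 2, X 0 2] [e1, X 1 4, zc, mu (X 1 4) zc]) = true := by
  refine allC_of5 ?_
  delta chk cmAll cm mu
  rewrite [mu_eq5]
  decide +kernel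

section
variable {G : Type*} [Group G]

/-- The main computation: the possible images of `y`. -/
theorem side_cases {x : ℕ → ℕ → G} {t : ℕ} {y : G} (s : Side x t y) (α : MulAut G)
    (h01 : α (x 0 1) = x 0 1) (h02 : α (x 0 2) = x 0 2) (h3 : ∀ i < 3, α (x i 3) = x i 3)
    (h4 : ∀ i < 3, α (x i 4) = x i 4) (h34 : α (x 3 4) = x 3 4)
    (q3 : x 0 3 * x 0 3 = 1) (q4 : x 0 4 * x 0 4 = 1) (c34 : x 0 3 * x 0 4 = x 0 4 * x 0 3)
    (r3 : x 3 4 * x 0 3 * x 3 4 = x 0 3 * x 0 4) (r4 : x 3 4 * x 0 4 * x 3 4 = x 0 4)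
    (q34 : x 3 4 * x 3 4 = 1) (n3 : x 0 3 ≠ 1)
    (hc : ∀ c : G, (∀ i < 3, x i 3 * c = c * x i 3) → (∀ i < 3, x i 4 * c = c * x i 4) →
      x 0 1 * c = c * x 0 1 → x 0 2 * c = c * x 0 2 →
      c = 1 ∨ c = x 0 3 ∨ c = x 0 4 ∨ c = x 0 3 * x 0 4) :
    α y = y ∨ (α y = x 0 3 * x 0 4 * y ∧ α y = x 0 4 * y * x 0 4) := by
  obtain ⟨c, hcy⟩ : ∃ c, α y = c * y := ⟨α y * y⁻¹, by group⟩
  have hcom : ∀ a b : G, α a = a → α b = b → a * y = y * b → a * c = c * a := by
    intro a b ha hb hab
    have h1 := congrArg α hab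
    rw [map_mul, map_mul, ha, hb, hcy] at h1
    have h2 : a * c * y = c * a * y := by
      rw [mul_assoc, h1, mul_assoc, ← hab, mul_assoc]
    exact mul_right_cancel h2
  have hi3 : ∀ i < 3, x i 3 * c = c * x i 3 := fun i hi =>
    hcom _ _ (h3 i hi) (h4 i hi) (s.act3 i hi)
  have hi4 : ∀ i < 3, x i 4 * c = c * x i 4 := fun i hi =>
    hcom _ _ (h4 i hi) (by rw [map_mul, h3 i hi, h4 i hi]) (s.act4 i hi)
  have hc01 : x 0 1 * c = c * x 0 1 := by
    refine hcom _ _ h01 ?_ s.x01
    rw [map_mul, map_pow, map_mul, h01, h3 0 (by norm_num), h3 2 (by norm_num)]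
  have hc02 : x 0 2 * c = c * x 0 2 := by
    refine hcom _ _ h02 ?_ s.x02
    rw [map_mul, map_pow, map_mul, h02, h3 0 (by norm_num), h3 1 (by norm_num)]
  have hinv := s.inv
  have hinv' := congrArg α hinv
  rw [map_mul, map_mul, map_inv, h34, hcy] at hinv'
  have a3 := s.act3 0 (by norm_num)
  have a4 := s.act4 0 (by norm_num)
  -- `x34 c x34 y⁻¹ = y⁻¹ c⁻¹`
  have h5 : x 3 4 * c * x 3 4 * y⁻¹ = y⁻¹ * c⁻¹ := by
    rw [← hinv]
    have : x 3 4 * c * x 3 4 * (x 3 4 * y * x 3 4) = x 3 4 * (c * y) * x 3 4 := by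
      calc x 3 4 * c * x 3 4 * (x 3 4 * y * x 3 4) = x 3 4 * c * (x 3 4 * x 3 4) * y * x 3 4 := by
            simp only [mul_assoc]
        _ = x 3 4 * (c * y) * x 3 4 := by rw [q34]; simp only [mul_assoc, mul_one]
    rw [this, hinv', mul_inv_rev, hinv]
  have h6 : y * (x 3 4 * c * x 3 4) = c⁻¹ * y := by
    calc y * (x 3 4 * c * x 3 4) = y * (x 3 4 * c * x 3 4 * y⁻¹) * y := by group
      _ = y * (y⁻¹ * c⁻¹) * y := by rw [h5]
      _ = c⁻¹ * y := by group
  rcases hc c hi3 hi4 hc01 hc02 with h | h | h | h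
  · left; rw [hcy, h, one_mul]
  · exfalso
    rw [h, r3, inv_eq_of_mul_eq_one_right q3, a3] at h6
    exact n3 (mul_eq_right.mp (mul_left_cancel h6))
  · exfalso
    rw [h, r4, inv_eq_of_mul_eq_one_right q4, a4] at h6
    exact n3 (mul_eq_right.mp (mul_left_cancel h6).symm)
  · right
    refine ⟨by rw [hcy, h], ?_⟩
    rw [hcy, h]
    calc x 0 3 * x 0 4 * y = x 0 3 * (x 0 4 * y) := by rw [mul_assoc]
      _ = x 0 3 * y * x 0 3 * x 0 4 := by rw [a4]; simp only [mul_assoc]
      _ = y * (x 0 4 * x 0 3) * x 0 4 := by rw [a3]; simp only [mul_assoc]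
      _ = y * (x 0 3 * x 0 4) * x 0 4 := by rw [c34]
      _ = x 0 4 * y * x 0 4 := by rw [a4]

end

section
variable {G : Type*} [Group G] {z : G} {ph : ℕ → G} {y1 y2 f : G} {t1 t2 : ℕ}

theorem cX {i j : ℕ} (h : isC (X i j) (X i j) = true) : C (X i j) := C_of_isC h

theorem c01 : C (X 0 1) := cX (by decide +kernel)
theorem c02 : C (X 0 2) := cX (by decide +kernel)
theorem c03 : C (X 0 3) := cX (by decide +kernel)
theorem c04 : C (X 0 4) := cX (by decide +kernel)
theorem c12 : C (X 1 2) := cX (by decide +kernel)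
theorem c13 : C (X 1 3) := cX (by decide +kernel)
theorem c14 : C (X 1 4) := cX (by decide +kernel)
theorem c23 : C (X 2 3) := cX (by decide +kernel)
theorem c24 : C (X 2 4) := cX (by decide +kernel)
theorem c34 : C (X 3 4) := cX (by decide +kernel)

/-- equality of two products of coded elements -/
theorem mm (h : Emb z ph) {a b c d : ℕ} (ha : C a) (hb : C b) (hc : C c) (hd : C d)
    (e : mu a b = mu c d) : ph a * ph b = ph c * ph d := by
  rw [← h.mul ha hb, ← h.mul hc hd, e]

theorem sqp (h : Emb z ph) {a : ℕ} (ha : C a) (e : mu a a = Held.Code.e1) : ph a * ph a = 1 := by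
  rw [← h.mul ha ha, e, ph_e1 h]

theorem code_comm (h : Emb z ph) {a b : ℕ} (ha : C a) (hb : C b) (e : ph b * ph a = ph a * ph b) :
    mu a b = mu b a := by
  rw [← h.mul hb ha, ← h.mul ha hb] at e
  exact (h.inj (hb.mul ha) (ha.mul hb) e).symm

theorem zx (h : Emb z ph) : ph (X 0 4) = z := by rw [zc_eq]; exact h.z_eq

theorem ne_one (h : Emb z ph) {a : ℕ} (ha : C a) (hn : a ≠ Held.Code.e1) : ph a ≠ 1 := by
  intro e
  rw [← ph_e1 h] at e
  exact hn (h.inj ha C_e1 e)

/-- **Side 1**: the image of `y1`. -/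
theorem y1_cases (h : Emb z ph) (s : Side (fun i j => ph (X i j)) t1 y1) (α : MulAut G)
    (hα : ∀ a, C a → α (ph a) = ph a) :
    α y1 = y1 ∨ (α y1 = ph (X 0 3) * ph (X 0 4) * y1 ∧ α y1 = z * y1 * z) := by
  have key := side_cases s α (hα _ c01) (hα _ c02)
    (by intro i hi; interval_cases i <;> exact hα _ (by first | exact c03 | exact c13 | exact c23))
    (by intro i hi; interval_cases i <;> exact hα _ (by first | exact c04 | exact c14 | exact c24))
    (hα _ c34) (sqp h c03 (by decide +kernel)) (sqp h c04 (by decide +kernel))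
    (mm h c03 c04 c04 c03 (by decide +kernel))
    (by
      show ph (X 3 4) * ph (X 0 3) * ph (X 3 4) = ph (X 0 3) * ph (X 0 4)
      rw [← h.mul c34 c03]
      exact mm h (c34.mul c03) c34 c03 c04 (by decide +kernel))
    (by
      show ph (X 3 4) * ph (X 0 4) * ph (X 3 4) = ph (X 0 4)
      rw [← h.mul c34 c04, ← h.mul (c34.mul c04) c34]
      exact congrArg ph (by decide +kernel))
    (sqp h c34 (by decide +kernel)) (ne_one h c03 (by decide +kernel))
    (by
      intro c hi3 hi4 h01 h02
      have hz : c * z = z * c := by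
        rw [← zx h]; exact (hi4 0 (by norm_num)).symm
      obtain ⟨a, ha, rfl⟩ := h.surj c hz
      have h1 := of_chk chk_1 ha (by
        intro b hb
        simp only [List.mem_cons, List.not_mem_nil, or_false] at hb
        rcases hb with rfl | rfl | rfl | rfl | rfl | rfl
        · exact code_comm h ha c01 h01
        · exact code_comm h ha c02 h02
        · exact code_comm h ha c13 (hi3 1 (by norm_num))
        · exact code_comm h ha c14 (hi4 1 (by norm_num))
        · exact code_comm h ha c23 (hi3 2 (by norm_num))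
        · exact code_comm h ha c24 (hi4 2 (by norm_num)))
      simp only [List.mem_cons, List.not_mem_nil, or_false] at h1
      rcases h1 with rfl | rfl | rfl | rfl
      · left; exact ph_e1 h
      · right; left; rfl
      · right; right; left; rw [← zc_eq]
      · right; right; right
        rw [← zc_eq]; exact h.mul c03 c04)
  rcases key with k | ⟨k1, k2⟩
  · exact Or.inl k
  · refine Or.inr ⟨k1, ?_⟩
    rw [← zx h]
    exact k2

/-- **Side 2**: the image of `y2`. -/
theorem y2_cases (h : Emb z ph) (s : Side (mir fun i j => ph (X i j)) t2 y2) (α : MulAut G)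
    (hα : ∀ a, C a → α (ph a) = ph a) :
    α y2 = y2 ∨ (α y2 = ph (X 1 4) * ph (X 0 4) * y2 ∧ α y2 = z * y2 * z) := by
  have key := side_cases s α (hα _ c34) (hα _ c24)
    (by intro i hi; interval_cases i <;> exact hα _ (by first | exact c14 | exact c13 | exact c12))
    (by intro i hi; interval_cases i <;> exact hα _ (by first | exact c04 | exact c03 | exact c02))
    (hα _ c01) (sqp h c14 (by decide +kernel)) (sqp h c04 (by decide +kernel))
    (mm h c14 c04 c04 c14 (by decide +kernel))
    (by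
      show ph (X 0 1) * ph (X 1 4) * ph (X 0 1) = ph (X 1 4) * ph (X 0 4)
      rw [← h.mul c01 c14]
      exact mm h (c01.mul c14) c01 c14 c04 (by decide +kernel))
    (by
      show ph (X 0 1) * ph (X 0 4) * ph (X 0 1) = ph (X 0 4)
      rw [← h.mul c01 c04, ← h.mul (c01.mul c04) c01]
      exact congrArg ph (by decide +kernel))
    (sqp h c01 (by decide +kernel)) (ne_one h c14 (by decide +kernel))
    (by
      intro c hi3 hi4 h01 h02
      have hz : c * z = z * c := by
        rw [← zx h]; exact (hi4 0 (by norm_num)).symm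
      obtain ⟨a, ha, rfl⟩ := h.surj c hz
      have h1 := of_chk chk_2 ha (by
        intro b hb
        simp only [List.mem_cons, List.not_mem_nil, or_false] at hb
        rcases hb with rfl | rfl | rfl | rfl | rfl | rfl
        · exact code_comm h ha c34 h01
        · exact code_comm h ha c24 h02
        · exact code_comm h ha c13 (hi3 1 (by norm_num))
        · exact code_comm h ha c03 (hi4 1 (by norm_num))
        · exact code_comm h ha c12 (hi3 2 (by norm_num))
        · exact code_comm h ha c02 (hi4 2 (by norm_num)))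
      simp only [List.mem_cons, List.not_mem_nil, or_false] at h1
      rcases h1 with rfl | rfl | rfl | rfl
      · left; exact ph_e1 h
      · right; left; rfl
      · right; right; left; rw [← zc_eq]; rfl
      · right; right; right
        rw [← zc_eq]; exact h.mul c14 c04)
  rcases key with k | ⟨k1, k2⟩
  · exact Or.inl k
  · refine Or.inr ⟨k1, ?_⟩
    rw [← zx h]
    exact k2

/-- **Mixed case**: impossible. -/
theorem mixed (h : Emb z ph) (c : Config (fun i j => ph (X i j)) t1 t2 f y1 y2) (α : MulAut G)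
    (hf : α f = f) (hf2 : f * f = 1)
    (hfc : f * (ph (X 1 4) * ph (X 0 4)) = ph (X 1 4) * ph (X 0 4) * f) (k1 : α y1 = y1)
    (k2 : α y2 = ph (X 1 4) * ph (X 0 4) * y2) : False := by
  have hcm := c.comm
  have hcm' := congrArg α hcm
  simp only [map_mul, hf, k1, k2] at hcm'
  set d := ph (X 1 4) * ph (X 0 4) with hd
  -- `d y2 w = w d y2 `
  have e1 : d * (f * y1 * f) = f * y1 * f * d := by
    have e2 : d * (f * y1 * f) * y2 = f * y1 * f * d * y2 := by
      calc d * (f * y1 * f) * y2 = d * (f * y1 * f * y2) := by simp only [mul_assoc]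
        _ = d * (y2 * (f * y1 * f)) := by rw [hcm]
        _ = d * y2 * (f * y1 * f) := by simp only [mul_assoc]
        _ = f * y1 * f * (d * y2) := hcm'
        _ = f * y1 * f * d * y2 := by simp only [mul_assoc]
    exact mul_right_cancel e2
  have e3 : d * y1 = y1 * d := by
    calc d * y1 = (f * f) * d * y1 * (f * f) := by rw [hf2]; simp
      _ = f * (f * d) * y1 * f * f := by simp only [mul_assoc]
      _ = f * (d * f) * y1 * f * f := by rw [hfc]
      _ = f * (d * (f * y1 * f)) * f := by simp only [mul_assoc]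
      _ = f * (f * y1 * f * d) * f := by rw [e1]
      _ = (f * f) * y1 * (f * d) * f := by simp only [mul_assoc]
      _ = (f * f) * y1 * (d * f) * f := by rw [hfc]
      _ = (f * f) * y1 * d * (f * f) := by simp only [mul_assoc]
      _ = y1 * d := by rw [hf2]; simp
  have a4 : ∀ i < 3, ph (X i 4) * y1 = y1 * (ph (X i 3) * ph (X i 4)) := c.side1.act4
  have e4 : d * y1 = y1 * ((ph (X 1 3) * ph (X 1 4)) * (ph (X 0 3) * ph (X 0 4))) := by
    rw [hd, mul_assoc, a4 0 (by norm_num), ← mul_assoc, a4 1 (by norm_num)]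
    simp only [mul_assoc]
  rw [e4] at e3
  have e5 := mul_left_cancel e3
  rw [hd, ← h.mul c13 c14, ← h.mul c03 c04, ← h.mul c14 c04,
    ← h.mul (c13.mul c14) (c03.mul c04)] at e5
  have e6 := h.inj ((c13.mul c14).mul (c03.mul c04)) (c14.mul c04) e5
  revert e6
  decide +kernel

/-- **An automorphism trivial on `C(z)` is `1` or conjugation by `z`.** -/
theorem aut_cases (h : Emb z ph) (c : Config (fun i j => ph (X i j)) t1 t2 f y1 y2)
    (hf : ∃ a, C a ∧ ph a = f) (hf2 : f * f = 1)
    (hfc : f * (ph (X 1 4) * ph (X 0 4)) = ph (X 1 4) * ph (X 0 4) * f)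
    (hgen : Subgroup.centralizer ({z} : Set G) ⊔ Subgroup.closure {y1, y2} = ⊤) (α : MulAut G)
    (hα : ∀ g : G, g * z = z * g → α g = g) : α = 1 ∨ α = MulAut.conj z := by
  have zz : z * z = 1 := by
    rw [← zx h]; exact sqp h c04 (by decide +kernel)
  have zi : z⁻¹ = z := inv_eq_of_mul_eq_one_right zz
  have hα' : ∀ a, C a → α (ph a) = ph a := fun a ha => hα _ (h.comm ha)
  have hcz : ∀ g : G, MulAut.conj z g = z * g * z := by
    intro g; rw [MulAut.conj_apply, zi]
  have fz : f * z = z * f := by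
    obtain ⟨a, ha, rfl⟩ := hf
    exact h.comm ha
  have ext : ∀ β : MulAut G, (∀ g : G, g * z = z * g → α g = β g) → α y1 = β y1 → α y2 = β y2 →
      α = β := by
    intro β h1 h2 h3
    have h4 : (⊤ : Subgroup G) ≤ α.toMonoidHom.eqLocus β.toMonoidHom := by
      rw [← hgen]
      refine sup_le ?_ ?_
      · intro g hg
        rw [Subgroup.mem_centralizer_singleton_iff] at hg
        exact h1 g hg
      · rw [Subgroup.closure_le]
        rintro g (rfl | rfl)
        · exact h2
        · exact h3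
    apply MulEquiv.ext
    intro g
    exact h4 (Subgroup.mem_top g)
  have hcomm : ∀ g : G, g * z = z * g → α g = MulAut.conj z g := by
    intro g hg
    rw [hα g hg, hcz, ← hg, mul_assoc, zz, mul_one]
  rcases y1_cases h c.side1 α hα' with k1 | ⟨k1, k1'⟩
  · rcases y2_cases h c.side2 α hα' with k2 | ⟨k2, k2'⟩
    · left
      exact ext 1 (fun g hg => hα g hg) k1 k2
    · exact (mixed h c α (hα f fz) hf2 hfc k1 k2).elim
  · rcases y2_cases h c.side2 α hα' with k2 | ⟨k2, k2'⟩
    · exfalso
      -- multiply with conjugation by `z`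
      have hb : ∀ g : G, (MulAut.conj z * α) g = z * α g * z := by
        intro g; rw [MulAut.mul_apply, hcz]
      have hβ : ∀ g : G, g * z = z * g → (MulAut.conj z * α) g = g := by
        intro g hg
        rw [hb, hα g hg, ← hg, mul_assoc, zz, mul_one]
      have m1 : (MulAut.conj z * α) y1 = y1 := by
        rw [hb, k1']
        calc z * (z * y1 * z) * z = (z * z) * y1 * (z * z) := by simp only [mul_assoc]
          _ = y1 := by rw [zz]; simp
      have m2 : (MulAut.conj z * α) y2 = z * y2 * z := by rw [hb, k2]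
      rcases y2_cases h c.side2 (MulAut.conj z * α) (fun a ha => hβ _ (h.comm ha)) with m | ⟨m, -⟩
      · -- `z y2 z = y2`: then `x14` is fixed by `y2`
        rw [m2] at m
        have e1 : z * y2 = y2 * z := by
          calc z * y2 = z * y2 * (z * z) := by rw [zz, mul_one]
            _ = z * y2 * z * z := by simp only [mul_assoc]
            _ = y2 * z := by rw [m]
        have e2 : ph (X 0 4) * y2 = y2 * (ph (X 1 4) * ph (X 0 4)) := c.side2.act4 0 (by norm_num)
        rw [zx h, e1] at e2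
        have e3 := mul_left_cancel e2
        exact ne_one h c14 (by decide +kernel) (mul_eq_right.mp e3.symm)
      · exact mixed h c (MulAut.conj z * α) (hβ f fz) hf2 hfc m1 m
    · right
      refine ext _ hcomm ?_ ?_
      · rw [k1', hcz]
      · rw [k2', hcz]

end

end Cfsg.Agent.KFacts.He.AutP

private theorem dce_c1a7541b9eb9 : _root_.True := by
  try have : _root_.True := by simp only [_root_.Cfsg.Agent.KFacts.He.AutP.cmAll.eq_1]
  exact _root_.True.intro
end

-- part: KFacts/He/Classes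
section
set_option linter.all false
open scoped Cfsg.Agent.FastGrp

/-!
# The two classes of involutions of the presented Held group (helper40)

`exists_min` : every involution of the centralizer `CC` of a transvection of `L5(2)` is conjugate in `CC` to one of
29 explicit ones (descent on the codes).
`two_classes` : every involution of `Spor.He` is conjugate to `z` or to `v = x01 x24`; `v` is conjugate to the
generator `a`.
-/

set_option autoImplicit false
set_option Elab.async false

namespace Cfsg.Agent.KFacts.He.Classes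

open Cfsg.Spor Cfsg.Spor.He Cfsg.Agent.SporadicB.HePerm Cfsg.Agent.KFacts.He.Words
  Cfsg.Agent.KFacts.He.Hyp Cfsg.Agent.KFacts.He.AutP Cfsg.Agent.Held.Letters Cfsg.Agent.Held.GenC
  Cfsg.Agent.KFacts.He.Bound Cfsg.Agent.Held.LetterVals
  Cfsg.Agent.SporadicRecognition.CosetCert Cfsg.Agent.SporadicRecognition.HeldModel
open Cfsg.Agent.Held.Code (Emb C X mu mu_assoc mu_e1 mu_lt exists_emb)
open Cfsg.Agent.Held.EmbSt (cx C_cx cx_sq evC C_evC ev_ph ph_e1)

/-- the words of the minimal codes of involutions -/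
def mins : List (List ℕ) := [[0], [1], [2], [3], [5], [6], [8], [9], [0,8], [0,9], [1,5], [1,6], [1,9], [2,6], [2,8],
  [3,5], [5,8], [4,10,4], [7,11,7], [0,7,11,7], [2,4,10,4], [3,4,10,4], [3,7,11,7], [4,9,10,4], [6,7,11,7],
  [5,10,11,10,11,5], [1,5,10,11,10,11,5], [3,5,10,11,10,11,5], [5,8,10,11,10,11,5]]

/-- their codes -/
def mcs : List ℕ := [17043523, 17043525, 17043529, 17043537, 17043777, 17044033, 17059905, 17567809, 17059907,
  17567811, 17043781, 17044037, 17567813, 17044041, 17059913, 17043793, 17060161, 17041537, 16916545, 16916547,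
  17041545, 17041553, 16916561, 17565825, 16917057, 16847105, 16847109, 16847121, 16863489]

theorem mcs_eq : mins.map evC = mcs := by decide +kernel

/-- the conjugate by a letter -/
noncomputable def cjc (s c : ℕ) : ℕ := mu (mu (cx s) c) (cx s)

/-- some conjugate by a letter `< n` has a smaller code -/
noncomputable def desc (c n : ℕ) : Bool :=
  Nat.rec (motive := fun _ => Bool) false (fun s ih => Bool.rec ih true (Nat.ble (Nat.succ (cjc s c)) c)) n

theorem of_desc {c n : ℕ} (h : desc c n = true) : ∃ s, cjc s c < c := by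
  induction n with
  | zero => exact absurd (show false = true from h) (by simp)
  | succ n ih =>
    have h' : (Bool.rec (desc c n) true (Nat.ble (Nat.succ (cjc n c)) c) : Bool) = true := h
    rcases hb : Nat.ble (Nat.succ (cjc n c)) c with _ | _
    · rw [hb] at h'
      exact ih h'
    · exact ⟨n, Nat.le_of_ble_eq_true hb⟩

/-- an involution is on the list or not minimal -/
noncomputable def P (c : ℕ) : Bool :=
  Bool.rec true (Bool.rec (Bool.rec (desc c 12) true (memL c mcs)) true (Nat.beq c Held.Code.e1))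
    (Nat.beq (mu c c) Held.Code.e1)

theorem chkP : HeldType.Code.allC P = true := by decide +kernel

theorem cases_P {c : ℕ} (hc : C c) (h1 : mu c c = Held.Code.e1) (h2 : c ≠ Held.Code.e1) :
    c ∈ mcs ∨ ∃ s, cjc s c < c := by
  have h := HeldType.Code.of_allC chkP (good_of_C hc)
  unfold P at h
  rw [h1, Nat.beq_refl] at h
  have h3 : Nat.beq c Held.Code.e1 = false := by
    rcases hb : Nat.beq c Held.Code.e1 with _ | _
    · rfl
    · exact absurd (Nat.eq_of_beq_eq_true hb) h2
  rw [h3] at h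
  rcases hm : memL c mcs with _ | _
  · rw [hm] at h
    exact Or.inr (of_desc h)
  · exact Or.inl (memL_iff hm)

/-- **Every involution of the model is conjugate to one of the list.** -/
theorem exists_min {G : Type*} [Group G] {z : G} {ph : ℕ → G} (h : Emb z ph) :
    ∀ n c : ℕ, c ≤ n → C c → mu c c = Held.Code.e1 → c ≠ Held.Code.e1 →
      ∃ w ∈ mins, ∃ g : G, g * z = z * g ∧ g * ph c * g⁻¹ = ph (evC w) := by
  intro n
  induction n with
  | zero =>
    intro c hc hC _ _
    have : c = 0 := by omega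
    subst this
    obtain ⟨_, _, b, _, h4, _⟩ := hC
    exfalso
    have h5 : mu 0 b = 0 := by
      apply Lib.F2Mat.toMat_inj (n := 5) (mu_lt _ _) (by norm_num)
      rw [Lib.F2Mat.toMat_mul]
      have : Lib.F2Mat.toMat 5 0 = 0 := by
        ext i j
        rw [Lib.F2Mat.toMat_apply, Nat.zero_testBit]
        rfl
      rw [this, zero_mul]
    rw [h5] at h4
    exact absurd h4 (by decide)
  | succ n ih =>
    intro c hc hC h1 h2
    rcases cases_P hC h1 h2 with h3 | ⟨s, hs⟩
    · rw [← mcs_eq, List.mem_map] at h3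
      obtain ⟨w, hw, e⟩ := h3
      exact ⟨w, hw, 1, by simp, by rw [e]; simp⟩
    · have hC' : C (cjc s c) := ((C_cx s).mul hC).mul (C_cx s)
      have e1 : mu (cjc s c) (cjc s c) = Held.Code.e1 := by
        unfold cjc
        calc mu (mu (mu (cx s) c) (cx s)) (mu (mu (cx s) c) (cx s))
            = mu (mu (cx s) c) (mu (mu (cx s) (cx s)) (mu c (cx s))) := by
              simp only [mu_assoc]
          _ = mu (mu (cx s) c) (mu c (cx s)) := by
              rw [cx_sq, Held.Code.e1_mu (mu_lt _ _)]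
          _ = mu (cx s) (mu (mu c c) (cx s)) := by simp only [mu_assoc]
          _ = Held.Code.e1 := by
              rw [h1, Held.Code.e1_mu (C_cx s).1, cx_sq]
      have e2 : cjc s c ≠ Held.Code.e1 := by
        intro e
        apply h2
        have h4 : mu (mu (cx s) (cjc s c)) (cx s) = c := by
          unfold cjc
          calc mu (mu (cx s) (mu (mu (cx s) c) (cx s))) (cx s)
              = mu (mu (cx s) (cx s)) (mu c (mu (cx s) (cx s))) := by simp only [mu_assoc]
            _ = c := by rw [cx_sq, mu_e1 hC.1, Held.Code.e1_mu hC.1]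
        rw [← h4, e, mu_e1 (C_cx s).1, cx_sq]
      obtain ⟨w, hw, g, hg, hgw⟩ := ih (cjc s c) (by omega) hC' e1 e2
      have hss : ph (cx s) * ph (cx s) = 1 := by
        rw [← h.mul (C_cx s) (C_cx s), cx_sq, ph_e1 h]
      have hsi : (ph (cx s))⁻¹ = ph (cx s) := inv_eq_of_mul_eq_one_right hss
      have hcj : ph (cjc s c) = ph (cx s) * ph c * ph (cx s) := by
        unfold cjc
        rw [h.mul ((C_cx s).mul hC) (C_cx s), h.mul (C_cx s) hC]
      refine ⟨w, hw, g * ph (cx s), ?_, ?_⟩
      · rw [mul_assoc, h.comm (C_cx s), ← mul_assoc, hg, mul_assoc]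
      · rw [← hgw, hcj, mul_inv_rev, hsi]
        group

/-! ### The Held group -/

/-- the involution `x01 x24` -/
def v : Cfsg.Spor.He := ev (gy xr y1 y2) [0, 8]

/-- conjugating words, to `z` -/
def certB : List (List ℕ × List ℕ) := [([0], [13,11,7,10,4]), ([1], [13,11,7]), ([2], [13]), ([3], []),
  ([5], [13,15]), ([6], [15]), ([8], [15,10,4]), ([9], [15,10,4,11,7]), ([1,5], [12,11,12]), ([5,8], [14,10,14]),
  ([4,10,4], [13,11,15,10,5]), ([7,11,7], [13,15,10,11,4]), ([0,7,11,7], [12,11,10,4,12,11]),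
  ([2,4,10,4], [13,11,7,12,15,10]), ([4,9,10,4], [14,10,11,7,14,10]), ([6,7,11,7], [13,15,10,4,14,11]),
  ([5,10,11,10,11,5], [13,11,15,10,11,7]), ([1,5,10,11,10,11,5], [12,11,10,12,11,10,4]),
  ([5,8,10,11,10,11,5], [13,14,10,11,14,10,4])]

/-- conjugating words, to `v` -/
def certA : List (List ℕ × List ℕ) := [([0,8], []), ([0,9], [11,7]), ([1,6], [4,10]), ([1,9], [4,11,10,5]),
  ([2,6], [4,5,10,11]), ([2,8], [5,11,10,11]), ([3,5], [4,10,15,13,11]), ([3,4,10,4], [1,4,10,15,10]),
  ([3,7,11,7], [13,11,10,11,13,11]), ([3,5,10,11,10,11,5], [4,10,13,15,10,11,7])]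

theorem chkB : allW (certB.map fun p => (p.2 ++ p.1, [3] ++ p.2)) = true := by decide +kernel

theorem chkA : allW (certA.map fun p => (p.2 ++ p.1, [0, 8] ++ p.2)) = true := by decide +kernel

theorem mins_cases : ∀ w ∈ mins, w ∈ certB.map Prod.fst ∨ w ∈ certA.map Prod.fst := by decide

theorem of_certB {w : List ℕ} (h : w ∈ certB.map Prod.fst) :
    ∃ g : Cfsg.Spor.He, g * ev (gy xr y1 y2) w * g⁻¹ = z := by
  obtain ⟨p, hp, rfl⟩ := List.mem_map.mp h
  have h1 := allW_sound chkB _ (List.mem_map.mpr ⟨p, hp, rfl⟩)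
  rw [ev_append, ev_append, ev_one] at h1
  refine ⟨ev (gy xr y1 y2) p.2, ?_⟩
  rw [h1, mul_inv_cancel_right]
  rfl

theorem of_certA {w : List ℕ} (h : w ∈ certA.map Prod.fst) :
    ∃ g : Cfsg.Spor.He, g * ev (gy xr y1 y2) w * g⁻¹ = v := by
  obtain ⟨p, hp, rfl⟩ := List.mem_map.mp h
  have h1 := allW_sound chkA _ (List.mem_map.mpr ⟨p, hp, rfl⟩)
  rw [ev_append, ev_append] at h1
  refine ⟨ev (gy xr y1 y2) p.2, ?_⟩
  rw [h1, mul_inv_cancel_right]
  rfl

theorem exists_ph : ∃ ph : ℕ → Cfsg.Spor.He, Emb z ph ∧ ∀ n < 12, ph (cx n) = gx xr n := by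
  obtain ⟨ph, E, hl⟩ := exists_emb z iota hyp.inj hyp.range (fun _ => hyp.map_zz)
  refine ⟨ph, E, fun n hn => ?_⟩
  rw [← iota_xC n hn]
  exact hl (gx TwoSix.OfSt.xC n : CC).1 (gx TwoSix.OfSt.xC n : CC).2 (cx n) (C_cx n) (TwoSix.OfSt.toMat_cx n)

theorem card_he : Nat.card Cfsg.Spor.He = 4030387200 := by
  obtain ⟨h1, h2⟩ := Cfsg.Agent.SporadicB.HeUpper.card_he_le
  exact (injective_of_card_le h2).2.1

theorem card_centralizer : Nat.card (Subgroup.centralizer ({z} : Set Cfsg.Spor.He)) = 21504 := by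
  rw [← hyp.range, ← Nat.card_congr (MonoidHom.ofInjective hyp.inj).toEquiv, card_CC]

/-- the involutions commuting with `z` -/
theorem cases_comm {t : Cfsg.Spor.He} (ht : t * t = 1) (h1 : t ≠ 1) (hz : t * z = z * t) :
    (∃ g, g * t * g⁻¹ = z) ∨ ∃ g, g * t * g⁻¹ = v := by
  obtain ⟨ph, E, hph⟩ := exists_ph
  obtain ⟨c, hc, rfl⟩ := E.surj t hz
  have e1 : mu c c = Held.Code.e1 := by
    apply E.inj (hc.mul hc) Held.Code.C_e1
    rw [E.mul hc hc, ht, ph_e1 E]
  have e2 : c ≠ Held.Code.e1 := by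
    rintro rfl
    exact h1 (ph_e1 E)
  obtain ⟨w, hw, g, -, hg⟩ := exists_min E c c le_rfl hc e1 e2
  have hlt : ∀ w ∈ mins, ∀ l ∈ w, l < 12 := by decide
  have e3 : ph (evC w) = ev (gy xr y1 y2) w := by
    rw [← ev_ph E]
    apply ev_congr
    intro l hl
    rw [gy_of_lt xr y1 y2 (hlt w hw l hl), Held.EmbSt.gx_ph E, hph l (hlt w hw l hl)]
  rw [e3] at hg
  rcases mins_cases w hw with h | h
  · left
    obtain ⟨g', hg'⟩ := of_certB h
    refine ⟨g' * g, ?_⟩
    rw [← hg', ← hg]
    group
  · right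
    obtain ⟨g', hg'⟩ := of_certA h
    refine ⟨g' * g, ?_⟩
    rw [← hg', ← hg]
    group

/-- every involution has a conjugate commuting with `z` -/
theorem exists_comm {t : Cfsg.Spor.He} (ht : t * t = 1) : ∃ g : Cfsg.Spor.He, g * t * g⁻¹ * z = z * (g * t * g⁻¹) := by
  have : Fact (Nat.Prime 2) := ⟨Nat.prime_two⟩
  have hp : IsPGroup 2 (Subgroup.zpowers t) := by
    rw [IsPGroup.iff_card]
    have h1 : Nat.card (Subgroup.zpowers t) ∣ 2 ^ 1 := by
      rw [Nat.card_zpowers, pow_one]
      exact orderOf_dvd_of_pow_eq_one (by rw [pow_two, ht])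
    obtain ⟨k, -, hk⟩ := (Nat.dvd_prime_pow Nat.prime_two).mp h1
    exact ⟨k, hk⟩
  have hidx : ¬ 2 ∣ Nat.card (Cfsg.Spor.He ⧸ Subgroup.centralizer ({z} : Set Cfsg.Spor.He)) := by
    have h1 := Subgroup.card_eq_card_quotient_mul_card_subgroup (Subgroup.centralizer ({z} : Set Cfsg.Spor.He))
    rw [card_he, card_centralizer] at h1
    omega
  obtain ⟨q, hq⟩ := hp.nonempty_fixed_point_of_prime_not_dvd_card
    (Cfsg.Spor.He ⧸ Subgroup.centralizer ({z} : Set Cfsg.Spor.He)) hidx
  obtain ⟨g, rfl⟩ := QuotientGroup.mk_surjective q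
  have h1 : (⟨t, Subgroup.mem_zpowers t⟩ : Subgroup.zpowers t) •
      (g : Cfsg.Spor.He ⧸ Subgroup.centralizer ({z} : Set Cfsg.Spor.He)) = g := hq _
  have h2 : ((t * g : Cfsg.Spor.He) : Cfsg.Spor.He ⧸ Subgroup.centralizer ({z} : Set Cfsg.Spor.He)) = g := h1
  rw [eq_comm, QuotientGroup.eq, Subgroup.mem_centralizer_singleton_iff] at h2
  refine ⟨g⁻¹, ?_⟩
  rw [inv_inv, mul_assoc g⁻¹ t g]
  exact h2

/-- **Every involution of the Held group is conjugate to `z` or to `v`.** -/
theorem two_classes {t : Cfsg.Spor.He} (ht : t * t = 1) (h1 : t ≠ 1) :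
    (∃ g, g * z * g⁻¹ = t) ∨ ∃ g, g * v * g⁻¹ = t := by
  obtain ⟨g, hg⟩ := exists_comm ht
  rcases cases_comm (t := g * t * g⁻¹) (by
      calc g * t * g⁻¹ * (g * t * g⁻¹) = g * (t * t) * g⁻¹ := by group
        _ = 1 := by rw [ht]; group) (by
      intro h
      apply h1
      calc t = g⁻¹ * (g * t * g⁻¹) * g := by group
        _ = 1 := by rw [h]; group) hg with ⟨k, hk⟩ | ⟨k, hk⟩
  · left
    refine ⟨(k * g)⁻¹, ?_⟩
    rw [← hk]
    group
  · right
    refine ⟨(k * g)⁻¹, ?_⟩
    rw [← hk]
    group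

/-- `v` is conjugate to the generator `a` -/
theorem v_a : xr 1 3 * v * (xr 1 3)⁻¹ = PresentedGroup.of Gen.a := by
  have hs : xr 1 3 * xr 1 3 = 1 := st.sq 5
  rw [inv_eq_of_mul_eq_one_right hs]
  have e : xr 1 3 * v * xr 1 3 = ev (gy xr y1 y2) [5, 0, 8, 5] := by
    simp only [v, ev_cons, ev_nil, mul_one, g5, mul_assoc]
  rw [e]
  have key : ∀ i : Fin 2058, im [5, 0, 8, 5] i = act [.a] i →
      phi (ev (gy xr y1 y2) [5, 0, 8, 5]) i = phi (PresentedGroup.of Gen.a) i := by
    intro i hi
    apply Fin.ext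
    rw [im_spec, hi, ← phi_wd_apply]
    rfl
  refine eq_of_base (key 0 ?_) (key 1 ?_) (key 32 ?_) (key 8 ?_) <;> decide +kernel

/-- `z` is conjugate to the generator `d` -/
theorem z_d : ∃ g : Cfsg.Spor.He, g * z * g⁻¹ = PresentedGroup.of Gen.d := by
  refine ⟨ev (gy xr y1 y2) [7,1,11,10,15,10,11,12], ?_⟩
  rw [mul_inv_eq_iff_eq_mul]
  have e : ev (gy xr y1 y2) [7,1,11,10,15,10,11,12] * z = ev (gy xr y1 y2) [7,1,11,10,15,10,11,12,3] := by
    rw [show ([7,1,11,10,15,10,11,12,3] : List ℕ) = [7,1,11,10,15,10,11,12] ++ [3] from rfl, ev_append, ev_one]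
    rfl
  rw [e]
  have key : ∀ i : Fin 2058, im [7,1,11,10,15,10,11,12,3] i = act [.d] (im [7,1,11,10,15,10,11,12] i) →
      phi (ev (gy xr y1 y2) [7,1,11,10,15,10,11,12,3]) i =
        phi (PresentedGroup.of Gen.d * ev (gy xr y1 y2) [7,1,11,10,15,10,11,12]) i := by
    intro i hi
    apply Fin.ext
    rw [im_spec, hi, map_mul, Equiv.Perm.mul_apply, phi_of, pm_apply, im_spec]
    rfl
  refine eq_of_base (key 0 ?_) (key 1 ?_) (key 32 ?_) (key 8 ?_) <;> decide +kernel

/-- the same with the generator `a` -/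
theorem two_classes_a {t : Cfsg.Spor.He} (ht : t * t = 1) (h1 : t ≠ 1) :
    (∃ g, g * z * g⁻¹ = t) ∨ ∃ g, g * PresentedGroup.of Gen.a * g⁻¹ = t := by
  rcases two_classes ht h1 with h | ⟨g, hg⟩
  · exact Or.inl h
  · right
    refine ⟨g * (xr 1 3)⁻¹, ?_⟩
    rw [← v_a, ← hg]
    group

/-- the same with the generators `a`, `d` -/
theorem two_classes_ad {t : Cfsg.Spor.He} (ht : t * t = 1) (h1 : t ≠ 1) :
    (∃ g, g * PresentedGroup.of Gen.d * g⁻¹ = t) ∨ ∃ g, g * PresentedGroup.of Gen.a * g⁻¹ = t := by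
  rcases two_classes_a ht h1 with ⟨g, hg⟩ | h
  · left
    obtain ⟨k, hk⟩ := z_d
    refine ⟨g * k⁻¹, ?_⟩
    rw [← hk, ← hg]
    group
  · exact Or.inr h

end Cfsg.Agent.KFacts.He.Classes

private theorem dce_0c3380134f73 : _root_.True := by
  try have : _root_.True := by simp only [_root_.Cfsg.Agent.KFacts.He.Classes.v.eq_1]
  exact _root_.True.intro
end
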