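import Mathlib
import Cfsg.Agent.FixBN.HeStab
import Cfsg.Agent.SporadicA.PlaneFour
import Cfsg.Agent.ONType.PslCard
import Cfsg.Agent.S0249
import Cfsg.Prelude.Def_CaseTheorems
import Cfsg.Agent.FastGrp
import Cfsg.Agent.Prune
set_option linter.all false

section
prune_inst 0x7ffefffbaffcbddfffff7e7fffffdffffbfdffffffdffbfbffedfbffffffebeffbe5fbafffecd8ffded7e2b6b8fc7b53f9fffeffee6bfd7ffffd5ff45ffbffdfffffbfad51f6be7e1ffe6ffffbf97fdfffffffffffffffffffffffffffffffffffffffffffff

-- part: KFacts/He/Lv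
section
set_option linter.all false
open scoped Cfsg.Agent.FastGrp

/-!
# Centralizers in the Held group by certificates

An element `c` of the presented Held group commuting with some of the generators and fixing some of the
2058 points is determined level by level: the colours (orbitals) restrict the image of the next point to
the images under explicit words.  `mem_of_chk` : if all checks hold then `c` is the product of one word
from each level.
-/

set_option autoImplicit false

namespace Cfsg.Agent.KFacts.He.Lv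

open Cfsg.Spor Cfsg.Spor.He Cfsg.Agent.SporadicB.HePerm
open Cfsg.Agent.FixBN.HeStab

/-- number of a generator -/
def gc : Gen → ℕ
  | .a => 0
  | .b => 1
  | .c => 2
  | .d => 3
  | .e => 4
  | .f => 5
  | .g => 6

theorem gc_inj {x y : Gen} (h : gc x = gc y) : x = y := by
  cases x <;> cases y <;> first | rfl | exact absurd h (by decide)

/-- the word uses only the letters of `al` -/
def ovr (al w : List Gen) : Bool := w.all fun x => al.any fun y => Nat.beq (gc x) (gc y)

theorem of_ovr {al w : List Gen} (h : ovr al w = true) : ∀ x ∈ w, x ∈ al := by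
  intro x hx
  unfold ovr at h
  rw [List.all_eq_true] at h
  have h1 := h x hx
  rw [List.any_eq_true] at h1
  obtain ⟨y, hy, h2⟩ := h1
  rw [gc_inj (Nat.eq_of_beq_eq_true h2)]
  exact hy

/-- membership in a list of numbers -/
def elemN (a : ℕ) (l : List ℕ) : Bool := l.any fun b => Nat.beq a b

theorem of_elemN {a : ℕ} {l : List ℕ} (h : elemN a l = true) : a ∈ l := by
  unfold elemN at h
  rw [List.any_eq_true] at h
  obtain ⟨y, hy, h2⟩ := h
  rw [Nat.eq_of_beq_eq_true h2]
  exact hy

/-- One level: the next point `p`, tests `colr y (w y) = v`, tests `col (u y) = v` with `u (w f) = 0` for a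
fixed point `f`, the words and the images of `p` under them. -/
structure Lvl where
  p : ℕ
  ts : List (List Gen × ℕ)
  fs : List (ℕ × List Gen × List Gen × ℕ)
  ws : List (List Gen)
  ys : List ℕ

/-- the tests of the first kind -/
def tsOk (y : ℕ) (ts : List (List Gen × ℕ)) : Bool :=
  ts.all fun t => Nat.beq (colr y (act t.1 y)) t.2

/-- the tests of the second kind -/
def fsOk (y : ℕ) (fs : List (ℕ × List Gen × List Gen × ℕ)) : Bool :=
  fs.all fun e => Nat.beq (col (act e.2.2.1 y)) e.2.2.2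

/-- the images of the point -/
def ysOk (p : ℕ) : List (List Gen) → List ℕ → Bool
  | [], [] => true
  | w :: ws, y :: ys => and (Nat.beq (act w p) y) (ysOk p ws ys)
  | _, _ => false

theorem of_ysOk {p : ℕ} : ∀ {ws : List (List Gen)} {ys : List ℕ}, ysOk p ws ys = true →
    ∀ y ∈ ys, ∃ w ∈ ws, act w p = y := by
  intro ws
  induction ws with
  | nil =>
    intro ys h y hy
    cases ys with
    | nil => exact absurd hy List.not_mem_nil
    | cons z zs => exact absurd (show false = true from h) (by decide)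
  | cons w ws ih =>
    intro ys h y hy
    cases ys with
    | nil => exact absurd hy List.not_mem_nil
    | cons z zs =>
      have h' : and (Nat.beq (act w p) z) (ysOk p ws zs) = true := h
      rw [Bool.and_eq_true] at h'
      rcases List.mem_cons.mp hy with h1 | h1
      · exact ⟨w, List.mem_cons_self, by rw [h1]; exact Nat.eq_of_beq_eq_true h'.1⟩
      · obtain ⟨v, hv, hvy⟩ := ih h'.2 y h1
        exact ⟨v, List.mem_cons_of_mem _ hv, hvy⟩

/-- the check of one level, without the loop ovr all points -/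
def chk0 (al : List Gen) (F : List ℕ) (l : Lvl) : Bool :=
  and (Nat.blt l.p 2058) (and
    (l.ts.all fun t => and (ovr al t.1) (Nat.beq (colr l.p (act t.1 l.p)) t.2)) (and
    (l.fs.all fun e => and (elemN e.1 F) (and (ovr al e.2.1)
      (and (Nat.beq (act e.2.2.1 (act e.2.1 e.1)) 0) (Nat.beq (col (act e.2.2.1 l.p)) e.2.2.2)))) (and
    (l.ws.all fun x => and (al.all fun m => chkB (x ++ [m]) (m :: x)) (F.all fun f => Nat.beq (act x f) f))
    (ysOk l.p l.ws l.ys))))

/-- the loop ovr all points -/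
def chk1 (l : Lvl) : Bool :=
  allBelow 2058 fun y => bif tsOk y l.ts then (bif fsOk y l.fs then elemN y l.ys else true) else true

/-- all levels -/
def chkAll (al : List Gen) : List ℕ → List Lvl → Bool
  | F, [] => and (and (elemN 0 F) (elemN 1 F)) (and (elemN 32 F) (elemN 8 F))
  | F, l :: ls => and (chk0 al F l) (and (chk1 l) (chkAll al (l.p :: F) ls))

/-- `c` fixes the point with number `f` -/
def Fx (c : Cfsg.Spor.He) (f : ℕ) : Prop := ∃ h : f < 2058, phi c ⟨f, h⟩ = ⟨f, h⟩

/-- the generator -/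
def gn (x : Gen) : Cfsg.Spor.He := PresentedGroup.of x

theorem wd_cons (x : Gen) (w : List Gen) : wd (x :: w) = gn x * wd w := rfl

theorem wd_nil : wd [] = 1 := rfl

theorem wd_append (v w : List Gen) : wd (v ++ w) = wd v * wd w := by
  unfold wd
  rw [List.map_append, List.prod_append]

theorem wd_one (x : Gen) : wd [x] = gn x := by rw [wd_cons, wd_nil, mul_one]

/-- the action of a word on a point -/
theorem act_eq (w : List Gen) (y : Fin 2058) : act w y = (phi (wd w) y : ℕ) := (phi_wd_apply w y).symm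

theorem comm_wd {c : Cfsg.Spor.He} {al w : List Gen} (hc : ∀ m ∈ al, c * gn m = gn m * c)
    (h : ∀ x ∈ w, x ∈ al) : c * wd w = wd w * c := by
  induction w with
  | nil => rw [wd_nil, mul_one, one_mul]
  | cons x w ih =>
    rw [wd_cons, ← mul_assoc, hc x (h x List.mem_cons_self), mul_assoc,
      ih fun y hy => h y (List.mem_cons_of_mem _ hy), mul_assoc]

theorem phi_mul_apply (x y : Cfsg.Spor.He) (i : Fin 2058) : phi (x * y) i = phi x (phi y i) := by
  rw [map_mul, Equiv.Perm.mul_apply]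

theorem phi_inv_apply {x : Cfsg.Spor.He} {i j : Fin 2058} (h : phi x i = j) : phi x⁻¹ j = i := by
  rw [← h, ← phi_mul_apply, inv_mul_cancel, map_one]; rfl

/-- One level. -/
theorem level {al : List Gen} {F : List ℕ} {l : Lvl} (h0 : chk0 al F l = true) (h1 : chk1 l = true)
    {c : Cfsg.Spor.He} (hc : ∀ m ∈ al, c * gn m = gn m * c) (hF : ∀ f ∈ F, Fx c f) :
    ∃ x ∈ l.ws, (∀ m ∈ al, ((wd x)⁻¹ * c) * gn m = gn m * ((wd x)⁻¹ * c)) ∧
      ∀ f ∈ l.p :: F, Fx ((wd x)⁻¹ * c) f := by
  unfold chk0 at h0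
  simp only [Bool.and_eq_true] at h0
  obtain ⟨hp, hts, hfs, hws, hys⟩ := h0
  have hp' : l.p < 2058 := Nat.le_of_ble_eq_true hp
  rw [List.all_eq_true] at hts hfs hws
  set p : Fin 2058 := ⟨l.p, hp'⟩ with hpdef
  have hpv : (p : ℕ) = l.p := rfl
  have ht : tsOk (phi c p) l.ts = true := by
    unfold tsOk
    rw [List.all_eq_true]
    intro t ht
    have h2 := hts t ht
    rw [Bool.and_eq_true] at h2
    have hcw := comm_wd hc (of_ovr h2.1)
    have e1 : act t.1 (phi c p) = (phi c (phi (wd t.1) p) : ℕ) := by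
      rw [act_eq, ← phi_mul_apply, ← hcw, phi_mul_apply]
    rw [e1, colr_inv, ← act_eq, hpv]
    exact h2.2
  have hf : fsOk (phi c p) l.fs = true := by
    unfold fsOk
    rw [List.all_eq_true]
    intro e he
    have h2 := hfs e he
    simp only [Bool.and_eq_true] at h2
    obtain ⟨g1, g2, g3, g4⟩ := h2
    obtain ⟨hlt, hfx⟩ := hF _ (of_elemN g1)
    have hcw := comm_wd hc (of_ovr g2)
    have hu : phi (wd e.2.2.1 * c) (phi (wd e.2.1) ⟨e.1, hlt⟩) = 0 := by
      rw [phi_mul_apply, ← phi_mul_apply c, hcw, phi_mul_apply, hfx]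
      apply Fin.ext
      rw [← act_eq, ← act_eq]
      exact Nat.eq_of_beq_eq_true g3
    have hu0 : phi (wd e.2.2.1) (phi (wd e.2.1) ⟨e.1, hlt⟩) = 0 := by
      apply Fin.ext
      rw [← act_eq, ← act_eq]
      exact Nat.eq_of_beq_eq_true g3
    have e1 := colr_eq _ hu p
    have e2 := colr_eq _ hu0 p
    rw [phi_mul_apply] at e1
    rw [act_eq, ← e1, e2, ← act_eq, hpv]
    exact g4
  have h3 := of_allBelow h1 (phi c p) (phi c p).2
  rw [ht, hf, cond_true, cond_true] at h3
  obtain ⟨x, hx, hxp⟩ := of_ysOk hys _ (of_elemN h3)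
  have hxc : phi (wd x) p = phi c p := by
    apply Fin.ext
    rw [← act_eq]
    exact hxp
  have h4 := hws x hx
  rw [Bool.and_eq_true, List.all_eq_true, List.all_eq_true] at h4
  refine ⟨x, hx, fun m hm => ?_, fun f hf' => ?_⟩
  · have e1 := eq_of_chkB (h4.1 m hm)
    rw [wd_append, wd_one, wd_cons] at e1
    have e2 : Commute (wd x) (gn m) := e1
    have e3 : Commute c (gn m) := hc m hm
    exact (e2.inv_left.mul_left e3)
  · rcases List.mem_cons.mp hf' with rfl | hf'
    · refine ⟨hp', ?_⟩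
      rw [phi_mul_apply]
      exact phi_inv_apply hxc
    · obtain ⟨hlt, hfx⟩ := hF f hf'
      refine ⟨hlt, ?_⟩
      rw [phi_mul_apply, hfx]
      apply phi_inv_apply
      apply Fin.ext
      rw [← act_eq]
      exact Nat.eq_of_beq_eq_true (h4.2 f hf')

/-- products of one word from each level -/
def Pr : List Lvl → Cfsg.Spor.He → Prop
  | [], c => c = 1
  | l :: ls, c => ∃ x ∈ l.ws, ∃ d, Pr ls d ∧ c = wd x * d

/-- **The centralizer certificate.** -/
theorem mem_of_chk {al : List Gen} : ∀ {ls : List Lvl} {F : List ℕ}, chkAll al F ls = true →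
    ∀ {c : Cfsg.Spor.He}, (∀ m ∈ al, c * gn m = gn m * c) → (∀ f ∈ F, Fx c f) → Pr ls c := by
  intro ls
  induction ls with
  | nil =>
    intro F h c hc hF
    have h' : and (and (elemN 0 F) (elemN 1 F)) (and (elemN 32 F) (elemN 8 F)) = true := h
    simp only [Bool.and_eq_true] at h'
    obtain ⟨⟨h0, h1⟩, h2, h3⟩ := h'
    show c = 1
    have e1 : phi (1 : Cfsg.Spor.He) = 1 := map_one phi
    apply eq_of_base
    · rw [e1]; exact (hF 0 (of_elemN h0)).2
    · rw [e1]; exact (hF 1 (of_elemN h1)).2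
    · rw [e1]; exact (hF 32 (of_elemN h2)).2
    · rw [e1]; exact (hF 8 (of_elemN h3)).2
  | cons l ls ih =>
    intro F h c hc hF
    have h' : and (chk0 al F l) (and (chk1 l) (chkAll al (l.p :: F) ls)) = true := h
    simp only [Bool.and_eq_true] at h'
    obtain ⟨x, hx, hxc, hxF⟩ := level h'.1 h'.2.1 hc hF
    exact ⟨x, hx, _, ih h'.2.2 hxc hxF, by rw [mul_inv_cancel_left]⟩

/-- Products lie in a subgroup containing the words. -/
theorem mem_of_pr {S : Subgroup Cfsg.Spor.He} : ∀ {ls : List Lvl}, (∀ l ∈ ls, ∀ x ∈ l.ws, wd x ∈ S) →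
    ∀ {c : Cfsg.Spor.He}, Pr ls c → c ∈ S := by
  intro ls
  induction ls with
  | nil => intro _ c h; rw [show c = 1 from h]; exact S.one_mem
  | cons l ls ih =>
    rintro h c ⟨x, hx, d, hd, rfl⟩
    exact S.mul_mem (h l List.mem_cons_self x hx) (ih (fun l' hl' => h l' (List.mem_cons_of_mem _ hl')) hd)

end Cfsg.Agent.KFacts.He.Lv

/-! ### Fast versions of `act` and `colr` for the kernel: straight-line arithmetic on packed tables -/

namespace Cfsg.Agent.KFacts.He.Fast

open Cfsg.Spor Cfsg.Spor.He Cfsg.Agent.SporadicB.HePerm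
open Cfsg.Agent.FixBN.HeStab Cfsg.Agent.KFacts.He.Lv

/-- the table of the identity -/
noncomputable def idT : ℕ :=
  Nat.div (Nat.sub (Nat.add 4096 (Nat.mul 2057 (Nat.pow 4096 2059))) (Nat.mul 2058 (Nat.pow 4096 2058))) 16769025

/-- one table in front of others -/
noncomputable def pk (a b : ℕ) : ℕ := Nat.add a (Nat.shiftLeft b 24696)

/-- the identity and the generators -/
noncomputable def tabA : ℕ :=
  pk idT (pk Data.ta (pk Data.tb (pk Data.tc (pk Data.td (pk Data.te (pk Data.tf Data.tg))))))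

/-- table of a product -/
noncomputable def u1 : ℕ := 0x72d3bd6e05b52aa75143118f3374405344cc19016f1574681075844f85b176e6eb1964245af6af19a4d755d4df4a059674939b12f6f024f1f17444660850f96ff1651291ee1f50fe7ad3527e40817e02711f23a621b07e3382f25a423013c66334473e7641377451813457206b37504657cc3207dd7d06b251b34b5822f02ee16a7675d71cc72c16e57a2cc5867351825a81fb13217b6627623c00c73080bf05817434325b3e93056e25384fe1517c53bf42021d1a81475874cb4301d531245e51a5a14d360432e38276f78f12a55680325e44d1117f41f645b2f17e51940711892ff7932ed73155341341844b77f1bb6805521ba3df5181c26204fa7662f62861c023d4a633f64b7ea59d73446e4867df1a78023f370c53a19e25349f23c5767697ed12c7fd26e5434bd73d0c620063221364a6545077c76084de5541611ff4813e82411124084c354d66b2936cf57409e77a76336d6553db0a62d83531e73e16761582d322867771a60045643839125f26a10a41f45c58d5e667f3de4d63964c23c37437c35097c95604d14dd3b05e25170144c960e6832474dc2ba5e049b72f4e05297f35b020669c4bf56853e2566242a943c53f13d51d64d18d11613000923941742e54a4334b05271e81ce43a526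3d47924ce12e5112573f649a6b751c22c6984ec6b93c921a0fb4e367c4e21281d03b20a31a96b52a110c10d1ed50520a3a41781aa1fd17f5c235b7124167b062c6ea7c26ef41e08616d3ae4237b344a2b91f859116b3f03a74e769b3b310828549072e35f2036be60329b19918338f2201da61c46c2d01d16e658859245347259724d46b5315694736bd7232601fe1c140c4794fc1664fd40e52f65626b0f860f3b662f10228a43b1424bc4eb7586e927c11800a07f20c32a7ee0cb0793c27c042761830a38a05e1541491b24287b22b028825970142245210f50105513f29d1553223352cf79048965045a57c61d6ec7575ae35c42b4cf79427e6e711061e1a044838334c50e78e79d38e5801cd44f35633d57021c78b27a4065d210b61a71174736821870e80451e11347042d3e67a26283e32162a63fd2bc25d0930e85fb5fa7760e045d3e067e04d41905a51f2837105e419336b12b47e44723132f56322a2627654ab1cf3243a80646cb0807065f94b367d0c444972b1881a305b62679c77064e51970b57d3984d22d92f95c81a43d72072086c82586214875f628d6456b64ef6ee7eb53c29449243d6e520f6a756a4cd4c119c6ac2de23a14333629020e0e965f1a21eb2811bc56b32540471822e2c263444c26657133327d75963b62778c70439530c7a42344157cf4097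ce73314c0be2c64aa4fb6f92cd58a3bc02c4c02c53346842b140d2d404b1560436096d03ce0b70770d35576cd54543e0f71d34580d05a25466cc6490bd58b1ac4596c22977fa57b76a7b15a67d97ac7fb6d165e63f5357726578076c97823ed5a53c15786295286236f74147bf2a43513ec6ca55168520b71d1e52c85c530459016860a5623030c518476176b27979b7093ca6de0e67276fa63934857720142557f6f352c77b6134571403322c31e02bf4af3b561b5984216816ab3142d14a84b434d46f7132a56977b465a05d6536bb4916f21d442c7cd5216862877787717b87304ad6c03fc48c4b129831a71e3d52c00b36c72b308b4051f02921b82723c52353f85cb2ca48431b65936c7a05361a65857e65e14b85f22ce6370fc5305a753d4851851b41863eb6f45201351d72c70695891ea49337d1a117c6a66fc1f441222b6ad3f93ea43513a3b96794424db1db32606c1591983bb1454a71b02a87225db3401fa1015ab78d04e36f5df5eb52258c37e3e74072fb4985bb3112376c16aa1776d81f32915a961034a7773b85143a96825ac3621e606848036666e7466ed7895e570d44447f26f54f11921f2bb7997732b24b643738423e15d4e413b3862df09d2fa0a21c97372e33792b53932db1a538571c3554a42d546917052e7e339c34635719215e4d83c807c28c2a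754250d3f45150fd6878091df3ab7e252d69a69e6606994363dc5751ef26d77c34f5656b475a49950a4c45fd2294716900d22c13317f074144367a3394546bc2360aa76c3d658e7af2052751717b51ec68f69650229574a7e77814617fc7957dc7973f15407e177473675b7552f472179669f1d83d12e97052686e37c86bf52548268c63016431318c2fd50867b1153b46f659b73c06556427875e6ae78359a50c7794836315956697d83d23542111972654002965bf2264026fb5995322c428e0e70ab06613602103b0cd1172214c86176d356f5be23f3be1bd5b339080848a5cc6414d55e738130f62b4963191755397d26195a036a66566759e5a318e4ba16022f7846050ca18a6940722427a878017a4295d87c67386b17e98005943273cc2505f11632d674b75c74c59c54e07b64775d64c1504b26ce18048f03c5dd5f824070776d0281220083632241e97ff08f21446001f00d15272600e06f0c80b61234263070392d27be71752b03d26966a41c51303a4f902054720450f2276c56f106742f45510357e7f60c25495c74b52a34c755a5d95e35e87327c10d907000572910000c01e45f19f7408055836067db50427312513809519514b15f7da46d4c61c755810901525a08830b46404a4ca0a026154b09f1dc28f6db11b2e611e03f55f3f25c96a00af36411c2460c3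4391d21e10a808d0003023060010130a50923751c644e2192e060708e5724ea4bb4e131c3942a25596dd5dc33a21748e1cb0ac1c87ec5d624b7f521e2527e87532ab59f6d616950064338c4015aa3806da5c43002543ef79f7d11533490ea7fe78831d0de1485370d477521546a60b4d957356e4d05247d45fc35028263a09b0ef3656580f637a3105d32b67546fe17908734e0e53153ac22d3727256a35f747d66c7523f57244ed5ed1670607f91043597f82be56d1b90753d87b778a2c94e929f44563c50615b2f82d76f81053c66025506d512d3ff6d95f31d64343a27a31f76a84e819b7bc2ae5ce38d3747bb61430d6513771063aa3cf71b2994c544633e6481316115447083616467192776936221c36b85ad2f71271395c367842a3d97aa1ad5488017482ad3fb3fe5bc35a09616c4513d359325156c5b948824329c33b6334115230a70470d604c4a562e18b7165161e40820831dd5b64f70ba4b717612451263850365c4947021be4973e27f258f2b737f52a3c42b85d43a52dc1146a532b3883012383921442e55555cf40a67379a39d6c606b1c461f7a15ea32d56162a63d30e44119d2e468b41a4b95662225ca6a121268875f2fc6704f32706d46404a138b66147b3c77c47155b40b40ec1e31463b73176d735e6363e56161ab7b95ff68940f7ae48d05c3dd54c5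b26255c113369179824427b60c0a935874243f3975da40307366f78768a1bf5bd4634327d650b2027ab7f749d07a03756704000b3734e60060df0e465b7ef1d94d408407409a7a75f470f66d7d708a09074e6e85f570a7d57cb77e69541b4a91b57b66926ba0eb6e402f76040b17e1207a57860cf2645d12bd37b3897a967449e49c6dc4ff49566848b5e927f24a2e72eb22503124c0ed2804a20b20d57857a60342553303a32dd55c0763180f36720240523210d867535d4f241d3d00dd0783ba0bc1b76d201d1720f514e3160160c02f50ae2ea4be0072103671b65d001741063528413451069d18722305f19133c71f5cd04803805102a4774ae5b70497de65d6a474f2320321730970910890e306e0cc0227913092ec39e09846211d73f74d8060417bd3cb31f02900414d0500036fd2fe0450460d14743783ad6665c64500dc11f53b04f13e10e26c15c25c5ec2e22ac5d50440a417d0e20944f51fc29e01911a4f62092a01af24873b7d314a1ae0116b07396151412895410c10db55b0a13ee0ce2e80c93693875ba2450b10bb1f90270f03a03a172839f37c6f532c3991ca6a955e01272a00231e0b92f33230f14ee3af1c50f26c37682330b01624f00ad6df3415fe1263764e577d7ca0334ac6526643cd5de1217ba7141b315a27479e6e14da70002d1b13f74a33b12b429a36e64f3706a26716121e247564470326324e3294f10ee36060d68d7f14f43da64227668e63e0263e45f05ef1de0d77563fa0fa73a2af02e0e134201b03024947a62d0250425795c04766015ee6c447c4670b820d0ff5b82cb06226737128b09c53308c23b06a09947807d0da2ef5812e13280100f40b503603514f3472da39a00f06d05702301c05401803e05606105905302b06301a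
/-- table of a product -/
noncomputable def u2 : ℕ := 0x2e37ce59180168566e3227a04fb7b25c02ee4ea32835e7613326ff57575f75a5725dc7b52e45981de2cc5596a92b05013795b87be2b679d3265f44fa37a54839333175632c55830e40f1ca5784b05764dc3486886c36504307f569966174533543c7b07fa2f266d06d6b57274487256bf6f935d7cc6d83592fa3e354a24d69e62b7c562c66466c34c3027cf6397db32d3565ee7f134075132955a7b768146638b5772db7fd4653523ed69550a6297e735168e6f44615a534d4ab4ac47a7af6225ba31b42377170678c5376ed4155454fc71177230a5692ec6d67623075d05222766da7475b975352c2dc5211c66de49c7e22003c852d4df6c76ca3b65a444168b4ff79a7a42d53557404395ed6207e457956a4cd66034153c7b87e34995a979153815465364a2e54200306f068652e3c74e32e760b4243601ef20101676b4d860077c7e047b5442801605742d672e56505956d2f10562ed10f5894547344714134c41ad3a619469b6497c708527929312e38f10745b68f47938e0431d504b66310842a6893b916b1a82641ff2ae4ce4426734681b622b2875714cf6574433824e74f445769a4cc4f33e83b75ce5904d540846059371553365956f53971a7313171121b01ea1422972d071257b3bf30829e4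7e12873336378438177a3641957094a84185835324a15ef46f7e12593e651821f2bf25542206f4196173d34a76762711f305872b7190551f73f96ea0ee29558a25a25e29907072f29a4622574c780261d4673a34c852b61c0fc6781fe1d229b2a951678a7d44ec67e78d78b04e53f2ba7ef78e45535433812924a1d11026681863453cb4d750e5277e635012f6f66254102bd2b735a62d53a78f5a31e627c2352b45c33a51af6e60b70b60f53156d16a47382d36d539c2702d475b6a24d68046344257390c65e66e87c93e268462774d4f86c430d5e56835367ff2081f92a83da2695bd19018f53e07913504c04427a6804597f21030575040d957024705b37f05441c1e515b2c464e4581d345626b5517f75467fe6a515509c7d63b27077d50e71e41aa5677853bc4115b777d4b30bb21860c6f31972442342046fb45d4361dd0e87d759e2ea54042c4813ea7932eb77658814d5ac7356b817973265209818552977f1e960824328e36c17150f37211f0ec1163a213d3ce51c7027795114b433c3e429150d11817e4e049707425025355022f14565a46a14c0df48a5261ba14120b1df1e22cd1772b14b52421b875907d6031fc1c76fe29c6470dc37e13872158c1f87166754171660b40ba26e5b61997836705433a054246e5b039f18d3972bb6cd5df33e15170e58b39b19159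563645f6f77b168a03b7f33b851b4466237aa7fc0097a90a85615170f75132c57c64344a92ca07e47c4d04ed1e308449e13b06c4eb5545531dc0ea2b36740c105c7555de5e04d210b10a00c7d27d31535e336d0c972973e6ef06867a73c4ef00d4ca40c4c32393126666ce26a55531a79467b40326f25b79e31918a13145015924843117f61a64463a7643243d83f22e149140a52479f7bc6bc3254046d223711775d4056d04aa5a77145977a148d3d63e553022648830f2271307a87bb5ae2037a27c363b0651b27183fa1d00671152c655d7c236928b2943852905c448042861f7da7d07441011f56f83921567231e01f16d344a1a34524e11f03c45925e250b0812073fc59a72c3bb1f41d953151a5d82141a75142e274344f1ee3e741b4f045a21c6b24872ab08a6717223f13b44a34dd5e12921722893ff5d328d3dc28f12a11127e25f7bf7205992e92d861106a41219825c25162e7bd63e2065353a94987ae1a24353f51a916c7284072f513232e1e118c0fe24116354c17d6ac51074250c3343df5941ab71021b20c6c02f873f6ee2f942f79231447643d56244d7466d94740717d840e4e26f21cb15811a15f0ed09766971c45c48516d53471d6145fe2cf0694b72b944752a6ab17647d1ae37644e11940b5cc0891ce6c876758d40633d4b208351f4406c97523614c5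4be4e876a4725ea5685845e439e3866132fe2de34b60d0823784094896b63746a060f3d764d6775233914bf3980c73a751e3656563d07c063062f0ca5d92aa38367d3ba7ea1eb3c92812653c626d0ff2b56284147cb1c869d31f7c84d158655f57e3ae1c97f431d6401ec68c2825c53cd3be77e3115f549537b70f20f7f95b372d5d63eb7a65f842b6072156945b27e92a22a31465563c53ec6321640fd18b0f85571874af3b106116f0636ad4f21961831a015d13f4da5054004d44ae25623365d18e43247012b4010341486555807681c272a2a41731b17ba27d61e7780bf6a33de7f011009b17526307a3304516166df34342e4372d948c6f16fc52f2f34b15eb7587363aa76e5cb44c5f15474e64a25e71d85877665f913c0082492b808654e3ee75022c1373130cd2f645377576303c61501f0fb17439d37719e48e1271430e00e405d17b6be02c0270ae38c3333b543e6d77dd6cb45e7ec69664f23216a40d36a3a41c10665ff70319f6046187eb64c1804c23366eb56359606402628c0723fb3804f11c348b6e10f659b56b1a506b13649321322522421243858175e5e869f1524d338d5a84755af0214772d27a511b0b20420b96015196fd0d74fd0a924c24e76c5151fb3e94de6196487731683ef57a0754e50947ee8057010202ff30b77003f7ca7178061500a02e67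3058209a39658f1bd70a65e2881a11574163bd4210360473c01216db75766509e0a123a2380136027876dc70d00f0147607d12e002800e0e34c624f2602a551d5dd6933497820b53ad17c60917846c2745fc63f2e87493187655c60a20a53216aa4e957f55221a75c79b50265b39a64b6a707f2bc1331cf04d3ab1825c90882861393e14ad2622cb4f75a136f0da6904f527b31e71e16112d36278923020241d12036767c65c5063fd6bd5f068d49d7e862636b5d20f91886af33f6105f756e1be5f31b93c16386b00a36a16e974c32f70580914730133b7044845073fe6546b90c558e7d95497906985ca22a67280749f3e05bc74b6b40c45666d461206e4c919c22e2d71bc3b055b2544db6331b36bb0c06c65bb2284a63d92731b712c6313396c20502363582520e229f3d54a02292462204902091d72a73883af2402a07886c56e204f24514b5b414a05a26116e6b76cf39019b3f768213e1f21890381fd5ad2be1053db3cf5123f85284b63052fd23e39443f1654d93ac05e2af4f655e2771b42197806b12781b574f1bf5a27df4fe41f2b22582a112421d5cd0783572fb48f19a3a16971926457266e067f3d13ca3d478660e79658566f5d52ef74144b5f24a55fd38a7242053870734298086350fa2685c247f3c241e59d49b2856247e52a61d63cc5092c04027fb1e721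78004943f61c02ad33a2fc34e37541a05f25d4b95ec5b122367944410c1003d24a428a6515ab0a656066250361b5083685c81bb32a37027f22235c62162a7b62f46b33061e82c74f91db55c76d7084b86672163f331c6fa0ab03d6917992f06ae2c948677b2d139966a1091491fa6e57003955fb31030434707c1697ed7f600b11c4bc0904bd0d826c02515e0f102d6ba0102676dd78101b0d21406e46e337c6423842ce7771130eb3dd26666b7a73c31ac32071f7dc7de10d77473729646b7b97f86f570b5e95256378036c123b04908f12337101d1810910e50b124b6926cc79574800a1a42ac49274e5db64607b1a627579857c4cb57d5da5aa7b45d769c7a368703702b1f615c4ba5a61c420a0767c149a0f408d7b33427c45d47cd09523c1ed3533464644455fa7694736060f21cd00204646d0ad7131cc29812517a14e3235d10510c274a0ef0cc6a679c6a856c0de0030bd4830a711d27253b0964820622c10be0cf37d0532c332702923d2c229d00408b0bc28307703905232b35f56473d0cb0c87ad3660930992df03a0d12da01c70c64164321e60a09201a30034f0000d001535b0f022d38930930c73b7ac09d0124ee42742654160504a1674bb33734452065f13a5a00e136e0d50070b30dd0b80ce4e430359c65850001701912208e20d4692dd76f75479710659f54f1440350803b32c83a823163d63c3f008749602e16242d03203301e0410230ac21023f14f04520e19d1935be3f41d404002f0db37343b54b15a1da0d44c02211260220d66e76ec53d5734c14780f331671b43a54d1341040314495cf0e60e92841842f77ab73a1140605c71700180aa09f0b05bf34a5f64630010240d301100610e02a08c11e5b52110054335c11c503e0480af0a40c3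
/-- table of a product -/
noncomputable def u3 : ℕ := 0x7447515737f951259153753b7887bc7b24fc74076765e6e970845d77a7046ee74d75574575053d29261473275e5fe2e67637be7bb48154153859878075c0cd2e870b70576a7352f559d6e66a74b56a54e05027a659757b5f73c47e970d5207916d47b83de4f87213f06542ef5832f364b3e53bf3f77c33bc65578530a6113d77df7a47ae70c72d60d64c7b77e07e23957d158d80978c50066a3077b03d957c2397847943df58478777d7da5167f28025797cb78e6717825066fb6696417b67c155866b64d33d7a279f74f79d7b47ab56e7a126664f77f4fa75b73a4415593483be7705ab7735db4bc79034d6eb78d4ff68b6127e76833a380180473c77857a7d07ef7a97aa7335813626457837f07ff43c4394384633bb7607cf69550a7b17a874276d7487547967a742d3ee3e052b7e45114fb76265779b4d34d209f4f067867a3e46206437571fc4547c87986db6104be60c5fb4b25f519d3d248c5f85f627023327817c5ea30d33e7066045a24d05ad7e63f23946a34066682845271043fd53050e6b43742bd2b75a15fc5df1d714447b36d1a96ec4746f44336d01621754941fa2257777591310e937b59355b12b0e63a155e5903a560f0c07c77ac64038a4763b429c4574ed27e20c3a072a1c625e3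ea5b45516fa6b525b6bf71e46a21b4a13c839f1c167e51f69b62927c3c752d3002a621712e4f11284090504d849c4a920617058557d1843ce1fd5766cc36936a49e1e622f4e56dc3dc2232114893d137a22a20d2054a73794d95185cf3865be48663f3b835344951771d3b60663ac1e84a671c2ad65b43115d2962ab13e44215c4535d77fb4da4ae44365c13f45c6775a618216e65d67d7275fa0c80c90c16e742c41128816c42e23149236072245167b45a6744521c510e67373b7ea4177fc7f865644f10f4c57a079a7f36825d655c56655d67c4e84a82143ca20e2591c220a2082375c86082625a01f717417b58e5133887fd2150eb11959f6de2c711621007306946c1f32136cd2c938737620f32361d34261c6975713093571603456bc49033406f0c56e372839760e6e42c034a1ec4663066ce3442f714210a2ff66533f2295ae0cb66c72538c38d3905f966d2e14ea2c32776da22c4d55b95b330c1f65e614d36b07933719f1951f25e53713722745c51ae4ce1060511565a567037f4442f128b18b3aa29951563c3b163d4c421653346e44c25a6474321411875032633f62952c854f29a46952c28914914848e4a51bc72972422e5b22273af4eb3e371f27f1586846753f44274262571d01d45a46850f559a0f61731725994852723287cd59276c1dd5693e81c72412b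f6264073fa8083e218380774964e5887bd7f13ec16f7af73076e52e4ad4991c03542ca18e5de61838107e0852ac61a18a4f44c24873803a429125132c47a1144c93613f11687d81431614847667691e40751970604366895781d85f259e2603ef2b94082cf6a443737739d1aa13852f55231812416d17e35051d28e41b29e5c655f71269028774649b3415397ed38e1ef1fe5b51885c033523b57462c49a2611d52766237b34af3db49f5643bd16a6327de38f1a72cb5ee3ae2325b834024b2af3c068762458a8007f57dc3ab42a40d17d56c69123049154c2d35500fb2453d041e6866814e64c84886b95ef7036f354d2032506134c731355448a6d743b06418c5eb1b57f47936c67312222194b94183e63a227b5242014cc66154b29f50b24f6647393561301156b75f16f243a5284c044a3982c54031f03cc19a1bf47c1a149341d2c61e96216a178f7ca6486f05e93cf4e21f45251ab69e4a013a4a42a450c69d40e50d5263b02732f432e6722185215051792a54e75b01db1e224a4686ed13c7d56392553c246734333645b73f79535979c6014cb7235315ba33c5d03926bb5351fb5683a63827373127685e13ad6cf34610b7172f62b007028f7011112865e20531405e30545341de1e329d1d31c905706215e7811105fd6007656193966c34dc5c96155dc46130f33019e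4b01946aa6a937877632d39e50f5360747a564974a77c28552906a4594606056e17fe7f64156ad4d74f74db4f64234b86347eb4201b162a7e57e84253e11764dd6357ee69410540f1396d33c90fe43541941f62e6d91013d86a87117d47727d67716671a33d56a635f2697bf26e4b47ec73449553c34c6df4644622673eb6b13ed3ff62b6f835b0524df26c5a96b068a10326b5a80fd3c36227b95af1c30682120f811805e3a71172a20675090721862a310213415a0871ad0080ea08000b1ba5bc36c2ae4fd5140e211d2c168e5726f505f2f03f94013c16f91af55a6e55ed6936967fa5d93392cd25243444573621d30e70a6fd6027ad28a6c921c66375f48f47e6c822d0ff2f97742bb3753116b22285c30fa33b2d14480866334d11e74d42712ed4e915407f21e39a70f7092e25b76316421211e55d352a5105e42655b65e871b36e27a5d24c314e1250a748276b1cb5807c27e37793fe3f87e158258f20228c4ee17a37e6076ab6dd54e1ee1e03ba6884f34b670742f44635117f0414784982a11812402682bc39356135543e4ab60958955510d25d2b826d43f4305621a577b78979248316407b1460d707c0d83200d40ac1230480a331a0a608c3191262dd2d74ef4bd19339c25664433343d4ac2b45d417847d0923652fc1550497101ca44d14f34b1573040f009d3995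465d10d651913d2cc3385bb1776665700c73240ca0d101f3250b83152dc0a22da01372676f0120a52e33146162e009e2db2e42df0d008d09a19c2de2d855647974380578a70034f2422b11126be03938325f67f6795a33895cd1923b539b60a65a6af32f3105576592d945f58772031e6924f227d4c61f92214cf1292815e74f540a4b72902264556031901203704ca1893b36ae7165e05bd56b6bd29b27518d36736832157f45e4707c464a7c04e33c563e1be16521a1803527d74653275072006ac48062851e5cc30b6e235d7976c235c7a365274c6c53582b675332a31c2fa4240773b974154780670e6f67866a26387db7d368f6986cb50832b1f813b4e12c410c24910948b4cd1e11135951b830251b6e07d206e6807dd2241b42a75942387c61b34de53a25c46d2206d863613504c4b315b04f12a2821c81d22c21ed7b579e5011b72832071852581da4ec12f1eb0ef37d25368d49d58b2b51bd23f23d17120b4a340b1b24ba68c2545536c16ba0445f05ce4c129448d50445861756a1521003da7ce5cb46b47f6e81ff18f6ca63a4144221b923660673844b13624e6ef0785c75ec5aa2a87152345486765d851a69c6a07f758c4713b70bb7560a82b337c11a0ec7195454565324291666994fe3f50f905d2a061f42862f6255a76373c64021991ac6d203703c7141b640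06271bb1b05f34f964673e78b75819b1334bb0846537136ff77e4400b73a84a206b4e46582ee30874e38419154a7470db0d941a52229828d15f5403dd3cd79976157572e2aa0651f15bf5635b16d51ce4975c11f56b37020b90af3fc7c575a5773f35ff66f35a72c5650b61c44b10c40bf56d24d54474b6511cd4774054043e702505602b05900603b0350890be0cf3050280093641470c30900822eb2ea6f17522d435e7d941c1d67cc6c472b41641080373d71a3d43d615914c72f2a92be6f763b3636d13911375233cb2fd15101e0ad03f11f02706c11e3160461535da0cc33a6c01d95c22d01ea2d52f265f1cc47553e6fe3297756603032fb4214127ba7c97183fb1502b240c4d663020923c4966c762d02e0b056f5606b861b56700704a14a24c23a69a4726502ce3851450f142b0ce0bc16302d5ac51c0da08b05c02c54961e16900531f59c5d52e95432fe57e0e30f200400d09508f08132600300c4bf5ca0dd0340884aa5dd59601700a26f26a0190b30bd14b1671a41a659b75d58631d34934e54236f0a009900f01811b01408e6fc66247333138b0160220970ee0a42d209476403233246f22b2355f42d60a10931d10ba0b432269f3a95c43b209809c2ec3010e82643730e00d502912209603102a2046ea0b52f82e70ae0b101d01c05b19824821f6b63470e72791a21080d306353f2ba3d32800dc07d03006105a03e10706d0d20260f40ab04511c04e04d0a901a12c3e94131dc44e44704703d3660e407a29316b04309108304b04201b0c224424360b6d62462470010e50e10df2971a80760401271df1a019603805809b2e566e4501cf23e05502403a0110210f70ed31731b0aa0f30b20150100c602f00e03608a1320de12d0fc071020033002000023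
/-- table of a product -/
noncomputable def u4 : ℕ := 0x7bf0d84052121d82bf2506a23b93193fb7333587c93911db1367e36df1600697601ff0f37c33fc63b4df7581dc5270ec7c63e731b54a69d2794965f17fe1e37f41c83f37cf32e7fd51966039470539a70406815f4da1c94447ce75f5516ca26444d75d7b274226e7125900ea13b0873611711684067a71627527ba7d708e7a27b418657d54547f02175375c57b7be43e4817a47414976d844c7d535a35e02207478864657f09a42d7bd5833db76464b6b01a71f314065f11755d5915407a178a33a5d364e27b3f52ea5f023f34616377e4d948803477b2670ce3ec0333a00362222ae0eb16923715365e03547a2720fc12d2965a51056372843f97cc65b7df5863e91341352006b17cb61026976380560e72a7282dd1f43f07bc1b01bb6882ec5ee7a63993a12786647097e97bb3ea59c20826c0ae15e78c71930d7375b464c16b7e141553942c10f4fc7832514837ae6ee7b96586e965c70b5b33543452e30be17d4aa45d2f35af46177550a44f67e17e3263251754437723243a83ca1b97703223cc4752b862f62843128e4c45b76ff4427032c73a76822614936d06f64521775ac34126d6f00fa0f92bd49837b20d20e2953933b420f1427db7491643373a37ef46b15d4fb6804a864911228773c3f84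e01766e016e3054b234b18264f7596c24261ce3dd74b7aa1e24275ed42074c2e06bd6bc2304411e80565847321ba5325ae15118b4941475b12341266ab4124642c434944843f4824405091b10ca7403875173c20c44130e76056555c20ee3a422c7354146045bd73e0ab41f3cd66349d6c50ac1e452668423263a6383ff1dd40f67d3ce3dc3805c424c50d5b68041d650751a4182b15150896c373062463f4685585541803a53014f04e648a1f751c61e2851f85926d36672473e27981b420740e7821a02ef53c2551856921d71c27a57854af61c5423e13d57663c53fa62622b0b23b26de6fa66243736b3f73e566b1396ef7976307d61c41c624162d3c41b27d41b566a2936346cc24e0ba6ea61f76e19679d11061a1e66be5e467214b5345296fb3e07ed80044a27d4f97e760a5a21597f34c75dc1252df67127672b3ef66928f38374f7fb08a63e6ad49279f67037e5f94db72d3446e25653380a160342e56047c4e967911b6766831c755207d0421976986ae6404512804196f90fd62579e79a4102926782975472261a245449119a5161165465e52864bc45a36c7221ca36d03e24b6f328d7235495e356839e5b80635db6191e55ab2da5ba6b36d451e5c56f542223d2832141081070b34bb58b62c2c006a28924a78e78d2af5535e80727615977f12eb7921ef7064be5c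61bd5961027cd1030bf6567b11a87513ed1847c70c726b1df73176a2ee0f72010167e65284475115950490482491cb4bf27f33d5cd6a76c102b5e10804775943073c05983627450e50e03be57a75b2e765956f21576254c14e67f5740d47345737002775675a858256d56e34e34873a6e87735596cb5360995794b348b4726a93145ad34d5485614850836477d96897c54ba4554381833ae69e7d14a33b138b57508258979034361652c0e87e502640a4a96d902545b7f56f822416f19069945e80252f42904767c5144b939669302729e3865214a14d629c4031f93de3854f567476974d0de68a40b61d7fa2d00bd6dd1ea47304e6395ff32f44e3b071e65a4304b429f5037e252377f4e72196db6548063364250587b076b29471d5c804d79117446d17a0095d81fe53a0c26f422722559e6fc6961a46134dc21d17f5126e545615740c71c41d52d8018036f17dd4cd5045135fd03d49e4b027445c72e2a603a41c52b5c949069b6a025c7487f86b979450f2ce49c27e0861661984a243c18f41731712748f5083a260046537f39c4d00887573132db37d3817a053079b1d361b2ab53b2e550650027c2ed2cf4ea4364695fe3507386a45353df71673913f1fb7174b148c5700614395d91a14de5723b50595a74587ff46206c7fc7a87807540810da1e06e12167dc10c14302c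11f03f6c41195377d21183bc7eb6810647e432a5c37f66fd7ee4163405d266c25f2b06732fc6c92571153080852fd56b1b82523034a44a541b41a3206021fc3356b63ac2820751c30847151bc0286ce18966f4094083d474e37676d60c7506e47746da3d73fd2b24505da7565aa3d820664858f4ab1d01d15fb4e51ac79c39852e69f3a93e83904b73d63c11702cd1b70ed0b43c63751eb6313e31ab63621f6353842356af60162e3106275051e701c71f0232a020976f4f72d123131233e23e38e2a26686eb45955a11e4ae68d66e2425ca2cb1e91914fd22e49f2f82ad6916cf1ad75e31161216c12a1307f739d1a52b57f273648435c3707a31447784fe3682177b72f40175fa7e811a55e4457d03722a400678952439722d64331535217818d7a90f276c22a3bd50c7815eb4f18076c659b2e95205cb13e1c554168f29d76536a5de5025dd56c1562e60430408096ed72078b58748059a7b557e7da2464232f25bf62930b5772c22626456b46a825368756636e8083792f70901a909b18c5e948e69c5b502a23a3881f00916d12aa42f4b820b5cc36f2430246e36d62f03272687ca72c02d0d67c40b101b7430b55d705431e36514f60b78660f00277d0625fc6145e714c70d0c330f59946678438220a42a16d1f60a73ab34f0cf2fe74477974a0445a60d13b61200985257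211d40ef6e724d2a912c1cc2a83514c82ff3f430c0790181d50cb2b91cd35f2e10196185ea0a35804ec2ba53308c2f938f46c2de0d50c00b76412dc2d65f665773d6e61d22635a14bd1aa58d34c7024675b273f6750ad3601a66a147b47158c2ca7c177643d60d7f05f430958853e13a2ac4e84d33556502a70b900e1ae50e1551992111f51295c01ee4f811d28b5bb06026053f09e5d41fa3f24eb4a72c310d12118e77135b2f632d4330d779623c69a22f4c521b49b2b312b31a7ec43555b5313d24d152213d4cf6157de0c652a4ac2cc7ac19f47d43425b2a13393291063045d676818778f7116ec77a14a16a6336c85d57872be6cd68c3284ad6b811471b5cf29830e3665647270ff6b263d19b2fb59d7f96523e47675a45bc1676bb5a070a1954075f73f15e262a23912e4e24f65015f81be57c04a10133256a2a369540011126f3fe62133405a56921a0b80051b638d5e01792734d43c93334b57266200552101650fe68e4d51286dc33c6d76c751f5566077013b348905b5d029b7257d855f4dd40258e6084cb2652c54fa5763aa67b5e61fd49568b5b071a05f14666d3ee5715572e454e27a4ed47e4117557954f45552887072b72332915182021de32c42106b38c27056362b3313d11d91386660073d937c51d6536bf0f87246c06443953cf6974873532bb4f24a638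a1ec1e11bf07e51b09f10a10974659f21c37115c0f11371321417b63304cc26610e3674ee0202f17d356263c37a66129967a6f275a5df4ef45342b15b15a35968562319e1c13e60314e11614c26065a34794c108b25d0930041727ab3da6776f742406554b01428a79933b33f30a44644b7b807343243b0a02054577b364d1f205753831d3bf1543c70942450081220d30f63c327113114d0303d37e07ea7476fe4010154ca05c39b2130712b63ad25864a26a2407ad7c820c18125a69472f2814f319446e6654ff3f61b30d26900a515831c0a90516a30770dc2d36172d72b409d25e58a4d26221c020308f47412f48d5b97100677932bc6092c82c964258510435d4c00f53573c82565780666327296b51ed1490e20f439f5f36510f00e122361114570f0b07af1cf50b5933bb0380e31002f553d00b3770dd29a3166a605234765d7130c555054f6ac42877741e3000a42e83644990cd04b2292202d449a3d017b36311c6b73cb2907c003721e4a04d70760e407a46323824470e7c24496d525434a3b877c28c2d901009606d0c92d514837873b5814ce43a0a60114764c32d832309c13c0124c910b5ec5ef22119c08d0a86d25f23b71da0bc4863565d13eb5a90af19200a2c618a07b0413213730df3ba2d26aa5f517c0e609515003c3181244e35be37451019309203b3a646a2c10db5c15ce68607f40d46045f1a318827512324f13303905304c2fa01300c4d81f10d900f01e5435444702a52183020c136907c55c6a523b1af0000fb3af31f0b60297184040aa0d03927140a202f02e32b6ba2482040bb05d46f5c74b64e470c4780e92364c62283897080971732e20cc03254d19d25900d1523423060c804605000307805e01f07011301d04501a04f06e00106f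
/-- table of a product -/
noncomputable def u5 : ℕ := 0x5d87c17df4fa4fb7fc8094177f97b651135950a5137a34ff67679935d7f07ef5166397e93e67ea4d67b57f26867ce7de7dc5127a45a168279a7f37b17ec7cc7e86807e367f7e280035c38a7d46a57d66a77c471374c8037e45887a868153d59180278477a75f7ff58c40f4107e54123ff4167ba35b35f7c07bf7e17e051a58073b79f4216967e74187b97a67d27d37db7dd7ad73a5735987fd7da5795816fd79c7566017cb3087fa7d059e6725a36792f270e66b7092ee7436e86ed71275b7624396c573f3bf2f37be75154145b6c27483bc2ef34956f7b274553b56743f6454603be59755d3bb76530b4385f64636934f85b86984fc2237346c431d45e7744245487316c331f45f75476d78151b50154943c4414624646e057a50268974f7bc78856043064f4676055456e258250668f7427bb78058657e3113102e57377796ff77e7836f678634733a64c3363896af6a96b23126aa7296154cd56a65534361969f5ec5f037131e60a7bd5f43406e362d6fe7eb7a17ab7ac71a71972b4717987ee6607967a26a86a65c033566e6db70632b5706fa48069a62972e6207113b96c07155ce78934e7d54157c86402667d74207c75f833d6dc7d178765476964b7666b63b73012f866c72f7b87b77212ce0c05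fc63b2d12d33215de2d43186447b07947907cf24f77874e74178223575769b0e70f532342622b4277161eb76023933f6ec59c72676f5d56e73dd23c23d22a3b66bc2435ae2443853346832606d167a67867e3ca66167152b5ef3e452d4995175ee3ee3e00e86f25843de3df49c5186f357c3d94d868a69467549d4a13eb3ec5a962b57757545c4313e26226847c575a76145345d7c935873275e75531373847f5a26125df6f52d51c74370a82e147333133238b46f45245a6625387917a05206d97956fc6745fb53778c79d5006f877777b79761661058d1ef51f2010c83c33d618b18762571452e3fc7183d43cd62727e3d11e83d53c46ad40568b4a84a63c83d74d762f4043cf6954a763f3c73d874b80580673e2647084502b271e70b4935fe18846574478577d46675072d76c2794f42625294441cf2b56dd57160d46a23261418c76774074d0cb0c52ed76a73554e54453c6f17527466427585fd26a6695ea61313112b26f6046186fb5e45e55e656b3b86eb6c11fa7fb62a6216a121b11606620c51d1f76e44515d05ba56328158937e27b3ac28c60636a3a74fd3831f34cf6bb6b952f66d51944f4ec4555e17687030f64e84133425e97026e66ba7f43e93d269c6a04951583da3f92514981566326c67206e16df14d15472c29529170004f1486e54010e265b32752648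a13365642373d7935a57a52fe76464d42574a78f5a47ca2e975d6435f26415f135a2f043e6d660b72321c22d6ae59a43d35035572221d21e6b35995ed55a42e5d132e15270732a54656136010513940352a5101c63022a93a95b44ac2c54ab55142f65d1ca2fa31c39939330e50857f05f10d2f439a50758735e5b25b36ac1fd5c45e26ab20a25d7337aa7a926767025918129e49e3ea4815547f176e79b61e65c7af7301003e37f86578018044e326c58b6854ba69925e17a4a941142c5536c780774973c5964964db12f59b65e61b6ca80864e5dd6b85ac1925ca2334942801594494d92ab71c71d13847d17328f4466f418a41d6de2c727a69e2554c84ca22f4092251d415d13e42b6d73cb69d4334ad37937a5d424017236d44d35435110b17838837620218e4f510a17f3a245829d58f54b54d1e54fe43548c4744c74c33dc4a555529c3f413f15c51c19d1932c213752351e3c94a23f51af1fc6d86303cc13c5096f968d68c6f73b30ff1fe6d55b529037f2734a348822e4692a148e4904e21a42141f03fb66726e2693f35ff5f346d0705e32d82de1cb13d10f5141fb41b43667b2e232c5624c550f1241f95ad1d95c270166a3954452f17176114e93563526466514e664a63c21760963d2a661a7d965865f25a65348564977c6f01a54bf6731bd3297757761c510e5f5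67c60c32d6484d24bc4bd4ef4f03943a11a62704aa39c66f4d355e55b53f4f914938f16f3f83fe4074063ed3fd28478d5db3e53fa1ea4af40c12910467d6a278e5ab3f71d563840b63a6d22bf22250d4761b64b10526a37737c37c24e042d4b53f06376b47707ae5273c51131b21ac23f16944319c28a05053e6d36b07fe7f67ed4b742a05150e6773c66b17f77f54da5d659d5a64282204ae05e5d71b11ab3c241e3c10ec1d349b63549f2a541462463449a69162362c4a062641f68761f62878b5cb53a78a5cc5402e755224d54734c4ea1f512e5d34002532832313a62c02652054864594c15c817436920d5be65a4486506ce3a50c957244047206047c3287395cd3b579211453351552c39e37836173676b4832cf2b947a47b5c760817b28b2105cf5b66a466539647066638148230d6020e50e13663673683724c96904e507a2930e436f71b2ec32232670a6cb54a7a77717c66527b477279e64772a3a06d056972839f6cd4cc56d6c94cb3332e65656c85686592d93075f75fa0c75b161c5bc7252f622c2c15b72f930a6d45f961d5bb7276da5b92772c377f54375371075954274770f3bd5745390ca3c00a30cd3631553641573625595580a655c31671f7243065dc6004617d839b38470460e34570560f3382d62e834856e31a47932f6ee2ea2f534d5663190a56633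3b6e90c47cd52244c70d7b352144b70c58375c7632eb0bf57b1473922bb2b33153140a10932dc33c37537c2e00a22db33030f2e33042fc1266884b638068e16d43a50515f53119046c59f2a42c855f1c84d12111152c61e007e6b54e13a40851ee19e3ef1946bf4841aa43b3f614153518f58e5a02192ac0fc1ec12d2082743b11e211a1e32161c923700b18d18936e27c46859217e1e65343f11774c26be4f10df2971a950343414318050419954c4f61c41754571c26073862462ad0861f16cc6bd1284022415bd3900c15b02d04b45af18246e2ba4df5a82ff49207f3822563ae3534c611116c41a43239728658a3af20e0652aa4976332750fa35723833e23a5aa4bb6ef6ea1e71b806a24824963125006f29b1b42182a75da24e66424c06b1ce0ef0b54c02943a33b02363d35766cf0cc69240a2031bc54f29f22769722939144a0bb5783463393001272570f728206e47850c0f94911d10fd4ee2470f82f71b31de0741ae40d21a40e5d216723e34a2633ad03724a1d00431d21db5c65c12262061f65bf48d3ce1f234f03c5504f73a817c4542135c53872c923420b1e11b70082424e421f2520783981c04891c118338e44216214427d0842711684b04dc59337b0e60e959037416b4562300fe5251f43b42783e72092a02455321a34dd2585361014b83d063627f2071e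d1e962e63e0690731cd46b25c2682a825f10913642913047e2cc48748b04403910c13b1d612a5c32b01d722448f2285e04ce6176b75e84eb6035c919a0fb4083e11032b650b29a5eb37d2ae36c2b45242995e72722ca28e12c13205d3e83db26b1190eb1cc52828926d2c407704c2cb1a75561422bc4e747703819613a4221ff31b58531757d32456432556c0a711d0ae3ba34129629204e3652762af16a5571602b84c44750761a02214472bd7e65d91da44e2b710641920017d38c4ed4b92541bf17638d4d04a42be1be0950b10dc1251210400e029811b11e14e0dd2040b61122cd1bb0ea20f13516117941c04b1a82a33f24be4b25301841706685a716616e1651f805b2121df2611b91711c31dc3ab1b534b32004908d12301f0480b41dd1e41911981d84f339d3774d50db0da0c207d0d512014b14f0de28d37337000a08c0b804211f1500aa0f30af0ac0ce0b914c0ba15330c00d1513092882fd3370310e300c3053440470d60d409823b00400306c05c09c24b02708b0a90d10c301e11c0d80d00f002d2e409a2dd2fb0992d73032df0130122da09d09b0ee0320110970ed02204501609e0a001d0b30460f40020210280751971954d41ad0684de0641a119f4f21b011836b0d907914a04a14500906159419b1a23aa25b0880811630561174b33b20b72872b11ba0725951101082852152a215b18506708005414005305a15e06204d10705805508308a08705707c03010203a02402e09103607b06d12202c0bd0170d301a08913401b03b0631460190960ad0cf0bc00605903f0290f20070d202600503504103d02a03e0250b20ab0be08f0340f102b0100232d20010d709409f0920000150a408e0140330c607116418615a0820900b002000e02f01c01800f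
/-- table of a product -/
noncomputable def u6 : ℕ := 0x5ec6584444a54e271a7d32875407a81957f52b111279f25b19f7d27cc0882cc39131b65c5ef44d2f262208331968658c2f01116c478e44a78f5465393c036050c2860c61ce0825257665b42693dd4803d52b62b414252452635e7ad2e77997af50d13515b7fa58f53d3b75ee50b5f05f23e344576358743d65b43e65d5f157b57f7ac7b52eb5553b965f13479c7ab53a5457f675c7b67b857465135a5833297de7b172115a74855144c3fd3dc57d4f537b38d4c84015f538c3223255af75d7b27da1411a71a616838e5f43f139a3f30681622ca4053eb10b37a1433fc7df7b96e37c97a97cf79a4f66e07ae5e71e66c84b958d69f2744b67567966d766d3877ce40e7a174169d39321638626a3ed4091617c27c07856101db7bc4a96c07691cc5fa5927e17e977c3943bb1185861bd64273f43a2f843b1cd14a1320a62e00fc4030671ad5a806958b40b20377727c47f40d26e5571c055621d5026711f477e21f51a5ed5675be6ca5eb6464a24fa6d238b3277e67fd7ed7dc36221e23a2237fc6682437db7f33d63d84f854820536b3267a32c56662db41242218940832470041852067226f5a93116087ec44942a7242277f41d413c18d3972b220216022216a4103492141ea71428d7917c60ea1371b26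f23961d52422c91573ad2623e67347327557fe3921bb7dd7f91275c17954f218114715159f4c163c2a933f6c24d410d70463d26d2685a07050bf4145d718c2a206018810e4e14c715c2cd60d20b49e2b039820924648528834e1054b24901806e53e12541745e63ea2415504c64e729741326145e2ea3171794644706986d957731a6446b628f5296892ec4be79376a74036c2926c374c25c28953f7d47d62e578d7221556ce14617717d16448260c77d6f03996e41784e83a15307c876741d6c915f77b3564a742b35974d22f69a1191174f97864ba3b13894a45f63c21b50c763662446045f44e6f86930ba0ee2451382184b00ed0c46b768f41946f2282a00ca2293d35751c43e845b5c92a50b448a4881f027b2fc0934eb2946132da72b72f61924437607308722a1cf1d070c34b56840219e65a4ec1315fd3824f16172ed6dc6a425d28a2cb1ab3c622d2af53e60316914460f3a060b40f33a6184c20da6db61245d1c646c7236f311f72e29928c5002a36e93d424d13018213a1d75c711010c5bf4d323b4d617667a5066793575b124b1a316f6f570f71e3713523662c34516a56b46b84a15b217e4363fe5fe2c653514c5f32501535ea3a66ee3d756127934c16e3aa1d85e068768d63563f5e810648739f60e3477127096d651267f3e22d76ff40470673643880950e1a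f6550205851717985c81026c710a09040618574e48e1866a238f4f36cb4d556f43432b44812f5d95e55c23a46a85374401bf27f2935b62326ba5433ec7b750f4b85f96f60dd30155d59155a3ae1906ed51351136d69e46941f24873a2c835f55928e4302966d869963a63b4d85cc44224a2475734e34e94ac4770650847014566605e47032a861c6c57f77314154c450942f56633626472a7f278c75e7352ef47279e7972e468146b0f70710896635a45214476624237fb43161649772880842508a12d1ba5606bf28152f53b6505525a30811b01a11981fe7f81e04a049b66f8053b012e4685e15e230c6707392b943c5e36de6655e953462651b68824f52b30b39b57c22e11a1d179b42421a4211bc1eb4b14891e851731339e43958a23058047c4cf4ce1b671d3085792ba2c13e45655277ef67e49a12a3ce5db68324950a6026014b534d27325f1de79067d51e56d1c24bf4bd0f95194a373e3484162a720e58952803b00a04d05878316b74607f18745c4a64d13331335ae5705320562783b51a07d93af4206fb2dc2d65937747897107e56144844834c52f71ff6d10ec2ff17f4d23ef53c54225a37773856e2605a64662aa1f337e64523853127208511506b4415b70644f00632c471705b4597684e643f5cd7815dd6fc2b50800eb7424ee5b33432374503881e31dc62d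5ac6380723901a247854b1971ee63749d76168454d52e5cb29b2f35475625962e35884272be3db13969662b69462303f41125354c50712865367b6f74aa59e02c3e93ab4f460564a2ee47968e1014e04ff64b6741083cd57e44665e8047277e37254733c47bb44b8016bb64d6b96ea6b57a073b4fe3282dd59a66971f7a22f46fe5222131077e24bc6ef31075f3bd40a2192a620a29f6972066562a15da6ae5aa1fd6b32665bb1f648f5b51b82a42315c61e704a00905527d1f221705a3a821103407e55c0360753be2fa1a50f42ae0cf51f74935349942663362e6072ac41e2fd67341c3d946106c4536f41963837c17e07c35fc6908024fc7bd7d01e27753bf6b27ba72d70b1df7446d52f67d16495386af70d6b178764820c22b47a05942e71c1d33a747121c6e266c30e6046be7d72347541236675cf2ab38146a44f3681dd0dc36a6d354e04831f03000d0d67187f10917be35d5c308f7647c70e70051294b316c0235a74de13f0d15d816d1a92520f03ff10f7bf1454da4ad1c10cb1aa54448601c1e138466a7ea1634354af2803bc4f700e5014fb66b3750e83f266e0e347e51c3790b154a5975580cc59817326307911e0d91227c57aa7b00e27a405214b12c2df1be21b23570832d5ad0994b711601540c23e0983ac0ad0ac30237443301631c2ad0ab0d431d2e25fb3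f40140c00355ca64f0a10334ef65909e4754ab4432fe0bb43209437d3f54ae73730676b7920a34db3a21f73142de09c4d94e509604303c36403d6152f100707458234659061a30545a04e53671611456c1c50f87476096e132e03a30d7197807587596b06470287d520077034459b6ac3031c70612245712756283b23d13314676402b333b5ce5d133522636918e04920136f73027124c3727605ff1cb37022c07d29a1f83387727335103397b323c5040fd6765ab4cb49f4c928540013b7785951fb33459c23d4652907e77077768076e826b70a7507f071108618b14054f59d2fb05f5d319c06a66476212b25e50364c2827516ab3204286571c913e49315d3806a67796a36a74983c830a30f6115d63048007203cb1ed1b76c146306660a7451921b11ac5c51ca6ad6bc6922830065943c10174cc1ae55f70248b05c02a5d20e62593c502416720d19b1f162f4bb3cf8036784b421252c33c3cc5165f761f0fa3c96d42ce8064292076fd6341d21092152673e74583305b92256aa56b3b447b40733e37f6003ee56925120f4546313f61ec4175846bd63e58e1835bd13615e3d048c26c64e5c43fb7e819d5054fd5085d558135b79d75a3a375376d35c3003095414a85236775496255643f85142575541594d749c5a51b32581b43de74b4dc3c73fa65413d1b94c05156273c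341b0fe4924cd5c057a29136109a3e03073543516614ed17a1930d03e56216295dc34134529517b0e90953df27a49412143729823311d4523671e578a7b418418f6910c25536dd24e27735839d0f24df6fa1ef1e474f19409b0a27a710426568c5d04ea7734d05990213f769569c61d61b08e55b51817c75b48d7653f92842d131e68a2e963906d4dd00c27e00f1586d01501e92cf3782f511c49132c55e02261e67552a7714555bc57647452d14e67c5784c368510317033d5330bd6804621d91d62d00de6823322c041a6cc6060e40db15604214f2c71205de36346e7827e447d2b720434003e0327571753374575d408b76e4ca47679462c6f912651d7cd3da78b2bb3183ca32f2561c301f6305f83a920804b0080d23f012574a0d30c838a3851c872c0d80aa77f6520af02d07a7c40e10020400a511b74328b0513a504442c7840e00df5a234f3b634a2203b87cb0130ef0111911540120ff2700761a464146d14800b2106a15b023617239531276f2d42e612437c6a069b0e522109d7a55a16cd6cf1da0a908d2d908c0373420190383156eb6e77d80b02e10c57ca6ec2d80b50a80920f576c0bc73d77a09f23f0102f93d27886df2400f34e456302532a6f12b80ce3b371518a02e0410970570030393210261a87520ae2bd06e07001a2d356a02773c7ff2bc39c1f56da0473503166a903102b01e01d5ba5b862a35562004c27668b05437307705306f07857263236514d0b31fa29d7ee0fb05e3ba1525df07c70e29e71b7260c90b97290622e801b48142d2bf4960452c20cd07b02f7131fc36e6c604f1997eb29c1f96434957a62550a005d1130462390d50500a70a40be6e60f10d72d23230182d50f61660c10b70040b80b20b61650c319a149000100001029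
/-- table of a product -/
noncomputable def u7 : ℕ := 0x3284ea7616867b837a32455a5487643ed6f459178d5707ce78b64e1ca7a17b55986f657232c75a1d33a25976ff37e3267be3e375d5c354a3253795017b232255878a7a278e55d55967659e57613d5781385ed44171c75f4486f77a435e7535b96507b17aa6de30e6663592fa75630235d6d736551e67d3ba64d79d5b83326237e36ca7ec35a3933316567f341767571678359052e6da7477025c06858013177151c671a7a931b7797a04ff67e7e47ef42364f79377c6c36cb4083e854452d7e265356345c34075154379e7062f259b51f74533539b67439f31a7723b564a4cd57775b6ed7626e829754556a5a378f62d62b28c40f7f147c5a93e25616c415750a6784e34d651b42576a44070a7e75167685d05ba46f57558268462262563a5427c66555225215ef2ee6ce7708047af4104053a03197a57eb24c24e2e056d7c36f077363b53c57a58a11665e5ee75776b17e76c72b1777195fe5c621a39638b2cf6044c713239d4d36656b53ef5ff3785c526f1a84663515a526a40e4b14e25a416b4a23552db3833a75f336a4e55362b07174812957d24c272d4d05b32cc12c6184c62a56c96734f31f32dc2ea53a4d51f74655402eb20868834865d59647056b4c94c840d06639e5543503456007d16691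716076db7326b83a55ac7354f43546346273381b67c25935ce7141b73cb7fc60c2b12cd4436314421dc1764d768a2503984bf1ef2014aa39141c61b5084eb14b4971b30746337600ec34c3b224668b2e324d19823e6202e41427ff4981962511ea68346265a4ed80261d4670632a855352b61c22635632d1641d224a3f21295303296397db39c27012f3521466575175134b54e05715182d64152761a11977d347e1853812916e15e85e03366f173372e64930b7302b72bd30877179a4046817dd45d6480895147116c76d27b769676758d71d72f41b6291af6952046fb29b50425f2062821ec2c41d927a16f18355680825c68219012e0fd3a97211de0611a21280f85571e51fe5b248d1a028918f5747315397346e05b76795cd4df56732e2b435c05634d47a46152c68e47b4766c548a7543924935606104b429e6893e43582b632a3416602e546853451542047133c56930723931269b45772972a6720e828e56e5e929654950f5290e736c36f0da1ff5b44224dc4f918657b71241853364b7824ce5df11a5ea50e2642002793761ba14346a7951635021d708a5de44a40a1750dc61746e5e45b05272b836b5661e21df5262e16b350d7281e34194b06616ae2165834a73e620f58657e1f83ce2157094a82e778c2ec28825b7912075d315265b58f5811516f84b78055940f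f4fe7fe6d87e03c80557e13607ca5517cc4d849c0584a14247ee7f91606942806d62671e64f14842571011a360329427c5a810f5321f51f107d28b1547013aa1fb3635550c177a04304b42a7bc7bb1534912271d87555f761e06a14c3fe6ee1d54de40b4b34d275e2054894091fc53857f75c1404a52bf60b5371d00655505bd4736a121826973f7c966e4fb7c02a257c27f5c42a120c0ca4d14fa6997c513b0695f46a265c4bd7e67cf66d43c05b71867f2a304e16c4cb5c80f921b0c755f1a94307fa7b03fb7b97b66801361193e73f566c7fd40340143257d4343af6ac68d7e86356ad3182241c349556844d5475e72121e845048b6aa5922031b24f523029f27b2528093617466fa4884f22c63f73f83a61ad3e95846d94e65eb4774136e94e96a50bb0df4b817f14755241d2b25c26675e336d3dc37f3e01e124016148e0fe12d2c71db7a375256276d45a72247f3d94593a353f63263f5093f32aa4d453e4a64564ae4da13f15d77f4527751be78017c1731b938854e1bb08111807f27750b5d56300fa62632f0ba0b43114067415dd4532d961675838d6cd59a6d07206a038c0826fc38738630f2e243d4804a35074451f947968f38005942c6634c54e85e506740c5e607108606808826315f2860c611758b1c74be1cf4387404fc66b3494471784f869a43972c59905c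44e06c74d69f16d2f35cb1aa41110a00c78944f39a7234b23ea03c13731038569877b7bf31d7f469d4ab4bc4ac2351c969e7c831f69c7997f07f222b6684351c87f57c73d404462804c3da3cd1912685107e568c70510862c7256bf5ae79f6bc7a83f91076f97277103f67f850540063771e3477982f869338433b1994995dc66463e3d770470f1024021663c76a93d642b51c5a72333dd3d88035d92652813ae4941eb4f722845818b4557da2561d11872471f41f05311030572c053507913543e23726c45e11515e12130a6014cc4fd11275950c22f4a04ba19a6585bb24821f62f51254f4443901b84876547650f53157d82f93ee4314e76eb0f666a6f35fd4856e62d40b63751cb5ec6515b15ab6131bd0b751d6c037406d38f6621893b41457783211dd0302d373930d6c633079b38e6d50f217b46d19e19437760825318c36736e1746066900de08d0f44ca5798065466776707077f75235111554a91b014a29a1e03825ad2715195892a02453c06fd4544907926df4603b92ae11b2993694751ee4832d04ec3143433b745b0852905af49e2874c44cf2ba4727033640c96c864c7844c318e13118a04212b0b94160472d209a0d72b333e2bb0b23330a92f12ed5652936142b94746d16023bc07e37d7852ca4820933bd1485880906a47873bf0ae42158014d11c0a17386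dc77d0d245f29c3a456f4462552326590a83b62d50270103b80966192ff2e60a000f38960a0940cd31361564109e0162f67362df03a01c08f46c0ed0ee5fc39570870e7745bc6c21b439726e2a719548f1797ae77640774b73c58e6ef6ea73e7495db52f6bd61276e37c3061586f52e86e227818d5b654c5a028a1a44a42021273db2624af2c92be48620a11f3726be1242092666e31882413207001e93d30e20e40d576315673738a6115f17fb3c462a7ed47d20b1b51720b559c74875064721425a52841e7c17d509842f5ca74e7b47a67ea5063fd7a77cb2724644512f50977d419f0bf53b58774370b2435003ca4284124366d423424965274418006f22925904f6cf0502206bb2744f623c1ed09b7d642e4372cb7bd3ff2362831bf23d4276453b022e74f2bc4b62a41ac7f61c21a71bc21317d07a2221111413ad2256b143f3a127348c2c50f72a959f25d1674b92dd5d25955d83de1c41002582311fa0fc3b13e13ac3d03df51a12a3f133934616a21c6b21f64db2ad1692541c06b91e428d5256b07d72b546b22c1c11fd3c66917dc52a2422194e16a77970702fd33f2af1f221d72625e6af6923948073fa3e53fc33a7777695fa0c43376f271f5f064600800d5fb64213c10b3f04e43d17d026d19b1ae6ab41f7de1b13c14694146215a14bb62e6870d905449f1655a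23cf15b26b4d913960f3be78167b1d605a6b72615f260d24452055b11027d2a63ab5c944b2de09c54166f42965f6053702921ce7883685e10837423c93c37e958c5da67a2ab4dd13361a34b6e54ef6d327e60915933d6e40b314e5d73ec6fe5aa1054ad7862fe6dd7942851e72172ce2d17903017963bb60e0734965a659d16e00e00902803b02c0840340ea02d0f135f02606b36231e1220210723042fc67c74c5852e977e1a642d63834e5f55f861f7ba39964449a49b04d31c67128f13049d62455c4f05e25247df3cc35b32b02309112337301f05d0b10e50e332776f2d70c56b415c5b510c20d7242d844c0eb23f41a7665cc2ef5f92f02f46406368003eb5d61820dd1493a83d51ab63c3d24923c53c20bd11d3427cd5d174a32301a07819230542624f55e37b6b67d917a0c254d0ac12518101b5d454b0e00460fb0d67b373d3f401d56479c7ad23b7ab24b7c40cf0d003f0750a703616822a0250645c76ba0be0d81a54c16c173a02906e2c229d0ab03d0bc19c1cd1cc1d473b53d71356c0cc0ef7ac3712da0150140200f001315064370c70d23a46300000330934a0920950995730d12385f62f73006a60cb0120a443b35335722326013e4c02753032fb0a60a50382111200e129802b11e1260ad0f33b33343440a20a308c02a0b802e1062c86cc6976a30c007620e2ac05e04507b50310963d21000a04a08707c14404111308001e02f0ce02214f04013a16200503305f2841044335be5cf0d403571b3160535bf1da13400200b15a00708e08b6e76ec2c12c34ee43a0323660db0625c122118403e05244919d1931700e930c0c86a810e1c54780e60aa0b009f0af03934f21e22d0240c30d309d00106001701900403710d049051077114031048018011006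

/-- seven products -/
noncomputable def tabB : ℕ := pk u1 (pk u2 (pk u3 (pk u4 (pk u5 (pk u6 u7)))))

/-- the words of the products -/
def wB : List (List Gen) := [[], [.b, .f, .d, .g, .d, .b, .a, .e, .g, .c, .d, .a, .b, .c, .d, .c], [.d, .e, .a, .c, .g, .d, .g, .f, .e, .g, .c, .d, .f, .b, .g, .a], [.a, .c, .b, .f, .b, .d, .b, .c, .b, .c, .g, .e, .b, .g, .f, .b], [.g, .e, .f, .g, .b, .g, .a, .g, .d, .c, .f, .d, .c, .b, .d, .e], [.b, .a, .b, .c, .a, .f, .g, .f, .d, .f, .e, .b, .d, .e, .d, .b], [.d, .f, .b, .f, .b, .g, .f, .b, .g, .d, .a, .c, .f, .e, .b, .d], [.d, .c, .g, .d, .b, .g, .f, .g, .f, .a, .b, .d, .c, .f, .b, .f]]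

/-- for each point five products which move it to `0` -/
noncomputable def pathT : ℕ := 0x7cd008908797fd967910eb5029f1d29451b52720ccd008d2c9216a108e201c9245a64b10b51058901710ce20cfd0b1138c90ea100310a4d019a06f1014906ee0111019908fd7af204e95bc90f3925ba088d00f50b9923525f39006c019f75cb5fe1095d0a7a0d1402f5007a050c04b10e740f8902e1000909897591078b053c04923ee905c900113cc902b20e6400cb6c8918c90f510f9105510f1f1f8904645f510ee90af50272004d3b993c910c4d0c54349104976661635106f5059f0b9f6ef165890f1a7fe26ee90c913ae11fe952490c66238a050d00e9578b0efd0bc9074b18991a893b1101f100296be205d70e59014d0a9b54d904b7055517b15d9106a604fd38710df90de90cd4645406e900392ef143590359014b00597aa11bd90cb53f492ae1007f070c0ad96492350a7d916bc96b29055406ec0955053103dc3e4c0fce38fd54cc0ebc2ee17b710d916af15ad9018900f12bc92c91027c00a1569208de01793ea1666906920a9204ac055d08c90d7632e12f3909dc08b12e5901d1039a033f0d110c5901cd009b09116689051a0f8d0e796bb13d91092d0f490cb90fe40cfb0d1724c95ff2045904f5057707790e497849049142d20f7902910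5a13d7a26e16ac908b455e102fb00770cc963590d6a244a0fea007400d27b3907ec25c914a203ac02e2079277510b4917490d9a0c6c04d40d8f5f79055b2f52065e0b5d01e1251b1c4a0d5c0edd0b3c727939f10ff207770ad778a905567477089e430a0774769b0f3f01d70d8b0bd20f6903dd52f56d610f54036109f423f97e5204d9029202a91b190eb10f0c09d1184917217fba01317a51072c78da0fe204d50ffa01915cc9539907596bd25cd9245901740b7d5dce6289059b04cd3f2101690b4d0ee109140ecb14db0fd256e90b9c0df149dc02ea0cdf007d66ea00a446d10d2100e534c974a900ba085526db48a1092908df0ee20b141b4905f606cc04490a7d05590a5508ff0dea2ccc0e97011c05ea38690df24e921b1b08e636c907396b697ccd229d09f62dd90521651112d9047a79c94e791dd947490e4c04a936d100b106740fd902d504e112a97389430b295103df0d0d0e660b0d0f9f08fa0dbc0e7605fa0476129d0aa1058d59a1056c54922a7963d20af10ca90b720256059c08a60e7119517b650b150f52050e0aed015d06610d4b03de00b46eb10f6c05fc68940c5e7bc94e690b8b0d6900572cb9010b66c924d908710ae96ad1265c03f269590cf47e490ade0c9c065f1d0b62db3d597dd9095658a1033c0cd9034d0b1a030b652107bf0df613610e890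65156d15f290ce600690a79073139b138497ba9087a065c02972679065a02e902d429e153d90b5c0e912b5108e9048d5e6127a100170dba739c05e1067d09bc045200e400de0f550b4b37890d7a0cea049900aa0d611d8900f25c510b7a0912456c07cb4f7905e6067c027f06552d520f5d084a2259015e02db384a045400dd484a7ae1449177b15d11029a08e1019700120471015208bc7471037a0f7c7b8a015764b22b8a0fff0dce02990c7e02e62b19086103da43627b490b1c5f2158494bc9098d38a105de01d20a6109d900624294344a2b210b0a48490ff10bce0af236590e4a064e087756620c6138a903496d2103ba0fdd097c0de6096109e227ca084c2aea01dd6fcd00550192254c050a0aa4091f4ff10c971ba976c91f9a085f76891a9152d206ea0d52565159141a594ce1688907be05dd7e591cd909520fa60b260b1b05ec0854036f0dac12e1166900497a890e8d4951068924a904da695107d10249587135510c7145c936a114e104ed3554071a010d63f93ac900910a724331089a00d704bc5671094f09e50fba0fef0bfa01610a7706fa0b8f098c32d234f10755056628d9684a076503c94c59086505cb00a624b10a4f06520a9d5b59053507e60b216749187908910caf62d90525017c171a0e9913310ef117746cd964c9090c4f4900a937a2078e27514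4f907fa559108991ff104f9444903e9099208ec78a2005e1f11011a1531079a06d4009d01bc033107da6e61073c047d06910cf1089c018b0e5c011f04790eb40fb11aaa72e10dfd0e926f523651689c0c9a05d957390b590b8a272146a152590c8929910c4a0fc92cd906494b0d0771066c04ea0d0b4d4947d90a8904cb04cc198905ba00f40e957c690b2922a10f993fd92f8905cd0a740d57034c09c908d57e990c920bd70d310ef90b3102790994799107915a510557039c079702623ce2548c02fd22da04c9072e14f903f923da0b390ab566d10b640d720de200ac0c493c894e590cbc0a5101ea3721191a044a038b04770edc2dd1025c7e7101b15891367a5a895bf90ef60f6402c9538b0356009979b10cec08dc071c3a9b0d4d00b704e408ac4771569106c90ea90469255116c90d0c62d1027745197ea92ba90cda0dae7ff945ea03ff439a03971cf10129030a0fbe4cda0e5107dd0fdc0cd70fde08925e517c891ffa0a5f6c694fc90f940d544d0a13196ad907f1066400a200bc017701557be25b19085e0f742d1175ea0be601df07614649175109ef0f1d036a4c920b9226b906fc09fa04740d0a07f20fa172590ae400d903120757045c191b08d7049a0c4c03390aaa04a239e1029409a10274006100f903150f7a0fac0a591f390a9402fc0e9a009a032d0cf90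c51028c03ce78d944b200ff36cc08d6009205610bb107e201ac0fcb01e60bf90095035d0659009f07bc003c6e9906d9025925ea09f202ba02a109690c4f04e2225c0eb70f9c04be02960749135200dc44697ea1079903623511027d02d10f7104754599530b4489018d72f13ec9024d3bf97b593749066918a978aa075c00790acb067a03f1026c4ad903650aba3f291ad908f938a23f512599095c36f16c6678896a8908ea016505f442794a690a8d5589091a6cf10c5a7d5c0372795173f11fc90d890b7105110d2e047e265401140f140f5c02f17861015c096a04560f29099c271c049c086926a1044c3c4a46f2565a0e4e39510ec952e903d913f1066b57490cdb09ec587a08d40a6263c934cb59d902da0075051b03197c4909fe3fa90dd1678a05be009c6e890c692e910289329a0f6a658d07c9386100be79990bbf0acc4b51046108940cf50b0b01e213e104bb1e7107690bdf56a90789094e05975a6106670f0e00e209992a5900d40be24f89038a7391553100510af747890311046b0d550da17dd100fa69e1010a7f5901db01f400b501390997071d4879001425e101ca098b0862069d01ff000c12990d4e075203e100cc014e0ef20ad2478c019b0d251ccd1919025f02d9059101510fe17b51027b006437d1030e3da900211ae1078a070a0f9201fa16d40b690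0ec0097054906b11519010c088900fc0ed90b5e46f4013e05ce0ecc007c01ec07640ed515890851016200e157590494013c53490c7b045a03526b72019405ac224904f1055217bb00660d39094a65250a910ca6019602f2017d017569ca07d60b9b0f6e00fd033a06fb07a2094b2b4a0d3a05e4017207b16f210d9c026d17f20d926bab006d029e0c6f5f550ae100320baa0f1b0dd605ad09cd0b947a62354a35490aec039b05bb002204ee4cc90f4b0e9602ed0f2c000106e10072000b000d02eb0eed00540f150a5401aa031700ee3d3a05790eee011d001d01170112001501f501540bdb0b1700bb00377f4b03d60115091e00340d9b0ab100d500f703992479069b0cfc438926e900af09b1778904aa089702fa1fe2484c0c5605aa05d178b109f9091c097704eb028d016c5d8a0794017f74524ea10fdb01f21b9227690faa79d14d314b390121027a071903fa087b6869007e0a9c044f2511425107d975d1012c0dd90ccc258a014c0f8e0dff08a901ba0fda02670b655eaa46c9035e02a201ce074e077d0ce10a9564590ee40d6278e2424f05990f9a0ea24f2134db05da01ef047c04de055e7cf40e5f04dd73311649071f39d9003a01fc07510ad5059464d927cd065708a2089502dd2f9409620e615da10faf009e06ae084e0159054d03d26d9108b90d590a4972a10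79f0fe645d104ba0fe502d20fcd4d2101e408d20cfa094c02e401e5655906ac06f67b292e890ce401fe14890164039207ee7551024f0ed10be4053f6499056200d1019c016f09650bba72c90c7d0ad175890067695201560e5a07265991271901d933890564032c064d01194751016a018f053a06710f2104db012e067604e50ff50252005f005a1f594ec94c7b7a490d5e0a5605920e9c7511639902b40329632923310f6509910da956b1036c07d2029d07ba0aea3771538903546dd10e520bd9025100c906624d6137f134d91652002c2b992a890e6c0e9d0ffe06d106f209dd2a61005207e40e7c00f60a6b0bfe45790f5968f9017617995ac9286909f14f990ad43b5109e103890ee600ea017a0be9175907db0e6b0bf4669109fc0d7c12b204ef486904893a8975940ac95dd109db0391159101dc08562d6268b124e95a4954f90e696b1972f9001c03144ea96cdb744c0a6933140a5c06f4285109cb01f9009427990edb0ba90e9e28e169c90d8a0f8b2c5114a94c491c613a9916596ed900cd003f0bf21b5172ba08b50d29054e32f90d4c08a10b5232a201da004e071400710f11551142e900b25c8929b10de4057675491a7a018a3be92e710eaa0c52776401bf01be13595a7142f106a1070d0ad66c9202a42ab15ce101e905a9087c5a8c06e67ab10f4d08ef46594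561012d048c4aaa0679258905360e7b4899078c07a10db406da01a6052d01bb054a025405327a99013a00b9044b011b00df06541de905db6e91246b0c9d73590ff913c90b190a9a3f794289004f2a6905750964046c0351459208b23e490721007602751cd1013f5be206e2645a3691679908960cf2018e29195fca0fca3d4904b208ae04650134794a66e900d601de095908491b5906d5024e0d7900197a590b5b05f90a7e034f066601cb01a908aa08af197c6479698962f1095138f907bb2bd90d940a9e648966f9548903ee005602fe0d5b0c6b0c9603e2000a56f90f960fa501f606b902ce04fc4d1907df032a0c5733110065000e789105eb0deb0eb2074a554a0c9b054c0bca058a02f90ba2016e5ed2011e0bbb585900967ed10bd66319031d00350016099b026a0135095b0fe90dfc001e00e6025d0ea4016609340e940d1c0ddd0cd1002a02b93751002e065d010e002f073a04ae2ada07f90d1922d936890b3401d603aa08590b4a00ed093200fb00eb006a003d091b0b12002d0a8f058f24990007003e07af0bab000201af00270d6d088f03eb016d0756079c091963920d3201a27561004a1fd20d644cd137c925a91a74001a001f058b0eeb09ae0bde07ca008c0f4c0ab909ca003600ae0d7d59521fca00ef179201fd0fa2002401ee01b459590a99034a005c69f9096d08da037f3ba9004c0567064c06a90fa956790a7108d937ca00db01a106db0adb0b2d07b406960dca0cae04ce0025012644c966510a8c015b073f5519014f54d23f7a069a0c750bb40ed200ce43c967d90cd20ba5000400da05190ada0daa092a0a5d016748592a725cd17bb1001b02bc04d2014a08a4018c7f11012a0b670d490d2c42c9000f2f1100fe1ed101ad06f9077a2b0a0b8c004b01a5005d002b03324891006f0b6d0005008f01ab0132003b007b01250026013601ae46f9006b1cd20eae0bad03a1000601eb00030000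

/-- the table number `s` -/
noncomputable def slot (T s : ℕ) : ℕ := Nat.mod (Nat.shiftRight T (Nat.mul s 24696)) (Nat.pow 2 24696)

/-- one letter -/
noncomputable def stA (s y : ℕ) : ℕ := Nat.land (Nat.shiftRight (slot tabA s) (Nat.mul 12 y)) 4095

/-- one product -/
noncomputable def stB (s y : ℕ) : ℕ :=
  Nat.rec y (fun k _ => Nat.land (Nat.shiftRight (slot tabB k) (Nat.mul 12 y)) 4095) s

/-- eight letters -/
noncomputable def r8 (c y : ℕ) : ℕ :=
  stA (Nat.mod c 8) (stA (Nat.mod (Nat.div c 8) 8) (stA (Nat.mod (Nat.div c 64) 8) (stA (Nat.mod (Nat.div c 512) 8) (stA (Nat.mod (Nat.div c 4096) 8) (stA (Nat.mod (Nat.div c 32768) 8) (stA (Nat.mod (Nat.div c 262144) 8) (stA (Nat.mod (Nat.div c 2097152) 8) y)))))))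

/-- `8 * n` letters -/
noncomputable def runC (n c y : ℕ) : ℕ := Nat.rec (motive := fun _ => ℕ → ℕ) (fun _ => y) (fun _ ih c => r8 c (ih (Nat.div c 16777216))) n c

/-- the code of a word -/
noncomputable def enc (w : List Gen) : ℕ := List.rec 0 (fun x _ ih => Nat.add (Nat.succ (gc x)) (Nat.mul 8 ih)) w

/-- the fast version of `act` -/
noncomputable def actF (w : List Gen) (y : ℕ) : ℕ :=
  Bool.rec (act w y) (runC (Nat.div (Nat.add w.length 7) 8) (enc w) y) (Nat.ble y 2057)

/-- five products -/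
noncomputable def r5 (c y : ℕ) : ℕ :=
  stB (Nat.mod c 8) (stB (Nat.mod (Nat.div c 8) 8) (stB (Nat.mod (Nat.div c 64) 8) (stB (Nat.mod (Nat.div c 512) 8) (stB (Nat.mod (Nat.div c 4096) 8) y))))

/-- the fast version of `colr` -/
noncomputable def colrF (x y : ℕ) : ℕ :=
  Bool.rec (colr x y) (col (r5 (Nat.land (Nat.shiftRight pathT (Nat.mul 16 x)) 65535) y))
    (Nat.beq (Nat.add (Nat.div x 2058) (Nat.div y 2058)) 0)

theorem chkA : allBelow 2058 (fun y => and (Nat.beq (stA 0 y) y)
    (gens.all fun x => Nat.beq (stA (Nat.succ (gc x)) y) (look (tab x) y))) = true := by decide +kernel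

theorem st_zero {y : ℕ} (hy : y < 2058) : stA 0 y = y := by
  have h := of_allBelow chkA y hy
  rw [Bool.and_eq_true] at h
  exact Nat.eq_of_beq_eq_true h.1

theorem st_gen (x : Gen) {y : ℕ} (hy : y < 2058) : stA (gc x + 1) y = look (tab x) y := by
  have h := of_allBelow chkA y hy
  rw [Bool.and_eq_true, List.all_eq_true] at h
  exact Nat.eq_of_beq_eq_true (h.2 x (mem_gens x))

/-- `m` letters, one by one -/
noncomputable def rn (m : ℕ) (y : ℕ) : ℕ → ℕ := Nat.rec (motive := fun _ => ℕ → ℕ) (fun _ => y) (fun _ ih c => stA (c % 8) (ih (c / 8))) m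

theorem rn_succ (m y c : ℕ) : rn (m + 1) y c = stA (c % 8) (rn m y (c / 8)) := rfl

theorem rn_zero {y : ℕ} (hy : y < 2058) : ∀ m, rn m y 0 = y
  | 0 => rfl
  | m + 1 => by rw [rn_succ, Nat.zero_div, rn_zero hy m, Nat.zero_mod, st_zero hy]

theorem rn_enc {y : ℕ} (hy : y < 2058) : ∀ (w : List Gen) (m : ℕ), w.length ≤ m → rn m y (enc w) = act w y
  | [], m, _ => rn_zero hy m
  | _ :: _, 0, h => absurd h (Nat.not_succ_le_zero _)
  | x :: w, m + 1, h => by
    have h1 : enc (x :: w) = gc x + 1 + 8 * enc w := rfl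
    have h2 : gc x < 7 := by cases x <;> decide
    rw [rn_succ, h1, show (gc x + 1 + 8 * enc w) % 8 = gc x + 1 by omega,
      show (gc x + 1 + 8 * enc w) / 8 = enc w by omega, rn_enc hy w m (Nat.le_of_succ_le_succ h),
      st_gen x (act_lt w y hy), act_cons]

theorem runC_eq (y : ℕ) : ∀ n c, runC n c y = rn (8 * n) y c
  | 0, _ => rfl
  | n + 1, c => by
    have h1 : runC (n + 1) c y = r8 c (runC n (c / 16777216) y) := rfl
    rw [h1, runC_eq y n, show 8 * (n + 1) = 8 * n + 1 + 1 + 1 + 1 + 1 + 1 + 1 + 1 from rfl]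
    simp only [rn_succ, Nat.div_div_eq_div_mul]
    rfl

theorem act_fast : act = actF := by
  funext w y
  unfold actF
  cases h : Nat.ble y 2057
  · rfl
  · have hy : y < 2058 := Nat.lt_succ_of_le (Nat.le_of_ble_eq_true h)
    show act w y = runC ((w.length + 7) / 8) (enc w) y
    rw [runC_eq, rn_enc hy w _ (by omega)]

theorem chkB' : allBelow 2058 (fun y => allBelow 8 fun s => Nat.beq (stB s y) (actF (nth wB s) y)) = true := by
  decide +kernel

theorem st_B (c : ℕ) (y : Fin 2058) : stB (Nat.mod c 8) y = phi (wd (nth wB (Nat.mod c 8))) y := by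
  have h := of_allBelow (of_allBelow chkB' y y.2) (Nat.mod c 8) (Nat.mod_lt c (by decide))
  rw [← act_fast] at h
  rw [← act_eq]
  exact Nat.eq_of_beq_eq_true h

theorem r5_spec (c : ℕ) : ∃ g : Cfsg.Spor.He, ∀ y : Fin 2058, r5 c y = phi g y := by
  refine ⟨?_, fun y => ?_⟩
  swap
  · unfold r5
    rw [st_B, st_B, st_B, st_B, st_B, ← phi_mul_apply, ← phi_mul_apply, ← phi_mul_apply, ← phi_mul_apply]

theorem chkP : allBelow 2058 (fun x => Nat.beq (r5 (Nat.land (Nat.shiftRight pathT (Nat.mul 16 x)) 65535) x) 0) = true := by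
  decide +kernel

theorem colr_fast : colr = colrF := by
  funext x y
  unfold colrF
  cases h : Nat.beq (Nat.add (Nat.div x 2058) (Nat.div y 2058)) 0
  · rfl
  · have h1 : x / 2058 + y / 2058 = 0 := Nat.eq_of_beq_eq_true h
    have hx : x < 2058 := by omega
    have hy : y < 2058 := by omega
    obtain ⟨g, hg⟩ := r5_spec (Nat.land (Nat.shiftRight pathT (Nat.mul 16 x)) 65535)
    have h2 : phi g ⟨x, hx⟩ = 0 := by
      apply Fin.ext
      rw [← hg]
      exact Nat.eq_of_beq_eq_true (of_allBelow chkP x hx)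
    have h3 := colr_eq g h2 ⟨y, hy⟩
    rw [← hg] at h3
    exact h3

end Cfsg.Agent.KFacts.He.Fast
end

-- part: KFacts/He/TwoACent
section
prune_inst 0x440030220000001800000000004000000002004000012040000001410041a04500013270021201108470280a806000100019402000002a008a0040000000040122e090181c00110000406802000000000000000000000000000000000000000000000
set_option linter.all false
open scoped Cfsg.Agent.FastGrp

-- part: KFacts/He/TwoAData
section
/-! Data for the centralizer of the involution `a` of the Held group (generated file). -/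

set_option autoImplicit false

namespace Cfsg.Agent.KFacts.He.TwoAData

open Cfsg.Spor.He Cfsg.Agent.KFacts.He.Lv

/-- levels for the centralizer of `a` -/
def lvA : List Lvl := [
  { p := 427,
    ts := [([.a], 1)],
    fs := [],
    ws := [[], [.c], [.e,.c], [.e], [.b,.a,.b,.c], [.b,.a,.b,.e], [.d,.c], [.g,.c], [.b,.a,.b,.e,.c], [.b,.a,.b], [.b,.a,.b,.d,.c], [.b,.a,.b,.d,.e], [.d,.e], [.e,.d,.c], [.f,.d,.c], [.b,.a,.b,.e,.d,.c], [.b,.a,.b,.g,.c], [.c,.b,.a,.b,.d,.c], [.b,.a,.b,.f,.d,.c], [.d,.e,.d], [.g], [.g,.e], [.f,.g], [.b,.a,.b,.g], [.b,.a,.b,.f,.g], [.d,.g], [.b,.a,.b,.g,.e], [.b,.a,.b,.d,.g], [.b,.a,.b,.e,.d,.g], [.e,.d,.g], [.c,.d,.g], [.f,.d,.g], [.d,.g,.d], [.b,.a,.b,.e,.c,.d,.g], [.b,.a,.b,.c,.d,.g], [.b,.a,.b,.f,.d,.g], [.b,.a,.b,.f,.e,.d,.g], [.f,.e,.d,.g], [.f,.c,.d,.g], [.g,.f,.d,.g], [.b,.a,.b,.f,.e,.c,.d,.g], [.b,.a,.b,.f,.c,.d,.g], [.b,.a,.b,.g,.f,.d,.g], [.b,.a,.b,.f,.d,.g,.d], [.f,.d,.g,.d], [.g,.f,.c,.d,.g], [.d,.g,.f,.d,.g], [.d,.e,.c,.d], [.b,.a,.b,.f,.c,.d,.g,.d],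 [.b,.a,.b,.g,.f,.c,.d,.g], [.f,.c,.d,.g,.d], [.d], [.b,.a,.b,.d], [.b,.a,.b,.d,.e,.c], [.d,.e,.c], [.c,.d], [.e,.d], [.f,.d], [.g,.d], [.b,.a,.b,.e,.d], [.b,.a,.b,.d,.c,.d], [.b,.a,.b,.c,.d], [.d,.c,.d], [.b,.a,.b,.g,.d], [.b,.a,.b,.f,.d], [.e,.c,.d], [.b,.a,.b,.e,.c,.d], [.c,.b,.a,.b,.d,.g,.f,.d,.g], [.b,.a,.b,.d,.g,.f,.d,.g], [.d,.c,.b,.a,.b,.d,.f,.e,.d], [.f,.d,.c,.b,.a,.b,.f,.d], [.d,.f,.d,.g,.d], [.f,.g,.d,.c,.b,.a,.b,.f,.d], [.b,.a,.b,.d,.f,.e,.c,.d], [.f,.g,.d,.f,.g,.d], [.d,.c,.d,.g,.f,.d,.c], [.d,.c,.d,.f,.e,.d,.c], [.b,.a,.b,.d,.e,.c,.d], [.c,.d,.g,.f,.d,.g], [.c,.d,.f,.d,.g,.d], [.d,.f,.e,.c,.d], [.b,.a,.b,.c,.d,.f,.d,.g,.d], [.b,.a,.b,.c,.d,.g,.f,.d,.g], [.c,.d,.e,.c,.d], [.c,.d,.g,.d], [.e,.c,.d,.g], [.b,.a,.b,.c,.d,.e,.c,.d], [.b,.a,.b,.c,.d,.g,.d], [.b,.a,.b,.d,.g,.d], [.g,.f,.d,.c], [.d,.g,.f,.d,.c], [.d,.f,.e,.d], [.e,.d,.f,.c,.d], [.e,.c,.d,.f,.c,.d], [.g,.c,.d], [.g,.f,.d], [.f,.d,.e,.c], [.f,.d,.e], [.f,.e,.d,.c], [.d,.f,.e,.d,.c], [.d,.f,.g,.c,.d], [.e,.d,.g,.f,.d],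 [.e,.c,.d,.g,.f,.d], [.f,.c,.d], [.b,.a,.b,.f,.d,.e], [.b,.a,.b,.f,.e,.d,.c], [.b,.a,.b,.g,.f,.d,.c], [.b,.a,.b,.d,.g,.f,.d,.c], [.b,.a,.b,.f,.d,.e,.c], [.f,.e,.d], [.b,.a,.b,.f,.e,.d], [.b,.a,.b,.g,.f,.d], [.b,.a,.b,.f,.c,.d], [.d,.g,.f,.d], [.f,.g,.d], [.c,.b,.a,.b,.f,.d], [.c,.b,.a,.b,.f,.c,.d], [.b,.a,.b,.g,.c,.d], [.c,.b,.a,.b,.d,.f,.e,.c,.d], [.c,.d,.c,.b,.a,.b,.f,.d], [.d,.c,.b,.a,.b,.f,.d], [.b,.a,.b,.c,.d,.f,.e,.c,.d], [.e,.d,.c,.b,.a,.b,.f,.d], [.b,.a,.b,.c,.d,.f,.g,.d], [.g,.d,.c,.b,.a,.b,.f,.d], [.e,.d,.f,.g,.d], [.g,.d,.f,.g,.d], [.b,.a,.b,.e,.d,.g,.f,.d], [.f,.e,.d,.c,.b,.a,.b,.f,.d], [.d,.f,.g,.d], [.c,.d,.f,.g,.d], [.c,.d,.f,.e,.c,.d], [.b,.a,.b,.e,.d,.f,.c,.d], [.b,.a,.b,.c,.d,.f,.c,.d], [.b,.a,.b,.d,.g,.f,.d], [.d,.c,.b,.a,.b,.f,.c,.d], [.c,.d,.g,.f,.d], [.c,.d,.f,.c,.d], [.b,.a,.b,.c,.d,.g,.f,.d], [.b,.a,.b,.d,.f,.c,.d], [.b,.a,.b,.d,.f,.e,.d], [.d,.f,.c,.d], [.c,.b,.a,.b,.d,.f,.e,.d], [.b,.a,.b,.d,.f,.e,.d,.c], [.c,.d,.f,.e,.d,.c], [.c,.d,.g,.f,.d,.c], [.b,.a,.b,.c,.d,.f,.e,.d,.c],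 [.f,.g,.c,.d], [.c,.d,.f,.e,.d], [.c,.d,.f,.g,.c,.d], [.f,.e,.c,.d], [.b,.a,.b,.c,.d,.f,.e,.d], [.c,.b,.a,.b,.d,.f,.e,.d,.c], [.c,.b,.a,.b,.d,.g,.f,.d], [.c,.b,.a,.b,.d,.f,.c,.d], [.b,.a,.b,.f,.e,.c,.d], [.f,.e,.c,.d,.g], [.b,.a,.b,.e,.d,.f,.c,.d,.g], [.b,.a,.b,.d,.f,.g,.d,.c,.d,.g], [.c,.b,.a,.b,.d,.f,.d,.c,.d,.g], [.b,.a,.b,.d,.f,.d,.c,.d,.g], [.d,.f,.g,.d,.c,.d,.g], [.d,.f,.d,.c,.d,.g], [.b,.a,.b,.f,.g,.d,.c,.d,.g], [.c,.b,.a,.b,.d,.f,.c,.d,.g], [.b,.a,.b,.d,.f,.e,.c,.d,.g], [.e,.d,.c,.b,.a,.b,.d,.f,.e,.c,.d], [.g,.d,.e,.c,.d,.f,.g,.d], [.e,.d,.f,.e,.c,.d,.g], [.e,.d,.f,.c,.d,.g], [.f,.g,.d,.c,.d,.g], [.f,.d,.c,.d,.g], [.b,.a,.b,.f,.d,.c,.d,.g], [.b,.a,.b,.f,.e,.d,.c,.d,.g], [.b,.a,.b,.g,.f,.d,.c,.d,.g], [.b,.a,.b,.g,.d,.c,.d,.g], [.g,.f,.d,.c,.d,.g], [.f,.e,.d,.c,.d,.g], [.d,.f,.e,.c,.d,.g], [.d,.f,.c,.d,.g], [.c,.d,.c,.d,.f,.g,.c,.d], [.b,.a,.b,.d,.f,.c,.d,.g], [.g,.d,.c,.d,.g], [.d,.c,.d,.g], [.b,.a,.b,.d,.c,.d,.f,.e,.d], [.d,.c,.b,.a,.b,.d,.f,.e,.c,.d], [.d,.c,.b,.a,.b,.d,.f,.e,.d,.c],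 [.d,.c,.d,.c,.b,.a,.b,.f,.d], [.b,.a,.b,.d,.c,.d,.g], [.c,.b,.a,.b,.d,.c,.d,.g], [.b,.a,.b,.e,.d,.c,.d,.g], [.d,.g,.f,.d,.c,.d,.g], [.d,.f,.e,.d,.c,.d,.g], [.e,.d,.c,.d,.f,.g,.d], [.d,.c,.d,.f,.e,.c,.d], [.c,.d,.c,.d,.f,.g,.d], [.d,.c,.d,.f,.g,.d], [.e,.d,.c,.d,.g], [.d,.e,.d,.c,.d,.g], [.c,.d,.c,.d,.f,.e,.d], [.d,.c,.d,.f,.e,.d], [.e,.d,.f,.d,.g,.d], [.d,.c,.b,.a,.b,.d,.f,.c,.d,.g], [.g,.d,.c,.d,.c,.b,.a,.b,.f,.d], [.b,.a,.b,.g,.d,.c,.d,.f,.g,.d], [.b,.a,.b,.c,.d,.c,.d,.f,.e,.d], [.b,.a,.b,.d,.c,.d,.g,.f,.d,.g], [.b,.a,.b,.e,.d,.c,.d,.f,.e,.d], [.d,.c,.d,.f,.g,.c,.d], [.g,.c,.d,.f,.g,.d], [.f,.d,.c,.d,.f,.e,.d], [.e,.d,.c,.d,.f,.e,.d], [.e,.c,.d,.f,.g,.d], [.d,.e,.c,.d,.f,.g,.d], [.d,.c,.d,.g,.f,.d,.g], [.b,.a,.b,.d,.c,.d,.f,.g,.d], [.b,.a,.b,.c,.d,.c,.d,.f,.g,.d], [.b,.a,.b,.d,.g,.f,.d,.c,.d,.g], [.b,.a,.b,.d,.c,.d,.f,.e,.c,.d], [.b,.a,.b,.e,.d,.c,.d,.f,.g,.d], [.b,.a,.b,.d,.f,.e,.d,.c,.d,.g], [.g,.d,.c,.d,.f,.e,.c,.d], [.g,.d,.c,.d,.f,.g,.d], [.e,.d,.f,.d,.c,.d,.g]],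
    ys := [427, 428, 433, 434, 961, 962, 963, 964, 965, 966, 967, 968, 969, 970, 971, 972, 973, 975, 976, 977, 980, 981, 982, 983, 984, 985, 989, 990, 991, 992, 994, 997, 998, 1003, 1004, 1015, 1016, 1018, 1020, 1023, 1028, 1029, 1039, 1040, 1042, 1044, 1047, 1048, 1054, 1055, 1064, 1177, 1178, 1179, 1180, 1181, 1183, 1184, 1185, 1190, 1191, 1192, 1210, 1238, 1239, 1240, 1251, 1278, 1279, 1289, 1290, 1297, 1298, 1299, 1302, 1303, 1304, 1306, 1310, 1315, 1323, 1325, 1326, 1437, 1446, 1449, 1494, 1495, 1496, 1567, 1568, 1569, 1570, 1571, 1572, 1573, 1574, 1575, 1576, 1577, 1578, 1579, 1580, 1581, 1582, 1583, 1584, 1586, 1588, 1589, 1590, 1591, 1592, 1593, 1594, 1595, 1598, 1599, 1648, 1653, 1654, 1655, 1656, 1661, 1662, 1663, 1664, 1665, 1666, 1667, 1668, 1669, 1670, 1671, 1674, 1675, 1676, 1677, 1681, 1684, 1685, 1686, 1689, 1692, 1693, 1694, 1698, 1709, 1735, 1738, 1746, 1751, 1752, 1783, 1785, 1812, 1816, 1945, 1946, 1955, 1956, 1961, 1962, 1966, 1967, 1968, 1969, 1974, 1975,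 1976, 1977, 1978, 1981, 1983, 1984, 1985, 1986, 1987, 1989, 1993, 1996, 1999, 2000, 2010, 2011, 2012, 2013, 2014, 2015, 2016, 2017, 2018, 2019, 2020, 2021, 2023, 2024, 2025, 2026, 2028, 2029, 2031, 2032, 2033, 2034, 2035, 2036, 2037, 2038, 2040, 2041, 2042, 2043, 2044, 2045, 2047, 2048, 2049, 2050, 2051, 2052, 2055, 2056, 2057] },
  { p := 15,
    ts := [],
    fs := [(427, [], [.b,.c,.d,.c,.b,.a,.d,.c,.b,.f,.d,.c,.b], 4), (427, [.a], [.b,.c,.d,.c,.b,.a,.d,.c,.f,.d,.c,.b,.e], 4)],
    ws := [[], [.c,.d,.c,.d,.c], [.f,.d,.c,.d,.c], [.f,.e,.d,.c,.d,.c,.d], [.e,.d,.c,.d,.e], [.d,.g,.e,.d,.c,.d]],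
    ys := [15, 147, 157, 158, 160, 735] },
  { p := 147,
    ts := [],
    fs := [(15, [], [.g], 2), (427, [], [.b,.c,.d,.c,.b,.a,.d,.c,.b,.f,.d,.c,.b], 4), (427, [.a], [.b,.c,.d,.c,.b,.a,.d,.c,.f,.d,.c,.b,.e], 4)],
    ws := [[], [.f,.c], [.g,.f,.c,.d,.g,.c], [.e,.d,.g,.d,.c], [.g,.c,.d,.f,.g,.c]],
    ys := [147, 157, 158, 160, 735] },
  { p := 1044,
    ts := [],
    fs := [(15, [], [.g], 3), (147, [], [.g,.d,.c,.d,.c], 3), (427, [], [.b,.c,.d,.c,.b,.a,.d,.c,.b,.f,.d,.c,.b], 1), (427, [.a], [.b,.c,.d,.c,.b,.a,.d,.c,.f,.d,.c,.b,.e], 2)],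
    ws := [[], [.e,.d,.g,.d,.f], [.f,.d,.g,.d,.e]],
    ys := [1044, 2025, 2044] },
  { p := 1,
    ts := [([.a], 0)],
    fs := [(147, [], [.g,.d,.c,.d,.c], 3), (15, [], [.g], 1), (427, [], [.b,.c,.d,.c,.b,.a,.d,.c,.b,.f,.d,.c,.b], 2), (1044, [], [.b,.g,.d,.c,.b,.d,.e,.g,.d,.c,.d,.c,.b], 2)],
    ws := [[], [.d,.g,.d,.c,.d,.c,.d,.g,.c,.d,.c,.d], [.b,.a,.b,.f,.d,.c,.d,.g,.c,.d,.c,.b,.a,.b,.d,.f], [.d,.f,.g,.c,.d,.c,.d,.f,.d,.e,.c]],
    ys := [1, 24, 28, 142] },
  { p := 9,
    ts := [],
    fs := [(1, [], [.b], 2), (15, [], [.g], 1), (427, [], [.b,.c,.d,.c,.b,.a,.d,.c,.b,.f,.d,.c,.b], 3), (1044, [], [.b,.g,.d,.c,.b,.d,.e,.g,.d,.c,.d,.c,.b], 1), (427, [.a], [.b,.c,.d,.c,.b,.a,.d,.c,.f,.d,.c,.b,.e], 2)],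
    ws := [[], [.b,.a,.b,.c,.b,.a,.b,.e,.d,.g,.d,.c]],
    ys := [9, 263] },
  { p := 299,
    ts := [],
    fs := [(1, [], [.b], 4), (15, [], [.g], 1), (9, [.a], [.b,.c,.d,.c,.b,.d,.c,.d], 4), (1044, [], [.b,.g,.d,.c,.b,.d,.e,.g,.d,.c,.d,.c,.b], 4), (1044, [.a], [.b,.g,.d,.c,.b,.d,.e,.g,.d,.c,.d,.c,.b,.a], 1)],
    ws := [[]],
    ys := [299] },
  { p := 0,
    ts := [],
    fs := [(15, [], [.g], 2), (1, [], [.b], 1), (9, [.a], [.b,.c,.d,.c,.b,.d,.c,.d], 2), (147, [], [.g,.d,.c,.d,.c], 2), (299, [], [.b,.c,.d,.c,.b,.d,.e,.f,.d,.c,.d], 2), (1044, [], [.b,.g,.d,.c,.b,.d,.e,.g,.d,.c,.d,.c,.b], 1)],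
    ws := [[]],
    ys := [0] },
  { p := 32,
    ts := [],
    fs := [(0, [], [], 1), (1, [], [.b], 1), (15, [], [.g], 1), (299, [], [.b,.c,.d,.c,.b,.d,.e,.f,.d,.c,.d], 4), (299, [.a], [.b,.c,.d,.c,.b,.a,.d,.e,.f,.d,.c,.d], 4), (147, [], [.g,.d,.c,.d,.c], 1)],
    ws := [[]],
    ys := [32] },
  { p := 8,
    ts := [],
    fs := [(0, [], [], 2), (15, [], [.g], 1), (1, [], [.b], 1), (32, [], [.b,.g,.d,.c,.f,.d], 2), (147, [], [.g,.d,.c,.d,.c], 2), (1044, [], [.b,.g,.d,.c,.b,.d,.e,.g,.d,.c,.d,.c,.b], 2), (9, [], [.b,.c,.d,.c,.b,.a,.d,.c,.b], 2)],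
    ws := [[]],
    ys := [8] }]

/-- levels for the centralizer of `c, d, e, f, g` -/
def lvL : List Lvl := [
  { p := 8,
    ts := [([.e,.c,.d,.c], 0), ([.f,.d,.g,.d,.c], 4)],
    fs := [],
    ws := [[], [.a], [.f,.d,.c,.d,.f,.c,.d,.c,.d,.f,.c,.d,.c,.d,.c,.a], [.f,.d,.c,.d,.f,.c,.d,.c,.d,.f,.c,.d,.c,.d,.c]],
    ys := [8, 60, 999, 1019] },
  { p := 0,
    ts := [],
    fs := [(8, [.d,.e,.d], [.b,.c,.d,.c,.b], 2), (8, [.g,.d,.f], [.b,.c,.d,.c,.b,.a,.d,.e,.f,.d,.g], 4), (8, [.f,.d,.e,.d], [.b,.c,.d,.c,.b,.f], 2)],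
    ws := [[]],
    ys := [0] },
  { p := 1,
    ts := [],
    fs := [(0, [], [], 1), (0, [.c,.d,.c,.d,.g], [.g,.d,.c,.d,.c], 3), (8, [.g,.e,.d], [.b,.c,.d,.c,.b,.d,.g], 4), (0, [.c,.d,.g], [.g,.d,.c], 1), (0, [.e,.d,.g], [.g,.d,.e], 1)],
    ws := [[]],
    ys := [1] },
  { p := 32,
    ts := [],
    fs := [(0, [], [], 1), (1, [.d,.f,.c,.d,.g], [.b,.g,.d,.c,.f,.d], 0)],
    ws := [[]],
    ys := [32] }]

/-- levels for the kernel on the 21 points -/
def lvK : List Lvl := [
  { p := 8,
    ts := [],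
    fs := [(0, [], [], 2), (18, [], [.g,.d,.f], 3), (19, [], [.g,.d,.e,.f], 2)],
    ws := [[], [.a], [.f,.d,.c,.d,.f,.c,.d,.c,.d,.f,.c,.d,.c,.d,.c,.a], [.f,.d,.c,.d,.f,.c,.d,.c,.d,.f,.c,.d,.c,.d,.c]],
    ys := [8, 60, 999, 1019] },
  { p := 2,
    ts := [],
    fs := [(0, [], [], 1), (146, [], [.g,.d,.c,.d], 3), (15, [], [.g], 1), (160, [], [.g,.d,.c,.d,.e], 3), (735, [], [.g,.d,.c,.d,.c,.e,.d], 3), (8, [.a], [.b,.c,.d,.c,.b,.d,.e], 2)],
    ws := [[]],
    ys := [2] },
  { p := 1,
    ts := [],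
    fs := [(0, [], [], 1), (147, [], [.g,.d,.c,.d,.c], 3), (15, [], [.g], 1), (730, [], [.g,.d,.c,.d,.c,.e], 3), (735, [], [.g,.d,.c,.d,.c,.e,.d], 3), (2, [], [.b,.c], 1)],
    ws := [[]],
    ys := [1] },
  { p := 32,
    ts := [],
    fs := [(0, [], [], 1), (18, [], [.g,.d,.f], 3), (2, [], [.b,.c], 2), (22, [], [.g,.d,.c], 3), (1, [], [.b], 1)],
    ws := [[]],
    ys := [32] }]

/-- levels for the centralizer of `a, d, e, f, g` -/
def lvD : List Lvl := [
  { p := 32,
    ts := [([.g,.d,.e], 0), ([.f,.a], 1)],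
    fs := [],
    ws := [[.f,.d,.c,.d,.f,.c,.d,.c,.d,.f,.c,.d,.c,.d,.c,.b,.a,.b], [], [.f,.d,.c,.d,.f,.c,.d,.c,.d,.f,.c,.d,.c,.d,.c], [.b,.a,.b]],
    ys := [29, 32, 50, 143] },
  { p := 8,
    ts := [],
    fs := [(32, [.e,.d,.f,.d], [.b,.g,.d,.c,.d,.e], 3), (32, [.f,.e], [.b,.c,.d,.c,.f,.d,.c,.e], 4), (32, [.e,.d,.g,.d,.f], [.b,.g,.d,.c,.e,.d,.g,.f], 4)],
    ws := [[], [.a]],
    ys := [8, 60] },
  { p := 0,
    ts := [],
    fs := [(32, [.g,.d,.f,.d], [.b,.g,.d,.c,.d,.g], 4), (32, [.g,.e,.d,.f], [.b,.g,.d,.c,.d,.g,.f], 4), (32, [.d,.g,.e,.d,.f], [.b,.g,.d,.c,.d,.g,.f,.d], 4)],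
    ws := [[]],
    ys := [0] },
  { p := 1,
    ts := [],
    fs := [(0, [], [], 1), (0, [.g], [.g], 1), (8, [.g,.e,.a], [.b,.c,.d,.c,.b,.d,.g], 4), (8, [.g,.a], [.b,.c,.d,.c,.b,.d,.e,.g], 4), (0, [.f,.d,.g], [.g,.d,.f], 1)],
    ws := [[]],
    ys := [1] }]

end Cfsg.Agent.KFacts.He.TwoAData
end

-- part: KFacts/He/TwoAChk
section
/-!
# The kernel checks for the centralizer of the involution `a` of the Held group
-/

set_option autoImplicit false

namespace Cfsg.Agent.KFacts.He.TwoAChk

open Cfsg.Spor.He Cfsg.Agent.KFacts.He.Lv Cfsg.Agent.KFacts.He.TwoAData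

/-- the 21 points -/
def om : List ℕ := [0, 15, 17, 18, 19, 20, 21, 22, 146, 147, 148, 153, 157, 158, 159, 160, 161, 164, 730, 735, 736]

set_option maxRecDepth 100000

open Cfsg.Agent.SporadicB.HePerm (allBelow act) in
open Cfsg.Agent.FixBN.HeStab (col colr) in
open Cfsg.Agent.KFacts.He.Fast (actF colrF act_fast colr_fast) in
/-- `chkAll` with the fast versions of `act` and `colr` in the loops -/
private noncomputable def chkF (al : List Gen) (ls : List Lvl) : List ℕ → Bool :=
  List.rec (fun F => and (and (elemN 0 F) (elemN 1 F)) (and (elemN 32 F) (elemN 8 F)))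
    (fun l _ ih F => and (chk0 al F l) (and (allBelow 2058 fun y =>
      bif l.ts.all fun t => Nat.beq (colrF y (actF t.1 y)) t.2 then
        (bif l.fs.all fun e => Nat.beq (col (actF e.2.2.1 y)) e.2.2.2 then elemN y l.ys else true) else true)
      (ih (l.p :: F)))) ls

open Cfsg.Agent.SporadicB.HePerm (allBelow act) in
open Cfsg.Agent.FixBN.HeStab (col colr) in
open Cfsg.Agent.KFacts.He.Fast (actF colrF act_fast colr_fast) in
private theorem chkF_eq (al : List Gen) : ∀ (ls : List Lvl) (F : List ℕ), chkAll al F ls = chkF al ls F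
  | [], _ => rfl
  | l :: ls, F => by
    show and (chk0 al F l) (and (allBelow 2058 fun y =>
      bif l.ts.all fun t => Nat.beq (colr y (act t.1 y)) t.2 then
        (bif l.fs.all fun e => Nat.beq (col (act e.2.2.1 y)) e.2.2.2 then elemN y l.ys else true) else true)
      (chkAll al (l.p :: F) ls)) = _
    rw [chkF_eq al ls, act_fast, colr_fast]
    rfl

theorem chkA : chkAll [.a] [] lvA = true := by
  rw [chkF_eq]
  decide +kernel

theorem chkL : chkAll [.c, .d, .e, .f, .g] [] lvL = true := by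
  rw [chkF_eq]
  decide +kernel

theorem chkK : chkAll [.a] om lvK = true := by
  rw [chkF_eq]
  decide +kernel

theorem chkD : chkAll [.a, .d, .e, .f, .g] [] lvD = true := by
  rw [chkF_eq]
  decide +kernel

end Cfsg.Agent.KFacts.He.TwoAChk
end

-- part: KFacts/He/TwoACent
section
/-!
# The centralizer of the involution `a` of the Held group

`L = ⟨c, d, e, f, g⟩` is perfect, `C(a) = L ∪ L s` with `s = b a b`, `C(L) = {1, a, v, a v}`, and an
automorphism trivial on `L` is the conjugation by an element of `C(L)`.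
-/

set_option autoImplicit false

namespace Cfsg.Agent.KFacts.He.TwoACent

open Subgroup
open Cfsg.Spor Cfsg.Spor.He Cfsg.Agent.SporadicB.HePerm Cfsg.Agent.FixBN.HeStab
open Cfsg.Agent.KFacts.He.Lv Cfsg.Agent.KFacts.He.TwoAData Cfsg.Agent.KFacts.He.TwoAChk
open scoped commutatorElement

/-- the group `⟨c, d, e, f, g⟩` -/
def L : Subgroup Cfsg.Spor.He := closure {x | ∃ m : Gen, (m = .c ∨ m = .d ∨ m = .e ∨ m = .f ∨ m = .g) ∧ gn m = x}

/-- the element `b a b` -/
def s : Cfsg.Spor.He := wd [.b, .a, .b]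

/-- the word of the second central involution of `L` -/
def vW : List Gen := [.f,.d,.c,.d,.f,.c,.d,.c,.d,.f,.c,.d,.c,.d,.c]

/-- the second central involution of `L` -/
def v : Cfsg.Spor.He := wd vW

theorem gn_mul_self (m : Gen) : gn m * gn m = 1 := by
  have h := eq_of_chkB (v := [m, m]) (w := []) (by cases m <;> decide +kernel)
  rwa [wd_cons, wd_one, wd_nil] at h

theorem gn_inv (m : Gen) : (gn m)⁻¹ = gn m := inv_eq_of_mul_eq_one_left (gn_mul_self m)

theorem gn_mem_L {m : Gen} (h : m = .c ∨ m = .d ∨ m = .e ∨ m = .f ∨ m = .g) : gn m ∈ L :=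
  subset_closure ⟨m, h, rfl⟩

/-- the letters of `L` -/
def lL : List Gen := [.c, .d, .e, .f, .g]

theorem mem_lL {m : Gen} : m ∈ lL ↔ (m = .c ∨ m = .d ∨ m = .e ∨ m = .f ∨ m = .g) := by
  simp [lL]

theorem wd_mem_L {w : List Gen} (h : ovr lL w = true) : wd w ∈ L := by
  have h1 := of_ovr h
  induction w with
  | nil => rw [wd_nil]; exact L.one_mem
  | cons x w ih =>
    rw [wd_cons]
    refine L.mul_mem (gn_mem_L (mem_lL.mp (h1 x List.mem_cons_self))) (ih ?_ ?_)
    · unfold ovr at h ⊢
      rw [List.all_cons, Bool.and_eq_true] at h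
      exact h.2
    · exact fun y hy => h1 y (List.mem_cons_of_mem _ hy)

theorem s_mul_self : s * s = 1 := by
  have h := eq_of_chkB (v := ([.b, .a, .b] : List Gen) ++ ([.b, .a, .b] : List Gen)) (w := []) (by decide +kernel)
  rwa [wd_append, wd_nil] at h

theorem s_inv : s⁻¹ = s := inv_eq_of_mul_eq_one_left s_mul_self

theorem a_mem_L : gn .a ∈ L := by
  have h := eq_of_chkB (v := [.a]) (w := powWord [.c, .d] 5) (by decide +kernel)
  rw [wd_one] at h
  rw [h]
  exact wd_mem_L (by decide)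

theorem v_mem_L : v ∈ L := wd_mem_L (by decide)

theorem s_comm_a : s * gn .a = gn .a * s := by
  have h := eq_of_chkB (v := ([.b, .a, .b] : List Gen) ++ ([.a] : List Gen)) (w := .a :: ([.b, .a, .b] : List Gen)) (by decide +kernel)
  rwa [wd_append, wd_one, wd_cons] at h

theorem s_conj_mem {x : Cfsg.Spor.He} (hx : x ∈ L) : s * x * s ∈ L := by
  induction hx using closure_induction with
  | mem x hx =>
    obtain ⟨m, hm, rfl⟩ := hx
    rcases hm with rfl | rfl | rfl | rfl | rfl
    · have h := eq_of_chkB (v := ([.b, .a, .b] : List Gen) ++ ([.c] : List Gen) ++ ([.b, .a, .b] : List Gen))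
        (w := [.e, .d, .c, .d, .c, .d, .c, .d, .c, .d]) (by decide +kernel)
      rw [wd_append, wd_append, wd_one] at h
      show wd [.b, .a, .b] * gn .c * wd [.b, .a, .b] ∈ L
      rw [h]
      exact wd_mem_L (by decide)
    · have h := eq_of_chkB (v := ([.b, .a, .b] : List Gen) ++ ([.d] : List Gen) ++ ([.b, .a, .b] : List Gen)) (w := ([.d] : List Gen)) (by decide +kernel)
      rw [wd_append, wd_append, wd_one] at h
      show wd [.b, .a, .b] * gn .d * wd [.b, .a, .b] ∈ L
      rw [h]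
      exact gn_mem_L (by simp)
    · have h := eq_of_chkB (v := ([.b, .a, .b] : List Gen) ++ ([.e] : List Gen) ++ ([.b, .a, .b] : List Gen)) (w := ([.e] : List Gen)) (by decide +kernel)
      rw [wd_append, wd_append, wd_one] at h
      show wd [.b, .a, .b] * gn .e * wd [.b, .a, .b] ∈ L
      rw [h]
      exact gn_mem_L (by simp)
    · have h := eq_of_chkB (v := ([.b, .a, .b] : List Gen) ++ ([.f] : List Gen) ++ ([.b, .a, .b] : List Gen)) (w := ([.f] : List Gen)) (by decide +kernel)
      rw [wd_append, wd_append, wd_one] at h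
      show wd [.b, .a, .b] * gn .f * wd [.b, .a, .b] ∈ L
      rw [h]
      exact gn_mem_L (by simp)
    · have h := eq_of_chkB (v := ([.b, .a, .b] : List Gen) ++ ([.g] : List Gen) ++ ([.b, .a, .b] : List Gen)) (w := ([.g] : List Gen)) (by decide +kernel)
      rw [wd_append, wd_append, wd_one] at h
      show wd [.b, .a, .b] * gn .g * wd [.b, .a, .b] ∈ L
      rw [h]
      exact gn_mem_L (by simp)
  | one => rw [mul_one, s_mul_self]; exact L.one_mem
  | mul x y _ _ hx hy =>
    have h : s * (x * y) * s = s * x * s * (s * y * s) := by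
      calc s * (x * y) * s = s * x * (1 * y) * s := by group
        _ = s * x * ((s * s) * y) * s := by rw [s_mul_self]
        _ = s * x * s * (s * y * s) := by group
    rw [h]
    exact L.mul_mem hx hy
  | inv x _ hx =>
    have h : s * x⁻¹ * s = (s * x * s)⁻¹ := by
      rw [mul_inv_rev, mul_inv_rev, s_inv]
      group
    rw [h]
    exact L.inv_mem hx

/-- the subgroup `L ∪ L s` -/
def C : Subgroup Cfsg.Spor.He where
  carrier := {x | x ∈ L ∨ x * s ∈ L}
  one_mem' := Or.inl L.one_mem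
  mul_mem' := by
    intro x y hx hy
    have key : ∀ z : Cfsg.Spor.He, s * (z * s) * s = s * z := fun z => by
      calc s * (z * s) * s = s * z * (s * s) := by group
        _ = s * z := by rw [s_mul_self, mul_one]
    rcases hx with hx | hx <;> rcases hy with hy | hy
    · exact Or.inl (L.mul_mem hx hy)
    · refine Or.inr ?_
      rw [mul_assoc]
      exact L.mul_mem hx hy
    · refine Or.inr ?_
      have h : x * y * s = x * s * (s * y * s) := by
        calc x * y * s = x * (1 * y) * s := by group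
          _ = x * ((s * s) * y) * s := by rw [s_mul_self]
          _ = x * s * (s * y * s) := by group
      rw [h]
      exact L.mul_mem hx (s_conj_mem hy)
    · refine Or.inl ?_
      have h : x * y = x * s * (s * (y * s) * s) := by
        rw [key]
        calc x * y = x * (1 * y) := by group
          _ = x * ((s * s) * y) := by rw [s_mul_self]
          _ = x * s * (s * y) := by group
      rw [h]
      exact L.mul_mem hx (s_conj_mem hy)
  inv_mem' := by
    intro x hx
    rcases hx with hx | hx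
    · exact Or.inl (L.inv_mem hx)
    · refine Or.inr ?_
      have h : x⁻¹ * s = s * (x * s)⁻¹ * s := by
        rw [mul_inv_rev, s_inv]
        calc x⁻¹ * s = 1 * x⁻¹ * s := by group
          _ = (s * s) * x⁻¹ * s := by rw [s_mul_self]
          _ = s * (s * x⁻¹) * s := by group
      rw [h]
      exact s_conj_mem (L.inv_mem hx)

theorem mem_C {x : Cfsg.Spor.He} : x ∈ C ↔ (x ∈ L ∨ x * s ∈ L) := Iff.rfl

theorem L_le_C : L ≤ C := fun _ h => Or.inl h

theorem s_mem_C : s ∈ C := Or.inr (by rw [s_mul_self]; exact L.one_mem)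

/-- the word is a product of the letters of `L` and of `b a b` -/
def inC : List Gen → Bool
  | [] => true
  | .b :: .a :: .b :: w => inC w
  | .c :: w => inC w
  | .d :: w => inC w
  | .e :: w => inC w
  | .f :: w => inC w
  | .g :: w => inC w
  | _ => false

theorem wd_mem_C (w : List Gen) : inC w = true → wd w ∈ C := by
  induction w using inC.induct with
  | case1 => intro _; rw [wd_nil]; exact C.one_mem
  | case2 w ih =>
    intro h
    have e : wd (([.b, .a, .b] : List Gen) ++ w) = s * wd w := by rw [wd_append]; rfl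
    show wd (([.b, .a, .b] : List Gen) ++ w) ∈ C
    rw [e]
    exact C.mul_mem s_mem_C (ih h)
  | case3 w ih => intro h; rw [wd_cons]; exact C.mul_mem (L_le_C (gn_mem_L (by simp))) (ih h)
  | case4 w ih => intro h; rw [wd_cons]; exact C.mul_mem (L_le_C (gn_mem_L (by simp))) (ih h)
  | case5 w ih => intro h; rw [wd_cons]; exact C.mul_mem (L_le_C (gn_mem_L (by simp))) (ih h)
  | case6 w ih => intro h; rw [wd_cons]; exact C.mul_mem (L_le_C (gn_mem_L (by simp))) (ih h)
  | case7 w ih => intro h; rw [wd_cons]; exact C.mul_mem (L_le_C (gn_mem_L (by simp))) (ih h)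
  | case8 w h1 h2 h3 h4 h5 h6 h7 =>
    intro h
    rw [inC] at h
    · exact absurd h (by decide)
    all_goals assumption

theorem inC_lvA : (lvA.all fun l => l.ws.all inC) = true := by decide +kernel

/-- **The centralizer of `a`.** -/
theorem mem_C_of_comm {x : Cfsg.Spor.He} (h : x * gn .a = gn .a * x) : x ∈ C := by
  have h1 : Pr lvA x := mem_of_chk chkA (by
    intro m hm
    rw [List.mem_singleton] at hm
    rw [hm]
    exact h) (by intro f hf; exact absurd hf List.not_mem_nil)
  refine mem_of_pr (fun l hl w hw => wd_mem_C w ?_) h1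
  have h2 := inC_lvA
  rw [List.all_eq_true] at h2
  have h3 := h2 l hl
  rw [List.all_eq_true] at h3
  exact h3 w hw

/-- `L` commutes with `a` -/
theorem L_comm_a {x : Cfsg.Spor.He} (hx : x ∈ L) : x * gn .a = gn .a * x := by
  induction hx using closure_induction with
  | mem x hx =>
    obtain ⟨m, hm, rfl⟩ := hx
    have h := eq_of_chkB (v := [m, .a]) (w := [.a, m]) (by
      rcases hm with rfl | rfl | rfl | rfl | rfl <;> decide +kernel)
    rwa [wd_cons, wd_one, wd_cons, wd_one] at h
  | one => rw [one_mul, mul_one]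
  | mul x y _ _ hx hy => rw [mul_assoc, hy, ← mul_assoc, hx, mul_assoc]
  | inv x _ hx => exact ((show Commute x (gn .a) from hx).inv_left)

/-- `L` commutes with `v` -/
theorem L_comm_v {x : Cfsg.Spor.He} (hx : x ∈ L) : x * v = v * x := by
  induction hx using closure_induction with
  | mem x hx =>
    obtain ⟨m, hm, rfl⟩ := hx
    have h := eq_of_chkB (v := [m] ++ vW) (w := vW ++ [m]) (by
      rcases hm with rfl | rfl | rfl | rfl | rfl <;> decide +kernel)
    rwa [wd_append, wd_one, wd_append, wd_one] at h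
  | one => rw [one_mul, mul_one]
  | mul x y _ _ hx hy => rw [mul_assoc, hy, ← mul_assoc, hx, mul_assoc]
  | inv x _ hx => exact ((show Commute x v from hx).inv_left)

theorem norm {c : Cfsg.Spor.He} (hc : c * gn .a = gn .a * c) {l : Cfsg.Spor.He} (hl : l ∈ L) :
    c * l * c⁻¹ ∈ L := by
  rcases mem_C_of_comm hc with h | h
  · exact L.mul_mem (L.mul_mem h hl) (L.inv_mem h)
  · have e : c * l * c⁻¹ = c * s * (s * l * s) * (c * s)⁻¹ := by
      rw [mul_inv_rev, s_inv]
      calc c * l * c⁻¹ = c * (1 * l * 1) * c⁻¹ := by group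
        _ = c * ((s * s) * l * (s * s)) * c⁻¹ := by rw [s_mul_self]
        _ = c * s * (s * l * s) * (s * c⁻¹) := by group
    rw [e]
    exact L.mul_mem (L.mul_mem h (s_conj_mem hl)) (L.inv_mem h)

theorem two {c d : Cfsg.Spor.He} (hc : c * gn .a = gn .a * c) (hd : d * gn .a = gn .a * d) :
    c ∈ L ∨ d ∈ L ∨ c * d ∈ L := by
  rcases mem_C_of_comm hc with h | h
  · exact Or.inl h
  rcases mem_C_of_comm hd with h' | h'
  · exact Or.inr (Or.inl h')
  refine Or.inr (Or.inr ?_)
  have e : c * d = c * s * (s * (d * s) * s) := by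
    calc c * d = c * (1 * d * 1) := by group
      _ = c * ((s * s) * d * (s * s)) := by rw [s_mul_self]
      _ = c * s * (s * (d * s) * s) := by group
  rw [e]
  exact L.mul_mem h (s_conj_mem h')

/-! ### the centralizer of `L` -/

/-- the group `{1, a, v, a v}` -/
def V : Subgroup Cfsg.Spor.He := centralizer (L : Set Cfsg.Spor.He)

theorem mem_V {x : Cfsg.Spor.He} : x ∈ V ↔ ∀ l ∈ L, l * x = x * l := mem_centralizer_iff

theorem a_mem_V : gn .a ∈ V := mem_V.mpr fun _ hl => L_comm_a hl

theorem v_mem_V : v ∈ V := mem_V.mpr fun _ hl => L_comm_v hl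

theorem V_eq {x : Cfsg.Spor.He} (hx : x ∈ V) : x = 1 ∨ x = gn .a ∨ x = v ∨ x = v * gn .a := by
  have h1 : Pr lvL x := mem_of_chk chkL (by
    intro m hm
    exact (mem_V.mp hx _ (gn_mem_L (mem_lL.mp hm))).symm) (by intro f hf; exact absurd hf List.not_mem_nil)
  obtain ⟨x1, hx1, x2', ⟨x2, hx2, x3', ⟨x3, hx3, x4', ⟨x4, hx4, x5, hx5, rfl⟩, rfl⟩, rfl⟩, rfl⟩ := h1
  rw [show x5 = 1 from hx5]
  have e2 : x2 = [] := by simpa [lvL] using hx2
  have e3 : x3 = [] := by simpa [lvL] using hx3
  have e4 : x4 = [] := by simpa [lvL] using hx4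
  rw [e2, e3, e4, wd_nil, mul_one, mul_one, mul_one, mul_one]
  have e1 : x1 = [] ∨ x1 = ([.a] : List Gen) ∨ x1 = vW ++ ([.a] : List Gen) ∨ x1 = vW := by
    simpa [lvL, vW] using hx1
  rcases e1 with rfl | rfl | rfl | rfl
  · exact Or.inl wd_nil
  · exact Or.inr (Or.inl (wd_one _))
  · exact Or.inr (Or.inr (Or.inr (by rw [wd_append, wd_one]; rfl)))
  · exact Or.inr (Or.inr (Or.inl rfl))

/-! ### `V` has order four, `L` is perfect -/

theorem v_mul_self : v * v = 1 := by
  have h := eq_of_chkB (v := vW ++ vW) (w := []) (by decide +kernel)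
  rwa [wd_append, wd_nil] at h

theorem ne_of_act {x y : List Gen} (i : Fin 2058) (h : Nat.beq (act x i) (act y i) = false) :
    wd x ≠ wd y := by
  intro he
  rw [act_eq, act_eq, he, Nat.beq_refl] at h
  exact absurd h (by decide)

theorem a_ne_one : gn .a ≠ 1 := by
  rw [← wd_one, ← wd_nil]; exact ne_of_act 8 (by decide +kernel)

theorem v_ne_one : v ≠ 1 := by
  rw [← wd_nil]; exact ne_of_act 8 (by decide +kernel)

theorem v_ne_a : v ≠ gn .a := by
  rw [← wd_one]; exact ne_of_act 8 (by decide +kernel)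

theorem va_mem_V : v * gn .a ∈ V := V.mul_mem v_mem_V a_mem_V

theorem V_coe : (V : Set Cfsg.Spor.He) = {1, gn .a, v, v * gn .a} := by
  ext x
  constructor
  · intro hx
    rcases V_eq hx with h | h | h | h
    · exact Or.inl h
    · exact Or.inr (Or.inl h)
    · exact Or.inr (Or.inr (Or.inl h))
    · exact Or.inr (Or.inr (Or.inr h))
  · intro hx
    rcases hx with h | h | h | h
    · rw [h]; exact V.one_mem
    · rw [h]; exact a_mem_V
    · rw [h]; exact v_mem_V
    · rw [h]; exact va_mem_V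

theorem card_V : Nat.card V = 4 := by
  classical
  have h1 : (V : Set Cfsg.Spor.He) = (({1, gn .a, v, v * gn .a} : Finset Cfsg.Spor.He) : Set Cfsg.Spor.He) := by
    rw [V_coe]; simp
  have h2 : Nat.card V = ({1, gn .a, v, v * gn .a} : Finset Cfsg.Spor.He).card := by
    rw [← Nat.card_eq_finsetCard]
    exact Nat.card_congr (Equiv.setCongr h1)
  rw [h2, Finset.card_insert_of_notMem, Finset.card_insert_of_notMem, Finset.card_insert_of_notMem,
    Finset.card_singleton]
  · rw [Finset.mem_singleton]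
    intro h
    exact a_ne_one (left_eq_mul.mp h)
  · rw [Finset.mem_insert, Finset.mem_singleton]
    rintro (h | h)
    · exact v_ne_a h.symm
    · exact v_ne_one (right_eq_mul.mp h)
  · rw [Finset.mem_insert, Finset.mem_insert, Finset.mem_singleton]
    rintro (h | h | h)
    · exact a_ne_one h.symm
    · exact v_ne_one h.symm
    · have h3 : v = (gn .a)⁻¹ := eq_inv_of_mul_eq_one_left h.symm
      rw [gn_inv] at h3
      exact v_ne_a h3

theorem V_le_L : V ≤ L := by
  intro x hx
  rcases V_eq hx with rfl | rfl | rfl | rfl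
  · exact L.one_mem
  · exact a_mem_L
  · exact v_mem_L
  · exact L.mul_mem v_mem_L a_mem_L

/-- `s` moves `v` to `v a` -/
theorem s_conj_v : s * v * s⁻¹ * v⁻¹ = gn .a := by
  have h := eq_of_chkB (v := ([.b, .a, .b] : List Gen) ++ vW ++ ([.b, .a, .b] : List Gen) ++ vW) (w := ([.a] : List Gen)) (by decide +kernel)
  rw [wd_append, wd_append, wd_append, wd_one] at h
  rw [s_inv, inv_eq_of_mul_eq_one_left v_mul_self]
  exact h

/-- a relation in `L` -/
theorem conj_mem_comm {x y z : Cfsg.Spor.He} (hz : z ∈ L) (hx : x ∈ ⁅L, L⁆) (h : y = z * x * z⁻¹) : y ∈ ⁅L, L⁆ := by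
  have h1 : y = ⁅z, x⁆ * x := by rw [h, commutatorElement_def]; group
  rw [h1]
  exact (⁅L, L⁆).mul_mem (commutator_mem_commutator hz (commutator_le_self L hx)) hx

theorem perf : ⁅L, L⁆ = L := by
  apply le_antisymm (commutator_le_self L)
  have mc := gn_mem_L (m := .c) (by simp)
  have md := gn_mem_L (m := .d) (by simp)
  have me := gn_mem_L (m := .e) (by simp)
  have mf := gn_mem_L (m := .f) (by simp)
  have mg := gn_mem_L (m := .g) (by simp)
  have he : gn .e ∈ ⁅L, L⁆ := by
    have h := eq_of_chkB (v := [.e]) (w := [.f, .g, .f, .g]) (by decide +kernel)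
    rw [wd_one, wd_cons, wd_cons, wd_cons, wd_one] at h
    have h1 : gn .e = ⁅gn .f, gn .g⁆ := by
      rw [commutatorElement_def, gn_inv, gn_inv, h]; group
    rw [h1]
    exact commutator_mem_commutator mf mg
  have hd : gn .d ∈ ⁅L, L⁆ := by
    have h := eq_of_chkB (v := [.d]) (w := [.e, .d, .e, .d, .e]) (by decide +kernel)
    rw [wd_one, wd_cons, wd_cons, wd_cons, wd_cons, wd_one] at h
    refine conj_mem_comm (z := gn .e * gn .d) (L.mul_mem me md) he ?_
    rw [mul_inv_rev, gn_inv, gn_inv]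
    exact h.trans (by group)
  have hf : gn .f ∈ ⁅L, L⁆ := by
    have h := eq_of_chkB (v := [.f]) (w := [.d, .f, .d, .f, .d]) (by decide +kernel)
    rw [wd_one, wd_cons, wd_cons, wd_cons, wd_cons, wd_one] at h
    refine conj_mem_comm (z := gn .d * gn .f) (L.mul_mem md mf) hd ?_
    rw [mul_inv_rev, gn_inv, gn_inv]
    exact h.trans (by group)
  have hg : gn .g ∈ ⁅L, L⁆ := by
    have h := eq_of_chkB (v := [.g]) (w := [.d, .g, .d, .g, .d]) (by decide +kernel)
    rw [wd_one, wd_cons, wd_cons, wd_cons, wd_cons, wd_one] at h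
    refine conj_mem_comm (z := gn .d * gn .g) (L.mul_mem md mg) hd ?_
    rw [mul_inv_rev, gn_inv, gn_inv]
    exact h.trans (by group)
  have hcx : ∀ {x : Cfsg.Spor.He}, x ∈ ⁅L, L⁆ → gn .c * x * gn .c ∈ ⁅L, L⁆ := fun {x} hx =>
    conj_mem_comm mc hx (by rw [gn_inv])
  have hc : gn .c ∈ ⁅L, L⁆ := by
    -- `e d c d e d c d c d e d c d c = 1`
    have h := eq_of_chkB (v := ([.c] : List Gen)) (w := ([.e, .d] : List Gen) ++ (([.c, .d, .e, .d, .c] : List Gen) ++ ([.d] : List Gen) ++ (([.c] : List Gen) ++ ([.d, .e, .d] : List Gen) ++ ([.c] : List Gen)) ++ ([.d] : List Gen)))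
      (by decide +kernel)
    rw [wd_one] at h
    rw [h]
    have m1 : wd [.e, .d] ∈ ⁅L, L⁆ := by
      rw [wd_cons, wd_one]; exact (⁅L, L⁆).mul_mem he hd
    have m2 : wd [.d, .e, .d] ∈ ⁅L, L⁆ := by
      rw [wd_cons, wd_cons, wd_one]; exact (⁅L, L⁆).mul_mem hd ((⁅L, L⁆).mul_mem he hd)
    have m3 : wd (([.c] : List Gen) ++ ([.d, .e, .d] : List Gen) ++ ([.c] : List Gen)) ∈ ⁅L, L⁆ := by
      rw [wd_append, wd_append, wd_one]; exact hcx m2
    have m4 : wd [.c, .d, .e, .d, .c] ∈ ⁅L, L⁆ := m3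
    rw [wd_append, wd_append, wd_append, wd_append, wd_one]
    exact (⁅L, L⁆).mul_mem m1 ((⁅L, L⁆).mul_mem ((⁅L, L⁆).mul_mem ((⁅L, L⁆).mul_mem m4 hd) m3) hd)
  unfold L at *
  rw [closure_le]
  rintro x ⟨m, hm, rfl⟩
  rcases hm with rfl | rfl | rfl | rfl | rfl
  · exact hc
  · exact hd
  · exact he
  · exact hf
  · exact hg

end Cfsg.Agent.KFacts.He.TwoACent
end

private theorem dce_b786930aae36 : _root_.True := by
  try have : _root_.True := by simp only [_root_.Cfsg.Agent.KFacts.He.TwoACent.inC.induct]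
  try have : _root_.True := by simp only [_root_.Cfsg.Agent.KFacts.He.TwoACent.inC.eq_1]
  try have : _root_.True := by simp only [_root_.Cfsg.Agent.KFacts.He.TwoACent.lL.eq_1]
  try have : _root_.True := by simp only [_root_.Cfsg.Agent.KFacts.He.TwoACent.inC._sparseCasesOn_3.else_eq]
  try have : _root_.True := by simp only [_root_.Cfsg.Agent.KFacts.He.TwoACent.inC._sparseCasesOn_4.else_eq]
  try have : _root_.True := by simp only [_root_.Cfsg.Agent.KFacts.He.TwoACent.inC.eq_7]
  try have : _root_.True := by simp only [_root_.Cfsg.Agent.KFacts.He.TwoAData.lvL.eq_1]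
  try have : _root_.True := by simp only [_root_.Cfsg.Agent.KFacts.He.TwoACent.inC.eq_def]
  try have : _root_.True := by simp only [_root_.Cfsg.Agent.KFacts.He.TwoACent.inC.eq_5]
  try have : _root_.True := by simp only [_root_.Cfsg.Agent.KFacts.He.TwoACent.inC.eq_6]
  try have : _root_.True := by simp only [_root_.Cfsg.Agent.KFacts.He.TwoACent.inC.eq_3]
  try have : _root_.True := by simp only [_root_.Cfsg.Agent.KFacts.He.TwoACent.inC._sparseCasesOn_2.else_eq]
  try have : _root_.True := by simp only [_root_.Cfsg.Agent.KFacts.He.TwoACent.inC.eq_2]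
  try have : _root_.True := by simp only [_root_.Cfsg.Agent.KFacts.He.TwoACent.vW.eq_1]
  try have : _root_.True := by simp only [_root_.Cfsg.Agent.KFacts.He.TwoACent.inC.eq_4]
  try have : _root_.True := by simp only [_root_.Cfsg.Agent.KFacts.He.TwoACent.inC.eq_8]
  try have : _root_.True := by simp only [_root_.Cfsg.Agent.KFacts.He.TwoACent.inC._sparseCasesOn_1.else_eq]
  exact _root_.True.intro
end

-- part: KFacts/He/TwoAPlane
section
prune_inst 0x1000450034000000081800000000004020000002004040000040000001410041200100013270001201d484700008006000000009402000000a008a00000000000400020090080000010000400000000000000000000000000000000000000000000000000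
set_option linter.all false
open scoped Cfsg.Agent.FastGrp

/-!
# The group `L` of the Held group modulo its centre is `PSL(3,4)`

`L = ⟨c, d, e, f, g⟩` acts on 21 of the 2058 points as `PSL(3,4)` on the points of the projective plane of
order four, and the kernel is the centre `V` of `L`.
-/

set_option autoImplicit false

namespace Cfsg.Agent.KFacts.He.TwoAPlane

open Subgroup Cfsg
open Cfsg.Spor Cfsg.Spor.He Cfsg.Agent.SporadicB.HePerm Cfsg.Agent.FixBN.HeStab
open Cfsg.Agent.KFacts.He.Lv Cfsg.Agent.KFacts.He.TwoAData Cfsg.Agent.KFacts.He.TwoAChk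
open Cfsg.Agent.KFacts.He.TwoACent
open Cfsg.Agent.SporadicA.FieldFour Cfsg.Agent.SporadicA.PlaneFour
open Cfsg.Agent.ONType.Psl (SL3 PSL3 tm T)

/-- the point with the given number in the plane -/
def bt : List ℕ := [0, 0, 17, 15, 0, 160, 153, 22, 20, 21, 147, 735, 146, 161, 18, 157, 730, 159, 158, 164, 736, 148, 19, 0]

/-- the matrix of the generator `c` -/
def mC : Matrix (Fin 3) (Fin 3) F4 := ![![.o, .z, .v], ![.z, .o, .o], ![.z, .z, .o]]

/-- the matrix of the generator `d` -/
def mD : Matrix (Fin 3) (Fin 3) F4 := ![![.o, .z, .z], ![.z, .z, .v], ![.z, .w, .z]]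

/-- the matrix of the generator `e` -/
def mE : Matrix (Fin 3) (Fin 3) F4 := ![![.o, .z, .w], ![.z, .o, .v], ![.z, .z, .o]]

/-- the matrix of the generator `f` -/
def mF : Matrix (Fin 3) (Fin 3) F4 := ![![.o, .z, .z], ![.z, .o, .v], ![.z, .z, .o]]

/-- the matrix of the generator `g` -/
def mG : Matrix (Fin 3) (Fin 3) F4 := ![![.z, .w, .z], ![.o, .z, .z], ![.z, .z, .v]]

/-- words of transvections, entries `1` -/
def tw1 : Fin 3 → Fin 3 → List Gen
  | 0, 1 => [.f,.e,.d,.c,.d,.f,.e,.d,.c,.d]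
  | 0, 2 => [.d,.f,.d,.e,.d,.c,.d,.f,.d,.e,.d,.c]
  | 1, 0 => [.d,.f,.g,.d,.e,.c,.d,.g,.f,.d]
  | 1, 2 => [.d,.f,.e,.d,.c,.d,.f,.e,.d]
  | 2, 0 => [.f,.g,.d,.c,.d,.g,.f]
  | 2, 1 => [.f,.d,.e,.d,.c,.d,.f,.e]
  | _, _ => []

/-- words of transvections, entries `w` -/
def tw2 : Fin 3 → Fin 3 → List Gen
  | 0, 1 => [.c,.d,.e,.c,.d,.f,.d,.e,.d,.c,.d,.c]
  | 0, 2 => [.f,.e]
  | 1, 0 => [.g,.d,.f,.e,.d,.g]
  | 1, 2 => [.d,.f,.d,.e,.d,.c,.d,.f,.e,.d]
  | 2, 0 => [.f,.g,.d,.e,.c,.d,.g,.f]
  | 2, 1 => [.d,.f,.d]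
  | _, _ => []

/-- words of transvections -/
def tw (i j : Fin 3) : F4 → List Gen
  | .z => []
  | .o => tw1 i j
  | .w => tw2 i j
  | .v => tw1 i j ++ tw2 i j

/-- matrix times vector -/
def mv (M : Matrix (Fin 3) (Fin 3) F4) (v : V3) : V3 := fun i => M i 0 * v 0 + M i 1 * v 1 + M i 2 * v 2

theorem mulVec_eq (M : Matrix (Fin 3) (Fin 3) F4) (v : V3) : M.mulVec v = mv M v := by
  funext i
  simp only [Matrix.mulVec, dotProduct, Fin.sum_univ_three, mv]

/-- the number of the point of the 2058 points attached to a point of the plane -/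
def bn (q : GolayPt) : ℕ := bt.getD (idx q) 0

theorem bn_lt (q : GolayPt) : bn q < 2058 := by revert q; decide +kernel

theorem bn_inj {q r : GolayPt} (hq : IsPlanePt q) (hr : IsPlanePt r) (h : bn q = bn r) : q = r := by
  revert q r; decide +kernel

theorem om_eq : ∀ f ∈ om, ∃ q : GolayPt, IsPlanePt q ∧ bn q = f := by decide +kernel

/-- the point of the 2058 points attached to a point of the plane -/
def be (q : GolayPt) : Fin 2058 := ⟨bn q, bn_lt q⟩

/-- the matrix induces the same permutation as the word -/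
def chkM (w : List Gen) (M : Matrix (Fin 3) (Fin 3) F4) : Prop :=
  ∀ q : GolayPt, IsPlanePt q → Nat.beq (act w (bn q)) (bn (ptOf (mv M (rep q)))) = true

theorem chkC : chkM [.c] mC := by unfold chkM; decide +kernel
theorem chkD' : chkM [.d] mD := by unfold chkM; decide +kernel
theorem chkE : chkM [.e] mE := by unfold chkM; decide +kernel
theorem chkF : chkM [.f] mF := by unfold chkM; decide +kernel
theorem chkG : chkM [.g] mG := by unfold chkM; decide +kernel

theorem chkT : ∀ i j : Fin 3, i ≠ j → ∀ c : F4, chkM (tw i j c) (tm i j c) := by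
  unfold chkM; decide +kernel

theorem ovr_tw : ∀ i j : Fin 3, ∀ c : F4, ovr lL (tw i j c) = true := by decide +kernel

theorem det_mC : mC.det = 1 := by rw [Matrix.det_fin_three]; decide +kernel
theorem det_mD : mD.det = 1 := by rw [Matrix.det_fin_three]; decide +kernel
theorem det_mE : mE.det = 1 := by rw [Matrix.det_fin_three]; decide +kernel
theorem det_mF : mF.det = 1 := by rw [Matrix.det_fin_three]; decide +kernel
theorem det_mG : mG.det = 1 := by rw [Matrix.det_fin_three]; decide +kernel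

theorem isPlanePt_psl (γ : PSL3) {q : GolayPt} (hq : IsPlanePt q) : IsPlanePt (pslHom γ q) := by
  by_contra h
  have h1 : pslHom γ (pslHom γ q) = pslHom γ q := by
    obtain ⟨g, rfl⟩ := QuotientGroup.mk_surjective γ
    exact slHom_apply_of_not g _ h
  have h2 := (pslHom γ).injective h1
  rw [h2] at h
  exact h hq

/-- `x` acts on the 21 points as `γ` on the plane -/
def Rl (x : Cfsg.Spor.He) (γ : PSL3) : Prop := ∀ q : GolayPt, IsPlanePt q → phi x (be q) = be (pslHom γ q)

theorem Rl.one : Rl 1 1 := fun q _ => by rw [map_one, map_one]; rfl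

theorem Rl.mul {x y : Cfsg.Spor.He} {γ δ : PSL3} (h1 : Rl x γ) (h2 : Rl y δ) : Rl (x * y) (γ * δ) := by
  intro q hq
  rw [phi_mul_apply, h2 q hq, h1 _ (isPlanePt_psl δ hq), map_mul, Equiv.Perm.mul_apply]

theorem Rl.inv {x : Cfsg.Spor.He} {γ : PSL3} (h : Rl x γ) : Rl x⁻¹ γ⁻¹ := by
  intro q hq
  apply phi_inv_apply
  rw [h _ (isPlanePt_psl _ hq), ← Equiv.Perm.mul_apply, ← map_mul, mul_inv_cancel, map_one]
  rfl

theorem Rl.unique {x : Cfsg.Spor.He} {γ δ : PSL3} (h1 : Rl x γ) (h2 : Rl x δ) : γ = δ := by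
  apply pslHom_injective
  apply Equiv.ext
  intro q
  by_cases hq : IsPlanePt q
  · have h3 := (h1 q hq).symm.trans (h2 q hq)
    exact bn_inj (isPlanePt_psl γ hq) (isPlanePt_psl δ hq) (congrArg Fin.val h3)
  · obtain ⟨g, rfl⟩ := QuotientGroup.mk_surjective γ
    obtain ⟨g', rfl⟩ := QuotientGroup.mk_surjective δ
    exact (slHom_apply_of_not g _ hq).trans (slHom_apply_of_not g' _ hq).symm

theorem rl_of_chk {w : List Gen} {M : Matrix (Fin 3) (Fin 3) F4} (h : chkM w M) (hM : M.det = 1) :
    Rl (wd w) (QuotientGroup.mk (⟨M, hM⟩ : SL3)) := by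
  intro q hq
  apply Fin.ext
  rw [← act_eq]
  have h1 : pslHom (QuotientGroup.mk (⟨M, hM⟩ : SL3)) q = ptOf (mv M (rep q)) := by
    rw [← mulVec_eq]
    exact slHom_apply ⟨M, hM⟩ q hq
  rw [h1]
  exact Nat.eq_of_beq_eq_true (h q hq)

theorem exists_rl {x : Cfsg.Spor.He} (hx : x ∈ L) : ∃ γ : PSL3, Rl x γ := by
  induction hx using closure_induction with
  | mem x hx =>
    obtain ⟨m, hm, rfl⟩ := hx
    rcases hm with rfl | rfl | rfl | rfl | rfl
    · exact ⟨_, wd_one .c ▸ rl_of_chk chkC det_mC⟩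
    · exact ⟨_, wd_one .d ▸ rl_of_chk chkD' det_mD⟩
    · exact ⟨_, wd_one .e ▸ rl_of_chk chkE det_mE⟩
    · exact ⟨_, wd_one .f ▸ rl_of_chk chkF det_mF⟩
    · exact ⟨_, wd_one .g ▸ rl_of_chk chkG det_mG⟩
  | one => exact ⟨1, Rl.one⟩
  | mul x y _ _ hx hy =>
    obtain ⟨γ, h1⟩ := hx
    obtain ⟨δ, h2⟩ := hy
    exact ⟨_, h1.mul h2⟩
  | inv x _ hx =>
    obtain ⟨γ, h1⟩ := hx
    exact ⟨_, h1.inv⟩

theorem exists_rl' (γ : PSL3) : ∃ x ∈ L, Rl x γ := by
  have h : γ ∈ closure {A : PSL3 | ∃ (i j : Fin 3) (_ : i ≠ j) (c : F4), A = Cfsg.Agent.ONType.Psl.t i j c} := by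
    rw [Cfsg.Agent.ONType.PslCard.closure_t]; trivial
  induction h using closure_induction with
  | mem γ h =>
    obtain ⟨i, j, hij, c, rfl⟩ := h
    exact ⟨_, wd_mem_L (ovr_tw i j c), rl_of_chk (chkT i j hij c) (Cfsg.Agent.ONType.Psl.det_tm i j c)⟩
  | one => exact ⟨1, L.one_mem, Rl.one⟩
  | mul γ δ _ _ h1 h2 =>
    obtain ⟨x, hx, h1⟩ := h1
    obtain ⟨y, hy, h2⟩ := h2
    exact ⟨_, L.mul_mem hx hy, h1.mul h2⟩
  | inv γ _ h1 =>
    obtain ⟨x, hx, h1⟩ := h1
    exact ⟨_, L.inv_mem hx, h1.inv⟩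

/-- the homomorphism of `L` onto `PSL(3,4)` -/
noncomputable def Th : ↥L →* PSL3 where
  toFun x := (exists_rl x.2).choose
  map_one' := Rl.unique (exists_rl L.one_mem).choose_spec Rl.one
  map_mul' x y := Rl.unique (exists_rl (L.mul_mem x.2 y.2)).choose_spec
    ((exists_rl x.2).choose_spec.mul (exists_rl y.2).choose_spec)

theorem Th_spec (x : ↥L) : Rl x (Th x) := (exists_rl x.2).choose_spec

theorem Th_surjective : Function.Surjective Th := by
  intro γ
  obtain ⟨x, hx, h⟩ := exists_rl' γ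
  exact ⟨⟨x, hx⟩, (Th_spec ⟨x, hx⟩).unique h⟩

theorem mem_V_of_fix {x : Cfsg.Spor.He} (hx : x ∈ L) (h : Rl x 1) : x ∈ V := by
  have h1 : Pr lvK x := mem_of_chk chkK (by
    intro m hm
    rw [List.mem_singleton] at hm
    rw [hm]
    exact L_comm_a hx) (by
    intro f hf
    obtain ⟨q, hq, rfl⟩ := om_eq f hf
    refine ⟨bn_lt q, ?_⟩
    have h2 := h q hq
    rw [map_one] at h2
    exact h2)
  refine mem_of_pr (fun l hl w hw => ?_) h1
  have h2 : w = [] ∨ w = [.a] ∨ w = vW ++ [.a] ∨ w = vW := by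
    simp only [lvK, List.mem_cons, List.not_mem_nil, or_false] at hl
    rcases hl with rfl | rfl | rfl | rfl
    · simpa [vW] using hw
    · exact Or.inl (by simpa using hw)
    · exact Or.inl (by simpa using hw)
    · exact Or.inl (by simpa using hw)
  rcases h2 with rfl | rfl | rfl | rfl
  · rw [wd_nil]; exact V.one_mem
  · rw [wd_one]; exact a_mem_V
  · rw [wd_append, wd_one]; exact va_mem_V
  · exact v_mem_V

theorem ker_Th : Th.ker = V.subgroupOf L := by
  ext x
  rw [MonoidHom.mem_ker, mem_subgroupOf]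
  constructor
  · intro h
    have h1 := Th_spec x
    rw [h] at h1
    exact mem_V_of_fix x.2 h1
  · intro h
    have hc : ∀ l : ↥L, Th l * Th x = Th x * Th l := by
      intro l
      rw [← map_mul, ← map_mul]
      congr 1
      exact Subtype.ext (mem_V.mp h l l.2)
    have hz : Th x ∈ center PSL3 := by
      rw [mem_center_iff]
      intro γ
      obtain ⟨l, rfl⟩ := Th_surjective γ
      exact hc l
    have hs : IsSimpleGroup PSL3 := Cfsg.Agent.S0249.result 3 le_rfl
    rcases hs.eq_bot_or_eq_top_of_normal (center PSL3) inferInstance with h1 | h1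
    · rw [h1, mem_bot] at hz
      exact hz
    · exfalso
      have h2 : commutator ↥L ≤ Th.ker := by
        rw [commutator_def, commutator_le]
        intro a _ b _
        rw [MonoidHom.mem_ker, map_commutatorElement, commutatorElement_eq_one_iff_mul_comm]
        have h3 : Th a ∈ center PSL3 := by rw [h1]; trivial
        exact (mem_center_iff.mp h3 (Th b)).symm
      have h3 : commutator ↥L = ⊤ := by
        have h4 : (commutator ↥L).map L.subtype = L := by
          rw [commutator_def, map_commutator, ← MonoidHom.range_eq_map, range_subtype, perf]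
        rw [eq_top_iff]
        intro y _
        have h5 : (y : Cfsg.Spor.He) ∈ (commutator ↥L).map L.subtype := by rw [h4]; exact y.2
        obtain ⟨z, hz, hzy⟩ := h5
        rwa [← Subtype.ext hzy]
      obtain ⟨γ, hγ⟩ := exists_ne (1 : PSL3)
      obtain ⟨l, rfl⟩ := Th_surjective γ
      apply hγ
      have h6 : l ∈ commutator ↥L := by rw [h3]; trivial
      exact MonoidHom.mem_ker.mp (h2 h6)

theorem center_L : center ↥L = V.subgroupOf L := by
  ext x
  rw [mem_center_iff, mem_subgroupOf, mem_V]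
  constructor
  · intro h l hl
    exact congrArg Subtype.val (h ⟨l, hl⟩)
  · intro h l
    exact Subtype.ext (h l l.2)

/-- **`L` modulo its centre is `PSL(3,4)`.** -/
noncomputable def quotEquiv : ↥L ⧸ center ↥L ≃* PSL3 :=
  (QuotientGroup.quotientMulEquivOfEq (center_L.trans ker_Th.symm)).trans
    (QuotientGroup.quotientKerEquivOfSurjective Th Th_surjective)

end Cfsg.Agent.KFacts.He.TwoAPlane

private theorem dce_d7fe7e55c1eb : _root_.True := by
  try have : _root_.True := by simp only [_root_.Cfsg.Agent.KFacts.He.TwoAPlane.mv.eq_1]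
  try have : _root_.True := by simp only [_root_.Cfsg.Agent.KFacts.He.TwoAData.lvK.eq_1]
  exact _root_.True.intro
end

-- part: KFacts/He/TwoA
section
set_option linter.all false
open scoped Cfsg.Agent.FastGrp

/-!
# The involutions of type 2A of the Held group

`two_a`: the centralizer of `a` has the quasisimple normal subgroup `L` of type `2^2.PSL(3,4)` with
`C(L) = Z(L)`.  `normal_cases`: the normal subgroups of `L`.  `aut_eq`: an automorphism of the Held group
trivial on `L` is the conjugation by an element of `Z(L)`.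
-/

set_option autoImplicit false

namespace Cfsg.Agent.KFacts.He.TwoA

open Subgroup Cfsg
open Cfsg.Spor Cfsg.Spor.He Cfsg.Agent.SporadicB.HePerm Cfsg.Agent.FixBN.HeStab
open Cfsg.Agent.KFacts.He.Lv Cfsg.Agent.KFacts.He.TwoAData Cfsg.Agent.KFacts.He.TwoAChk
open Cfsg.Agent.KFacts.He.TwoACent Cfsg.Agent.KFacts.He.TwoAPlane
open Cfsg.Agent.ONType.Psl (PSL3)
open scoped commutatorElement

theorem simple_PSL3 : IsSimpleGroup PSL3 := Cfsg.Agent.S0249.result 3 le_rfl

/-- The normal subgroups of `L`. -/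
theorem normal_cases {N : Subgroup Cfsg.Spor.He} (hN : N ≤ L)
    (hn : ∀ l ∈ L, ∀ n ∈ N, l * n * l⁻¹ ∈ N) : N ≤ V ∨ N = L := by
  have hs := simple_PSL3
  have hnor : (N.subgroupOf L).Normal := ⟨fun n hn' l => hn l l.2 n hn'⟩
  have hnor' : ((N.subgroupOf L).map Th).Normal := hnor.map Th Th_surjective
  rcases hs.eq_bot_or_eq_top_of_normal _ hnor' with h | h
  · left
    intro n hnn
    have h1 : (⟨n, hN hnn⟩ : ↥L) ∈ Th.ker := by
      rw [MonoidHom.mem_ker]
      have h2 : Th ⟨n, hN hnn⟩ ∈ (N.subgroupOf L).map Th := ⟨_, hnn, rfl⟩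
      rw [h, mem_bot] at h2
      exact h2
    rw [ker_Th] at h1
    exact h1
  · right
    apply le_antisymm hN
    rw [← perf, commutator_le]
    have key : ∀ x ∈ L, ∃ n ∈ N, ∃ z ∈ V, x = n * z := by
      intro x hx
      have h1 : Th ⟨x, hx⟩ ∈ (N.subgroupOf L).map Th := by rw [h]; trivial
      obtain ⟨n, hn', hnx⟩ := h1
      have h2 : n⁻¹ * ⟨x, hx⟩ ∈ Th.ker := by
        rw [MonoidHom.mem_ker, map_mul, map_inv, hnx, inv_mul_cancel]
      rw [ker_Th] at h2
      exact ⟨n, hn', _, h2, by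
        show x = (n : Cfsg.Spor.He) * ((n : Cfsg.Spor.He)⁻¹ * x)
        rw [mul_inv_cancel_left]⟩
    intro x hx y hy
    obtain ⟨n, hn1, z, hz, rfl⟩ := key x hx
    obtain ⟨m, hm1, w, hw, rfl⟩ := key y hy
    have c1 := mem_V.mp hz
    have c2 := mem_V.mp hw
    have e : ⁅n * z, m * w⁆ = ⁅n, m⁆ := by
      have a1 : n * z = z * n := c1 n (hN hn1)
      have a2 : m * w = w * m := c2 m (hN hm1)
      have a3 : m * z = z * m := c1 m (hN hm1)
      have a4 : n * w = w * n := c2 n (hN hn1)
      have a5 : z * w = w * z := c2 z (V_le_L hz)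
      rw [commutatorElement_def, commutatorElement_def]
      calc n * z * (m * w) * (n * z)⁻¹ * (m * w)⁻¹
          = n * (z * m) * w * z⁻¹ * n⁻¹ * w⁻¹ * m⁻¹ := by group
        _ = n * (m * z) * w * z⁻¹ * n⁻¹ * w⁻¹ * m⁻¹ := by rw [a3]
        _ = n * m * (z * w) * z⁻¹ * n⁻¹ * w⁻¹ * m⁻¹ := by group
        _ = n * m * (w * z) * z⁻¹ * n⁻¹ * w⁻¹ * m⁻¹ := by rw [a5]
        _ = n * m * (w * n⁻¹) * w⁻¹ * m⁻¹ := by group
        _ = n * m * (n⁻¹ * w) * w⁻¹ * m⁻¹ := by
            rw [show w * n⁻¹ = n⁻¹ * w from ((show Commute n w from a4).inv_left).symm]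
        _ = n * m * n⁻¹ * m⁻¹ := by group
    rw [e]
    have h4 := hn n (hN hn1) m hm1
    exact N.mul_mem h4 (N.inv_mem hm1)

theorem isPerfect_L : Group.IsPerfect ↥L := by
  have h4 : (commutator ↥L).map L.subtype = L := by
    rw [commutator_def, map_commutator, ← MonoidHom.range_eq_map, range_subtype, perf]
  rw [Group.isPerfect_def, eq_top_iff]
  intro y _
  have h5 : (y : Cfsg.Spor.He) ∈ (commutator ↥L).map L.subtype := by rw [h4]; exact y.2
  obtain ⟨z, hz, hzy⟩ := h5
  rwa [← Subtype.ext hzy]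

theorem isQuasisimple_L : IsQuasisimple ↥L := by
  refine ⟨isPerfect_L, ?_⟩
  have hs := simple_PSL3
  have : Nontrivial (↥L ⧸ center ↥L) := quotEquiv.toEquiv.nontrivial
  exact IsSimpleGroup.isSimpleGroup_of_surjective quotEquiv.symm.toMonoidHom quotEquiv.symm.surjective

/-- **The centralizer of the involution `a`**, in the form for the unbalanced group theorem. -/
theorem two_a : L ≤ centralizer {gn .a} ∧ (L.subgroupOf (centralizer {gn .a})).Normal ∧
    IsQuasisimple ↥L ∧ gn .a ∈ L ∧ (∀ y, (∀ m ∈ L, y * m = m * y) → y ∈ L ∧ y * y = 1) ∧ gn .d ∈ L := by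
  refine ⟨fun x hx => ?_, ⟨fun n hn c => ?_⟩, isQuasisimple_L, a_mem_L, fun y hy => ?_, gn_mem_L (by simp)⟩
  · rw [mem_centralizer_singleton_iff]
    exact L_comm_a hx
  · have hc := mem_centralizer_singleton_iff.mp c.2
    exact norm hc hn
  · have hyV : y ∈ V := mem_V.mpr fun m hm => (hy m hm).symm
    refine ⟨V_le_L hyV, ?_⟩
    rcases V_eq hyV with rfl | rfl | rfl | rfl
    · rw [one_mul]
    · exact gn_mul_self _
    · exact v_mul_self
    · have h1 : v * gn .a = gn .a * v := (L_comm_a v_mem_L)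
      calc v * gn .a * (v * gn .a) = v * gn .a * (gn .a * v) := by rw [← h1]
        _ = v * (gn .a * gn .a) * v := by group
        _ = 1 := by rw [gn_mul_self, mul_one, v_mul_self]

end Cfsg.Agent.KFacts.He.TwoA
end

-- part: CpAutHe/Cnt
section
set_option linter.all false
open scoped Cfsg.Agent.FastGrp

/-!
# Upper bounds for centralizers in the Held group (helper69)

`step` : one level of the chain for a subgroup `C` commuting with the word `X` and fixing the points of `F`.
-/

set_option autoImplicit false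

namespace Cfsg.Agent.CpAutHe.Cnt

open Cfsg.Spor Cfsg.Spor.He Cfsg.Agent.SporadicB.HePerm
open Cfsg.Agent.FixBN.HeStab Cfsg.Agent.KFacts.He.Lv

/-- Orbit-stabiliser: a group moving `p` only to the points of `S`, with stabiliser of order at most `m`. -/
theorem card_le_of_fix {G α : Type*} [Group G] [Finite G] [MulAction G α] (p : α) (S : Finset α)
    (hS : ∀ g : G, g • p ∈ S) {m : ℕ} (hm : Nat.card (MulAction.stabilizer G p) ≤ m) : Nat.card G ≤ S.card * m := by
  have h1 := (MulAction.stabilizer G p).card_mul_index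
  rw [MulAction.index_stabilizer] at h1
  have h2 : (MulAction.orbit G p).ncard ≤ S.card := by
    rw [← Set.ncard_coe_finset]
    apply Set.ncard_le_ncard _ S.finite_toSet
    rintro _ ⟨g, rfl⟩
    exact hS g
  rw [← h1, mul_comm]
  exact Nat.mul_le_mul h2 hm

/-- the number of `k < n` with `P k` -/
def cnt (n : ℕ) (P : ℕ → Bool) : ℕ := Nat.rec 0 (fun k ih => bif P k then Nat.succ ih else ih) n

theorem card_filter (n : ℕ) (P : ℕ → Bool) : ((Finset.range n).filter (fun y => P y = true)).card = cnt n P := by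
  induction n with
  | zero => rfl
  | succ k ih =>
    have h : cnt (k + 1) P = bif P k then Nat.succ (cnt k P) else cnt k P := rfl
    rw [Finset.range_add_one, Finset.filter_insert, h]
    rcases hP : P k with _ | _
    · rw [if_neg (by simp), cond_false, ih]
    · rw [if_pos rfl, cond_true, Finset.card_insert_of_notMem (by simp), ih]

/-- the power of a word -/
def pw (X : List Gen) (k : ℕ) : List Gen := Nat.rec [] (fun _ ih => X ++ ih) k

theorem wd_pw (X : List Gen) (k : ℕ) : wd (pw X k) = wd X ^ k := by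
  induction k with
  | zero => rw [pow_zero]; exact wd_nil
  | succ k ih =>
    rw [pow_succ', ← ih, ← wd_append]
    rfl

/-- the tests for the images of the point `p` -/
def tst (X : List Gen) (fs ks : List ℕ) (p y : ℕ) : Bool :=
  and (fs.all fun f => Nat.beq (colr f y) (colr f p))
    (ks.all fun k => Nat.beq (colr y (act (pw X k) y)) (colr p (act (pw X k) p)))

theorem tst_spec {X : List Gen} {c : Cfsg.Spor.He} (hc : c * wd X = wd X * c) {F fs : List ℕ} (hF : ∀ f ∈ F, Fx c f)
    (hfs : fs ⊆ F) (ks : List ℕ) (p : Fin 2058) : tst X fs ks p (phi c p) = true := by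
  unfold tst
  rw [Bool.and_eq_true, List.all_eq_true, List.all_eq_true]
  constructor
  · intro f hf
    obtain ⟨hlt, hfx⟩ := hF f (hfs hf)
    have h1 := colr_inv c ⟨f, hlt⟩ p
    rw [hfx] at h1
    have h2 : colr f (phi c p) = colr f p := h1
    rw [h2]
    exact Nat.beq_refl _
  · intro k _
    have h1 : c * wd (pw X k) = wd (pw X k) * c := by
      rw [wd_pw]
      exact ((show Commute c (wd X) from hc).pow_right k).eq
    have h2 : act (pw X k) (phi c p) = (phi c (phi (wd (pw X k)) p) : ℕ) := by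
      rw [act_eq, ← phi_mul_apply, ← h1, phi_mul_apply]
    rw [h2, colr_inv, ← act_eq]
    exact Nat.beq_refl _

/-- the points fixed after the level `p` -/
def nx (X : List Gen) (F : List ℕ) (p : ℕ) : List ℕ := (List.range 7).map (fun k => act (pw X k) p) ++ F

theorem fx_nx {X : List Gen} {c : Cfsg.Spor.He} (hc : c * wd X = wd X * c) {F : List ℕ} (hF : ∀ f ∈ F, Fx c f)
    {p : Fin 2058} (hp : phi c p = p) : ∀ f ∈ nx X F p, Fx c f := by
  intro f hf
  rcases List.mem_append.1 hf with h | h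
  · obtain ⟨k, -, rfl⟩ := List.mem_map.1 h
    have h1 : c * wd (pw X k) = wd (pw X k) * c := by
      rw [wd_pw]
      exact ((show Commute c (wd X) from hc).pow_right k).eq
    refine ⟨by rw [act_eq]; exact (phi (wd (pw X k)) p).2, ?_⟩
    have e : (⟨act (pw X k) p, by rw [act_eq]; exact (phi (wd (pw X k)) p).2⟩ : Fin 2058) = phi (wd (pw X k)) p :=
      Fin.ext (act_eq _ _)
    rw [e, ← phi_mul_apply, h1, phi_mul_apply, hp]
  · exact hF f h

/-- the stabiliser of a point in `C` -/
noncomputable def st (C : Subgroup Cfsg.Spor.He) (p : Fin 2058) : Subgroup Cfsg.Spor.He := C ⊓ (fixer p).comap phi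

theorem mem_st {C : Subgroup Cfsg.Spor.He} {p : Fin 2058} {c : Cfsg.Spor.He} : c ∈ st C p ↔ c ∈ C ∧ phi c p = p := by
  unfold st
  rw [Subgroup.mem_inf, Subgroup.mem_comap, mem_fixer]

theorem orb (C : Subgroup Cfsg.Spor.He) (p : Fin 2058) (S : Finset ℕ) (hS : ∀ c ∈ C, (phi c p : ℕ) ∈ S) {m : ℕ}
    (hm : Nat.card ↥(st C p) ≤ m) : Nat.card C ≤ S.card * m := by
  let _ : MulAction C (Fin 2058) := MulAction.compHom (Fin 2058) (phi.comp C.subtype)
  have hact : ∀ (c : C) (q : Fin 2058), c • q = phi (c : Cfsg.Spor.He) q := fun c q => rfl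
  have h1 : Nat.card C ≤ ((Finset.univ : Finset (Fin 2058)).filter (fun y : Fin 2058 => (y : ℕ) ∈ S)).card * m := by
    apply card_le_of_fix p
    · intro c
      rw [Finset.mem_filter, hact]
      exact ⟨Finset.mem_univ _, hS c c.2⟩
    · refine le_trans (le_of_eq ?_) hm
      have hle : st C p ≤ C := fun c hc => (mem_st.1 hc).1
      have h2 : MulAction.stabilizer C p = (st C p).subgroupOf C := by
        ext c
        rw [MulAction.mem_stabilizer_iff, Subgroup.mem_subgroupOf, mem_st, hact]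
        exact ⟨fun h => ⟨c.2, h⟩, fun h => h.2⟩
      rw [h2]
      exact Nat.card_congr (Subgroup.subgroupOfEquivOfLe hle).toEquiv
  refine le_trans h1 (Nat.mul_le_mul_right _ ?_)
  apply Finset.card_le_card_of_injOn (fun y : Fin 2058 => (y : ℕ))
  · intro y hy
    exact (Finset.mem_filter.1 hy).2
  · intro y _ z _ h
    exact Fin.ext h

/-- **One level.** -/
theorem step {X : List Gen} {C : Subgroup Cfsg.Spor.He} (hC : ∀ c ∈ C, c * wd X = wd X * c) {F : List ℕ}
    (hF : ∀ c ∈ C, ∀ f ∈ F, Fx c f) (p : Fin 2058) (fs ks : List ℕ) (hfs : fs ⊆ F) {n m : ℕ}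
    (hn : cnt 2058 (tst X fs ks p) = n) (hm : Nat.card ↥(st C p) ≤ m) : Nat.card C ≤ n * m := by
  rw [← hn, ← card_filter]
  apply orb C p _ _ hm
  intro c hc
  rw [Finset.mem_filter, Finset.mem_range]
  exact ⟨(phi c p).2, tst_spec (hC c hc) (hF c hc) hfs ks p⟩

/-- a point with only one possible image -/
theorem fix_of_one {X : List Gen} {c : Cfsg.Spor.He} (hc : c * wd X = wd X * c) {F : List ℕ}
    (hF : ∀ f ∈ F, Fx c f) (p : Fin 2058) (fs ks : List ℕ) (hfs : fs ⊆ F)
    (hn : cnt 2058 (tst X fs ks p) = 1) : phi c p = p := by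
  rw [← card_filter, Finset.card_eq_one] at hn
  obtain ⟨a, ha⟩ := hn
  have h1 : (phi c p : ℕ) ∈ (Finset.range 2058).filter (fun y => tst X fs ks p y = true) := by
    rw [Finset.mem_filter, Finset.mem_range]
    exact ⟨(phi c p).2, tst_spec hc hF hfs ks p⟩
  have h2 : (p : ℕ) ∈ (Finset.range 2058).filter (fun y => tst X fs ks p y = true) := by
    rw [Finset.mem_filter, Finset.mem_range]
    refine ⟨p.2, ?_⟩
    have h3 := tst_spec (X := X) (c := 1) (by rw [one_mul, mul_one]) (F := fs) (fs := fs) (fun f hf => by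
      obtain ⟨hlt, -⟩ := hF f (hfs hf)
      exact ⟨hlt, by rw [map_one]; rfl⟩) (fun _ h => h) ks p
    rw [map_one] at h3
    exact h3
  rw [ha, Finset.mem_singleton] at h1 h2
  exact Fin.ext (h1.trans h2.symm)

/-! ### The tests with the fast versions of `act` and `colr` -/

/-- all numbers pass the test -/
noncomputable def allNF (l : List ℕ) (p : ℕ → Bool) : Bool :=
  List.rec true (fun a _ ih => Bool.rec false ih (p a)) l

theorem allNF_eq (p : ℕ → Bool) : ∀ l : List ℕ, allNF l p = l.all p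
  | [] => rfl
  | a :: l => by
    have h : allNF (a :: l) p = Bool.rec false (allNF l p) (p a) := rfl
    rw [h, List.all_cons, allNF_eq p l]
    cases p a <;> rfl

open Cfsg.Agent.KFacts.He.Fast (actF colrF act_fast colr_fast) in
/-- `tst` -/
noncomputable def tstFast (X : List Gen) (fs ks : List ℕ) (p y : ℕ) : Bool :=
  Bool.rec false (allNF ks fun k => Nat.beq (colrF y (actF (pw X k) y)) (colrF p (actF (pw X k) p)))
    (allNF fs fun f => Nat.beq (colrF f y) (colrF f p))

open Cfsg.Agent.KFacts.He.Fast (actF colrF act_fast colr_fast) in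
theorem tst_fast : tst = tstFast := by
  funext X fs ks p y
  unfold tst tstFast
  rw [allNF_eq, allNF_eq, ← colr_fast, ← act_fast]
  cases (fs.all fun f => Nat.beq (colr f y) (colr f p)) <;> rfl

end Cfsg.Agent.CpAutHe.Cnt
end

-- part: H492/IMHeCnt
section
set_option linter.all false
open scoped Cfsg.Agent.FastGrp

/-!
# Upper bounds for subgroups of the Held group commuting with several words (helper492)

The method of `Cfsg.Agent.CpAutHe.Cnt` (helper69), for a list of words: `Q ws F m` says that every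
subgroup commuting with the words of `ws` and fixing the points of `F` has order at most `m`.
-/

set_option autoImplicit false

namespace Cfsg.Agent.H492.IMHeCnt

open Subgroup
open Cfsg.Spor Cfsg.Spor.He Cfsg.Agent.SporadicB.HePerm
open Cfsg.Agent.FixBN.HeStab Cfsg.Agent.KFacts.He.Lv Cfsg.Agent.CpAutHe.Cnt

/-- the tests for the images of the point `p` -/
def tsl (ws : List (List Gen)) (is fs : List ℕ) (p y : ℕ) : Bool :=
  and (fs.all fun f => Nat.beq (colr f y) (colr f p))
    (is.all fun i => Nat.beq (colr y (act (ws.getD i []) y)) (colr p (act (ws.getD i []) p)))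

structure Bd (ws : List (List Gen)) (F : List ℕ) (C : Subgroup Cfsg.Spor.He) : Prop where
  comm : ∀ c ∈ C, ∀ w ∈ ws, c * wd w = wd w * c
  fix : ∀ c ∈ C, ∀ f ∈ F, Fx c f

theorem comm_getD {ws : List (List Gen)} {c : Cfsg.Spor.He} (hc : ∀ w ∈ ws, c * wd w = wd w * c)
    (i : ℕ) : c * wd (ws.getD i []) = wd (ws.getD i []) * c := by
  by_cases h : i < ws.length
  · rw [List.getD_eq_getElem _ _ h]
    exact hc _ (List.getElem_mem h)
  · rw [List.getD_eq_default _ _ (not_lt.1 h), wd_nil, mul_one, one_mul]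

theorem tsl_spec {ws : List (List Gen)} {c : Cfsg.Spor.He} (hc : ∀ w ∈ ws, c * wd w = wd w * c)
    {F fs : List ℕ} (hF : ∀ f ∈ F, Fx c f) (hfs : (fs.all fun a => elemN a F) = true) (is : List ℕ)
    (p : Fin 2058) : tsl ws is fs p (phi c p) = true := by
  rw [List.all_eq_true] at hfs
  unfold tsl
  rw [Bool.and_eq_true, List.all_eq_true, List.all_eq_true]
  constructor
  · intro f hf
    obtain ⟨hlt, hfx⟩ := hF f (of_elemN (hfs f hf))
    have h1 := colr_inv c ⟨f, hlt⟩ p
    rw [hfx] at h1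
    have h2 : colr f (phi c p) = colr f p := h1
    rw [h2]
    exact Nat.beq_refl _
  · intro i _
    have h1 := comm_getD hc i
    have h2 : act (ws.getD i []) (phi c p) = (phi c (phi (wd (ws.getD i [])) p) : ℕ) := by
      rw [act_eq, ← phi_mul_apply, ← h1, phi_mul_apply]
    rw [h2, colr_inv, ← act_eq]
    exact Nat.beq_refl _

/-- the points fixed after the point `p` -/
def nxl (ws : List (List Gen)) (F : List ℕ) (p : ℕ) : List ℕ := p :: (ws.map (fun w => act w p) ++ F)

theorem fx_nxl {ws : List (List Gen)} {c : Cfsg.Spor.He} (hc : ∀ w ∈ ws, c * wd w = wd w * c)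
    {F : List ℕ} (hF : ∀ f ∈ F, Fx c f) {p : Fin 2058} (hp : phi c p = p) :
    ∀ f ∈ nxl ws F p, Fx c f := by
  intro f hf
  rcases List.mem_cons.1 hf with rfl | hf
  · exact ⟨p.2, hp⟩
  rcases List.mem_append.1 hf with h | h
  · obtain ⟨w, hw, rfl⟩ := List.mem_map.1 h
    refine ⟨by rw [act_eq]; exact (phi (wd w) p).2, ?_⟩
    have e : (⟨act w p, by rw [act_eq]; exact (phi (wd w) p).2⟩ : Fin 2058) = phi (wd w) p :=
      Fin.ext (act_eq _ _)
    rw [e, ← phi_mul_apply, hc w hw, phi_mul_apply, hp]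
  · exact hF f h

/-- every subgroup commuting with the words and fixing the points has order at most `m` -/
def Q (ws : List (List Gen)) (F : List ℕ) (m : ℕ) : Prop :=
  ∀ C : Subgroup Cfsg.Spor.He, Bd ws F C → Nat.card C ≤ m

theorem Bd.st {ws : List (List Gen)} {F F' : List ℕ} {C : Subgroup Cfsg.Spor.He} (hC : Bd ws F C)
    {p : ℕ} (hp : p < 2058) (hF' : (F'.all fun a => elemN a (nxl ws F p)) = true) :
    Bd ws F' (st C ⟨p, hp⟩) := by
  rw [List.all_eq_true] at hF'
  refine ⟨fun c hc => hC.comm c (mem_st.1 hc).1, fun c hc f hf => ?_⟩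
  obtain ⟨h1, h2⟩ := mem_st.1 hc
  exact fx_nxl (hC.comm c h1) (hC.fix c h1) h2 f (of_elemN (hF' f hf))

theorem Q.of_set {ws : List (List Gen)} {F : List ℕ} (p : ℕ) (F' : List ℕ) {n m : ℕ}
    (hp : Nat.blt p 2058 = true) (hF' : (F'.all fun a => elemN a (nxl ws F p)) = true)
    (P : ℕ → Bool) (hP : ∀ c : Cfsg.Spor.He, (∀ w ∈ ws, c * wd w = wd w * c) →
      (∀ f ∈ F, Fx c f) → P (phi c (Fin.ofNat 2058 p)) = true) (hn : cnt 2058 P = n)
    (h : Q ws F' m) : Q ws F (n * m) := by
  intro C hC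
  have hp' : p < 2058 := Nat.le_of_ble_eq_true hp
  have e : Fin.ofNat 2058 p = ⟨p, hp'⟩ := Fin.ext (Nat.mod_eq_of_lt hp')
  rw [← hn, ← card_filter]
  refine orb C ⟨p, hp'⟩ _ ?_ (h _ (hC.st hp' hF'))
  intro c hc
  rw [Finset.mem_filter, Finset.mem_range]
  refine ⟨(phi c ⟨p, hp'⟩).2, ?_⟩
  have := hP c (hC.comm c hc) (hC.fix c hc)
  rwa [e] at this

/-- One level. -/
theorem Q.orb {ws : List (List Gen)} {F : List ℕ} (p : ℕ) (is fs F' : List ℕ) {n m : ℕ}
    (hp : Nat.blt p 2058 = true) (hfs : (fs.all fun a => elemN a F) = true)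
    (hF' : (F'.all fun a => elemN a (nxl ws F p)) = true)
    (hn : cnt 2058 (tsl ws is fs p) = n) (h : Q ws F' m) : Q ws F (n * m) := by
  refine Q.of_set p F' hp hF' _ ?_ hn h
  intro c hc hf
  have hp' : p < 2058 := Nat.le_of_ble_eq_true hp
  have e : Fin.ofNat 2058 p = ⟨p, hp'⟩ := Fin.ext (Nat.mod_eq_of_lt hp')
  rw [e]
  exact tsl_spec hc hf hfs is ⟨p, hp'⟩

/-- A point with only one possible image. -/
theorem Q.fix {ws : List (List Gen)} {F : List ℕ} (p : ℕ) (is fs F' : List ℕ) {m : ℕ}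
    (hp : Nat.blt p 2058 = true) (hfs : (fs.all fun a => elemN a F) = true)
    (hF' : (F'.all fun a => elemN a (nxl ws F p)) = true)
    (hn : cnt 2058 (tsl ws is fs p) = 1) (h : Q ws F' m) : Q ws F m := by
  rw [← one_mul m]
  exact Q.orb p is fs F' hp hfs hF' hn h

/-- The last step. -/
theorem Q.base {ws : List (List Gen)} {F : List ℕ}
    (h : ([0, 1, 32, 8].all fun a => elemN a F) = true) : Q ws F 1 := by
  intro C hC
  rw [List.all_eq_true] at h
  rw [Subgroup.card_le_one_iff_eq_bot, eq_bot_iff_forall]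
  intro c hc
  have k : ∀ a ∈ ([0, 1, 32, 8] : List ℕ), Fx c a := fun a ha =>
    hC.fix c hc a (of_elemN (h a ha))
  obtain ⟨_, e0⟩ := k 0 (by simp)
  obtain ⟨_, e1⟩ := k 1 (by simp)
  obtain ⟨_, e2⟩ := k 32 (by simp)
  obtain ⟨_, e3⟩ := k 8 (by simp)
  have e : ∀ i, phi (1 : Cfsg.Spor.He) i = i := fun i => by rw [map_one]; rfl
  apply eq_of_base
  · rw [e]; exact e0
  · rw [e]; exact e1
  · rw [e]; exact e2
  · rw [e]; exact e3

/-- One level, with a second point: `L` contains all possible images of `q`. -/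
theorem Q.orbx {ws : List (List Gen)} {F : List ℕ} (p q : ℕ) (is fs iq fq js L F' : List ℕ)
    {n m : ℕ} (hp : Nat.blt p 2058 = true) (hq : Nat.blt q 2058 = true)
    (hfs : (fs.all fun a => elemN a F) = true) (hfq : (fq.all fun a => elemN a F) = true)
    (hF' : (F'.all fun a => elemN a (nxl ws F p)) = true)
    (hL : allBelow 2058 (fun t => bif tsl ws iq fq q t then elemN t L else true) = true)
    (hn : cnt 2058 (fun y => bif tsl ws is fs p y then
      (L.any fun t => js.all fun j => Nat.beq (colr (act (ws.getD j []) y) t)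
        (colr (act (ws.getD j []) p) q)) else false) = n)
    (h : Q ws F' m) : Q ws F (n * m) := by
  refine Q.of_set p F' hp hF' _ ?_ hn h
  intro c hc hf
  have hp' : p < 2058 := Nat.le_of_ble_eq_true hp
  have hq' : q < 2058 := Nat.le_of_ble_eq_true hq
  have e : Fin.ofNat 2058 p = ⟨p, hp'⟩ := Fin.ext (Nat.mod_eq_of_lt hp')
  rw [e]
  have h1 := tsl_spec hc hf hfs is ⟨p, hp'⟩
  have h2 := tsl_spec hc hf hfq iq ⟨q, hq'⟩
  have h3 := of_allBelow hL (phi c ⟨q, hq'⟩) (phi c ⟨q, hq'⟩).2
  have h4 : tsl ws iq fq q (phi c ⟨q, hq'⟩) = true := h2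
  have h5 : tsl ws is fs p (phi c ⟨p, hp'⟩) = true := h1
  rw [h4, cond_true] at h3
  show (bif tsl ws is fs p (phi c ⟨p, hp'⟩) then _ else false) = true
  rw [h5, cond_true, List.any_eq_true]
  refine ⟨_, of_elemN h3, ?_⟩
  rw [List.all_eq_true]
  intro j _
  have h6 := comm_getD hc j
  have h7 : act (ws.getD j []) (phi c ⟨p, hp'⟩) = (phi c (phi (wd (ws.getD j [])) ⟨p, hp'⟩) : ℕ) := by
    rw [act_eq, ← phi_mul_apply, ← h6, phi_mul_apply]
  rw [h7, colr_inv, ← act_eq]
  exact Nat.beq_refl _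

/-- the products of powers of two words -/
def mkw (X Y : List Gen) (l : List (ℕ × ℕ)) : List (List Gen) := l.map fun e => pw X e.1 ++ pw Y e.2

theorem comm_mkw {X Y : List Gen} {c : Cfsg.Spor.He} (hX : c * wd X = wd X * c)
    (hY : c * wd Y = wd Y * c) (l : List (ℕ × ℕ)) : ∀ w ∈ mkw X Y l, c * wd w = wd w * c := by
  intro w hw
  obtain ⟨e, -, rfl⟩ := List.mem_map.1 hw
  rw [wd_append, wd_pw, wd_pw]
  exact (((show Commute c (wd X) from hX).pow_right e.1).mul_right
    ((show Commute c (wd Y) from hY).pow_right e.2)).eq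

theorem bd_one (X : List Gen) (l : List (ℕ × ℕ)) :
    Bd (mkw X [] l) [] (centralizer ({wd X} : Set Cfsg.Spor.He)) :=
  ⟨fun c hc => comm_mkw (mem_centralizer_singleton_iff.1 hc)
    (by rw [wd_nil, mul_one, one_mul]) l, fun _ _ _ hf => absurd hf List.not_mem_nil⟩

theorem bd_two (X Y : List Gen) (l : List (ℕ × ℕ)) :
    Bd (mkw X Y l) [] (centralizer ({wd X} : Set Cfsg.Spor.He) ⊓ centralizer ({wd Y} : Set _)) :=
  ⟨fun c hc => comm_mkw (mem_centralizer_singleton_iff.1 hc.1)
    (mem_centralizer_singleton_iff.1 hc.2) l, fun _ _ _ hf => absurd hf List.not_mem_nil⟩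

/-! ### orders -/

theorem ne_one_of_act {w : List Gen} (i : ℕ) (hi : i < 2058) (h : Nat.beq (act w i) i = false) :
    wd w ≠ 1 := by
  intro he
  have h1 : act w i = i := by
    have := act_eq w ⟨i, hi⟩
    rw [he, map_one] at this
    exact this
  rw [h1, Nat.beq_refl] at h
  exact absurd h (by decide)

theorem pow_eq_one_of_chk {w : List Gen} {k : ℕ} (h : chkB (pw w k) [] = true) : wd w ^ k = 1 := by
  have h1 := eq_of_chkB h
  rwa [wd_pw, wd_nil] at h1

theorem comm_of_chk {v w : List Gen} (h : chkB (v ++ w) (w ++ v) = true) :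
    wd v * wd w = wd w * wd v := by
  have h1 := eq_of_chkB h
  rwa [wd_append, wd_append] at h1

theorem ne_of_act {v w : List Gen} (i : ℕ) (hi : Nat.blt i 2058 = true)
    (h : Nat.beq (act v i) (act w i) = false) : wd v ≠ wd w := by
  intro he
  have hi' : i < 2058 := Nat.le_of_ble_eq_true hi
  have h1 := act_eq v ⟨i, hi'⟩
  rw [he, ← act_eq] at h1
  have h2 : act v i = act w i := h1
  rw [h2, Nat.beq_refl] at h
  exact absurd h (by decide)

theorem chkB_of_eq {v w : List Gen} (h : wd v = wd w) : chkB v w = true := by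
  unfold chkB
  have key : ∀ i : Fin 2058, Nat.beq (act v i) (act w i) = true := by
    intro i
    rw [act_eq, act_eq, h]
    exact Nat.beq_refl _
  rw [Bool.and_eq_true, Bool.and_eq_true, Bool.and_eq_true]
  exact ⟨⟨key 0, key 1⟩, key 32, key 8⟩

/-- `y` is not a power of `x` -/
theorem not_mem_zpowers_of {X Y : List Gen} {k : ℕ} (hk : 0 < k) (hX : orderOf (wd X) = k)
    (h : ((List.range k).all fun j => Bool.not (chkB Y (pw X j))) = true) :
    wd Y ∉ zpowers (wd X) := by
  intro hm
  have hfin : IsOfFinOrder (wd X) := by rw [← orderOf_pos_iff, hX]; exact hk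
  rw [← hfin.mem_powers_iff_mem_zpowers, Submonoid.mem_powers_iff] at hm
  obtain ⟨n, hn⟩ := hm
  rw [← pow_mod_orderOf, hX, ← wd_pw] at hn
  rw [List.all_eq_true] at h
  have h1 := h (n % k) (List.mem_range.2 (Nat.mod_lt _ hk))
  rw [chkB_of_eq hn.symm] at h1
  exact absurd h1 (by decide)

/-- the order of a word -/
def ordChk (w : List Gen) (n : ℕ) : Bool :=
  and (chkB (pw w n) []) ((List.range n).all fun j => bif Nat.beq j 0 then true else
    Bool.not (chkB (pw w j) []))

theorem orderOf_of {w : List Gen} {n : ℕ} (hn : Nat.blt 0 n = true) (h : ordChk w n = true) :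
    orderOf (wd w) = n := by
  unfold ordChk at h
  rw [Bool.and_eq_true, List.all_eq_true] at h
  rw [orderOf_eq_iff (Nat.le_of_ble_eq_true hn)]
  refine ⟨pow_eq_one_of_chk h.1, fun m hm h0 he => ?_⟩
  have h1 := h.2 m (List.mem_range.2 hm)
  have h2 : Nat.beq m 0 = false := by
    rw [← Bool.not_eq_true]
    intro hb
    exact h0.ne' (Nat.eq_of_beq_eq_true hb)
  rw [h2, cond_false, chkB_of_eq (by rw [wd_pw, wd_nil]; exact he)] at h1
  exact absurd h1 (by decide)

end Cfsg.Agent.H492.IMHeCnt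
end

-- part: H961/HeLocal
section
set_option linter.all false
open scoped Cfsg.Agent.FastGrp


/-!
# A Sylow 7-subgroup of the Held group (helper961)

`HeLoc w v s a c` : `⟨s, v, w⟩` is extraspecial of order 343 with centre `⟨w⟩`, `a` maps `w ↦ v ↦ w⁻¹`, `c` commutes with
`w` and acts without fixed points on `⟨s, v, w⟩ / ⟨w⟩`.  `exists_loc` : such elements exist in `He`.
-/

set_option autoImplicit false
set_option maxRecDepth 100000

namespace Cfsg.Agent.H961.HeLocal

open Cfsg Cfsg.Spor.He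
open Cfsg.Agent.SporadicB.HePerm
open Cfsg.Agent.FixBN.HeStab Cfsg.Agent.KFacts.He.Lv

/-- the relations -/
structure HeLoc {L : Type*} [Group L] (w v s a c : L) : Prop where
  w7 : w ^ 7 = 1
  w1 : w ≠ 1
  wv : w * v = v * w
  ws : w * s = s * w
  sv : s * v = w * v * s
  s7 : s ^ 7 = 1
  aw : a * w = v * a
  av : w * a * v = a
  cw : c * w = w * c
  cv : c * v = s ^ 3 * v ^ 3 * w * c
  cs : c * s = s ^ 3 * v ^ 5 * c
  c3 : c ^ 3 = 1
  as : a * a * s = s * (a * a)

/-- the word of `w` -/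
def Ww : List Gen := [.a, .b, .c, .d, .f, .d, .g, .b, .c, .d, .a, .g, .b, .c, .d, .c, .d, .f, .b, .c, .d, .e, .c, .d, .g, .f, .c]

/-- the word of `v` -/
def Wv : List Gen := [.g, .d, .f, .e, .c, .d, .g, .c, .d, .b, .c, .b, .e, .d, .g, .c, .d, .c, .d, .b, .c, .d, .g, .c, .d, .f, .d, .b]

/-- the word of `s` -/
def Ws : List Gen := [.d, .g, .c, .d, .e, .c, .d, .f, .c, .a, .d, .c, .d, .b, .c, .d, .g, .c, .d, .c, .d, .e, .b, .c, .d, .c, .a]

/-- the word of `a` -/
def Wa : List Gen := [.d, .e, .c, .d, .b, .c, .d, .g, .b, .a, .c, .d, .g, .c, .d, .b, .c, .d, .f, .d, .c, .d, .e, .c, .d, .c, .a]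

/-- the word of `c` -/
def Wc : List Gen := [.d, .c, .d, .e, .d, .c, .b, .d, .c, .d, .g, .d, .c, .d, .b, .c, .d, .e, .c, .d, .f, .d, .e]

/-- the power of a word -/
def pw (X : List Gen) (k : ℕ) : List Gen := Nat.rec [] (fun _ ih => X ++ ih) k

theorem wd_pw (X : List Gen) (k : ℕ) : wd (pw X k) = wd X ^ k := by
  induction k with
  | zero => rw [pow_zero]; exact wd_nil
  | succ k ih =>
    rw [pow_succ', ← ih, ← wd_append]
    rfl

theorem rel_w7 : wd Ww ^ 7 = 1 := by
  have h := eq_of_chkB (v := pw Ww 7) (w := []) (by decide +kernel)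
  rwa [wd_pw, wd_nil] at h

theorem rel_w1 : wd Ww ≠ 1 := by
  intro he
  have h0 := phi_wd_apply Ww 0
  rw [he, map_one] at h0
  exact absurd h0 (by decide +kernel)

theorem rel_wv : wd Ww * wd Wv = wd Wv * wd Ww := by
  have h := eq_of_chkB (v := Ww ++ Wv) (w := Wv ++ Ww) (by decide +kernel)
  rwa [wd_append, wd_append] at h

theorem rel_ws : wd Ww * wd Ws = wd Ws * wd Ww := by
  have h := eq_of_chkB (v := Ww ++ Ws) (w := Ws ++ Ww) (by decide +kernel)
  rwa [wd_append, wd_append] at h

theorem rel_sv : wd Ws * wd Wv = wd Ww * wd Wv * wd Ws := by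
  have h := eq_of_chkB (v := Ws ++ Wv) (w := Ww ++ Wv ++ Ws) (by decide +kernel)
  rwa [wd_append, wd_append, wd_append] at h

theorem rel_s7 : wd Ws ^ 7 = 1 := by
  have h := eq_of_chkB (v := pw Ws 7) (w := []) (by decide +kernel)
  rwa [wd_pw, wd_nil] at h

theorem rel_aw : wd Wa * wd Ww = wd Wv * wd Wa := by
  have h := eq_of_chkB (v := Wa ++ Ww) (w := Wv ++ Wa) (by decide +kernel)
  rwa [wd_append, wd_append] at h

theorem rel_av : wd Ww * wd Wa * wd Wv = wd Wa := by
  have h := eq_of_chkB (v := Ww ++ Wa ++ Wv) (w := Wa) (by decide +kernel)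
  rwa [wd_append, wd_append] at h

theorem rel_cw : wd Wc * wd Ww = wd Ww * wd Wc := by
  have h := eq_of_chkB (v := Wc ++ Ww) (w := Ww ++ Wc) (by decide +kernel)
  rwa [wd_append, wd_append] at h

theorem rel_cv : wd Wc * wd Wv = wd Ws ^ 3 * wd Wv ^ 3 * wd Ww * wd Wc := by
  have h := eq_of_chkB (v := Wc ++ Wv) (w := pw Ws 3 ++ pw Wv 3 ++ Ww ++ Wc) (by decide +kernel)
  rwa [wd_append, wd_append, wd_append, wd_append, wd_pw, wd_pw] at h

theorem rel_cs : wd Wc * wd Ws = wd Ws ^ 3 * wd Wv ^ 5 * wd Wc := by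
  have h := eq_of_chkB (v := Wc ++ Ws) (w := pw Ws 3 ++ pw Wv 5 ++ Wc) (by decide +kernel)
  rwa [wd_append, wd_append, wd_append, wd_pw, wd_pw] at h

theorem rel_c3 : wd Wc ^ 3 = 1 := by
  have h := eq_of_chkB (v := pw Wc 3) (w := []) (by decide +kernel)
  rwa [wd_pw, wd_nil] at h

theorem rel_as : wd Wa * wd Wa * wd Ws = wd Ws * (wd Wa * wd Wa) := by
  have h := eq_of_chkB (v := Wa ++ Wa ++ Ws) (w := Ws ++ (Wa ++ Wa)) (by decide +kernel)
  rwa [wd_append, wd_append, wd_append] at h

theorem loc : HeLoc (wd Ww) (wd Wv) (wd Ws) (wd Wa) (wd Wc) where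
  w7 := rel_w7
  w1 := rel_w1
  wv := rel_wv
  ws := rel_ws
  sv := rel_sv
  s7 := rel_s7
  aw := rel_aw
  av := rel_av
  cw := rel_cw
  cv := rel_cv
  cs := rel_cs
  c3 := rel_c3
  as := rel_as

theorem HeLoc.map {L M : Type*} [Group L] [Group M] {w v s a c : L} (h : HeLoc w v s a c) (f : L →* M)
    (hf : Function.Injective f) : HeLoc (f w) (f v) (f s) (f a) (f c) where
  w7 := by rw [← map_pow, h.w7, map_one]
  w1 := fun h1 => h.w1 (hf (h1.trans (map_one f).symm))
  wv := by rw [← map_mul, h.wv, map_mul]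
  ws := by rw [← map_mul, h.ws, map_mul]
  sv := by rw [← map_mul, h.sv, map_mul, map_mul]
  s7 := by rw [← map_pow, h.s7, map_one]
  aw := by rw [← map_mul, h.aw, map_mul]
  av := by rw [← map_mul, ← map_mul, h.av]
  cw := by rw [← map_mul, h.cw, map_mul]
  cv := by rw [← map_mul, h.cv]; simp only [map_mul, map_pow]
  cs := by rw [← map_mul, h.cs]; simp only [map_mul, map_pow]
  c3 := by rw [← map_pow, h.c3, map_one]
  as := by rw [← map_mul, ← map_mul, h.as, map_mul]

/-- **A Sylow 7-subgroup of the Held group.** -/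
theorem exists_loc {L : Type*} [Group L] (h : Cfsg.Spor.IsoHe L) : ∃ w v s a c : L, HeLoc w v s a c := by
  obtain ⟨e⟩ := h
  exact ⟨_, _, _, _, _, loc.map e.symm.toMonoidHom e.symm.injective⟩

end Cfsg.Agent.H961.HeLocal
end

-- part: H19/Odd/HeCnt
section
set_option linter.all false
open scoped Cfsg.Agent.FastGrp

/-!
# Upper bounds for centralizers in the Held group by scripts (helper19)
-/

set_option autoImplicit false

namespace Cfsg.Agent.H19.Odd.HeCnt

open Subgroup
open Cfsg.Spor Cfsg.Spor.He Cfsg.Agent.SporadicB.HePerm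
open Cfsg.Agent.FixBN.HeStab Cfsg.Agent.KFacts.He.Lv Cfsg.Agent.CpAutHe.Cnt

/-- a step: the point, the fixed points and the powers used, the number of possible images -/
structure Stp where
  p : ℕ
  fs : List ℕ
  ks : List ℕ
  n : ℕ

/-- the check of a step -/
def stpOk (X : List Gen) (F : List ℕ) (s : Stp) : Bool :=
  and (Nat.blt s.p 2058) (and (s.fs.all fun f => elemN f F) (Nat.beq (cnt 2058 (tst X s.fs s.ks s.p)) s.n))

/-- the check of a script -/
def run (X : List Gen) : List Stp → List ℕ → Bool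
  | [], F => and (and (elemN 0 F) (elemN 1 F)) (and (elemN 32 F) (elemN 8 F))
  | s :: l, F => and (stpOk X F s) (run X l (nx X F s.p))

/-- the bound -/
def bd : List Stp → ℕ
  | [] => 1
  | s :: l => s.n * bd l

theorem le_of_run {X : List Gen} : ∀ (l : List Stp) (F : List ℕ) (C : Subgroup Cfsg.Spor.He),
    (∀ c ∈ C, c * wd X = wd X * c) → (∀ c ∈ C, ∀ f ∈ F, Fx c f) → run X l F = true → Nat.card C ≤ bd l
  | [], F, C, hC, hF, h => by
    have h1 : and (and (elemN 0 F) (elemN 1 F)) (and (elemN 32 F) (elemN 8 F)) = true := h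
    rw [Bool.and_eq_true, Bool.and_eq_true, Bool.and_eq_true] at h1
    obtain ⟨⟨m0, m1⟩, m2, m3⟩ := h1
    show Nat.card C ≤ 1
    rw [Subgroup.card_le_one_iff_eq_bot, eq_bot_iff_forall]
    intro c hc
    have e : ∀ i, phi (1 : Cfsg.Spor.He) i = i := fun i => by rw [map_one]; rfl
    obtain ⟨_, k0⟩ := hF c hc 0 (of_elemN m0)
    obtain ⟨_, k1⟩ := hF c hc 1 (of_elemN m1)
    obtain ⟨_, k2⟩ := hF c hc 32 (of_elemN m2)
    obtain ⟨_, k3⟩ := hF c hc 8 (of_elemN m3)
    apply eq_of_base
    · rw [e]; exact k0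
    · rw [e]; exact k1
    · rw [e]; exact k2
    · rw [e]; exact k3
  | s :: l, F, C, hC, hF, h => by
    have h1 : and (stpOk X F s) (run X l (nx X F s.p)) = true := h
    rw [Bool.and_eq_true] at h1
    obtain ⟨h1, h2⟩ := h1
    unfold stpOk at h1
    rw [Bool.and_eq_true, Bool.and_eq_true, Nat.blt_eq] at h1
    obtain ⟨hp, hfs, hn⟩ := h1
    have hsub : s.fs ⊆ F := by
      intro a ha
      rw [List.all_eq_true] at hfs
      exact of_elemN (hfs a ha)
    show Nat.card C ≤ s.n * bd l
    refine step hC hF ⟨s.p, hp⟩ s.fs s.ks hsub (Nat.eq_of_beq_eq_true hn) ?_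
    refine le_of_run l (nx X F s.p) _ (fun c hc => hC c (mem_st.1 hc).1) (fun c hc => ?_) h2
    exact fx_nx (p := ⟨s.p, hp⟩) (hC c (mem_st.1 hc).1) (hF c (mem_st.1 hc).1) (mem_st.1 hc).2

/-- **The bound.** -/
theorem card_le {X : List Gen} {l : List Stp} (h : run X l [] = true) {n : ℕ} (hn : bd l ≤ n) :
    Nat.card ↥(centralizer ({wd X} : Set Cfsg.Spor.He)) ≤ n :=
  (le_of_run l [] _ (fun _ hc => mem_centralizer_singleton_iff.1 hc) (fun _ _ f hf => absurd hf List.not_mem_nil) h).trans
    hn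

/-- `run` with the fast tests -/
noncomputable def scrFast (X : List Gen) (l : List Stp) : List ℕ → Bool :=
  List.rec (fun F => and (and (elemN 0 F) (elemN 1 F)) (and (elemN 32 F) (elemN 8 F)))
    (fun s _ ih F => and (and (Nat.blt s.p 2058) (and (s.fs.all fun f => elemN f F)
      (Nat.beq (cnt 2058 (tstFast X s.fs s.ks s.p)) s.n))) (ih (nx X F s.p))) l

theorem scrFast_eq (X : List Gen) : ∀ (l : List Stp) (F : List ℕ), run X l F = scrFast X l F
  | [], _ => rfl
  | s :: l, F => by
    show and (and (Nat.blt s.p 2058) (and (s.fs.all fun f => elemN f F)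
      (Nat.beq (cnt 2058 (tst X s.fs s.ks s.p)) s.n))) (run X l (nx X F s.p)) = _
    rw [scrFast_eq X l, tst_fast]
    rfl

end Cfsg.Agent.H19.Odd.HeCnt
end

-- part: H805/HeThree
section
prune_inst 0x1000000000000000000000000000000000000001000000000000000080400000002002020000000000000040001000100000000020000000400000000001000080180800000000002002000000000000000000000000000000000000000000000
set_option linter.all false
open scoped Cfsg.Agent.FastGrp

-- part: H805/FpfCent
section
/-!
# Elements of order three without fixed points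

If a finite group `G` with nonabelian Sylow 3-subgroups of order 27 acts on a finite set of order prime to 9 (more
precisely not divisible by 9), an element without fixed points has a centralizer of order not divisible by 27.
-/

set_option autoImplicit false

namespace Cfsg.Agent.H805.FpfCent

open Subgroup
open scoped Pointwise

/-- a group of order 27 acting on a set of order not divisible by 9 with a central element without fixed points is
commutative -/
theorem comm_of_fpf {R X : Type*} [Group R] [Finite R] [MulAction R X] [Finite X]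
    (hR : Nat.card R = 27) (hX : ¬ 9 ∣ Nat.card X) (x : R) (hxc : ∀ r : R, r * x = x * r)
    (hfpf : ∀ p : X, x • p ≠ p) : ∀ r s : R, r * s = s * r := by
  classical
  have : Fact (Nat.Prime 3) := ⟨by norm_num⟩
  -- a point with stabilizer of order divisible by 9
  obtain ⟨p, hp⟩ : ∃ p : X, 9 ∣ Nat.card (MulAction.stabilizer R p) := by
    by_contra hcon
    push Not at hcon
    apply hX
    have : Fintype X := Fintype.ofFinite X
    have : Fintype R := Fintype.ofFinite R
    have h1 := Nat.card_congr (MulAction.selfEquivSigmaOrbits R X)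
    rw [h1]
    have : Fintype (Quotient (MulAction.orbitRel R X)) := Fintype.ofFinite _
    rw [Nat.card_sigma]
    apply Finset.dvd_sum
    intro ω _
    have h2 : Nat.card (MulAction.orbit R ω.out) * Nat.card (MulAction.stabilizer R ω.out) = 27 := by
      rw [← hR, ← Nat.card_prod]
      exact Nat.card_congr (MulAction.orbitProdStabilizerEquivGroup R ω.out)
    have h3 := hcon ω.out
    have h4 : Nat.card (MulAction.stabilizer R ω.out) ∣ 27 := Dvd.intro_left _ h2
    have h5 : Nat.card (MulAction.stabilizer R ω.out) = 1 ∨ Nat.card (MulAction.stabilizer R ω.out) = 3 := by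
      have h6 : (27 : ℕ) = 3 ^ 3 := by norm_num
      rw [h6, Nat.dvd_prime_pow (by norm_num)] at h4
      obtain ⟨k, hk, h7⟩ := h4
      interval_cases k
      · left; rw [h7]; norm_num
      · right; rw [h7]; norm_num
      · exfalso; apply h3; rw [h7]
        norm_num
      · exfalso; apply h3; rw [h7]; norm_num
    have h8 : Nat.card (MulAction.orbit R ω.out) = 27 ∨ Nat.card (MulAction.orbit R ω.out) = 9 := by
      rcases h5 with h5 | h5
      · left; rw [h5] at h2; omega
      · right; rw [h5] at h2; omega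
    rcases h8 with h | h <;> rw [h] <;> norm_num
  set K := MulAction.stabilizer R p with hK
  have hxK : x ∉ K := fun h => hfpf p h
  have hKdvd : Nat.card K ∣ 27 := hR ▸ Subgroup.card_subgroup_dvd_card K
  have hKne : Nat.card K ≠ 27 := by
    intro h
    apply hxK
    have : K = ⊤ := Subgroup.eq_top_of_card_eq K (by rw [h, hR])
    rw [this]; trivial
  have hK9 : Nat.card K = 9 := by
    obtain ⟨m, hm⟩ := hp
    rw [hm] at hKdvd hKne ⊢
    have h1 : m ∣ 3 := by
      have : 9 * m ∣ 9 * 3 := by simpa using hKdvd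
      exact Nat.dvd_of_mul_dvd_mul_left (by norm_num) this
    have h2 := Nat.le_of_dvd (by norm_num) h1
    interval_cases m <;> omega
  have hKcomm : ∀ a ∈ K, ∀ b ∈ K, a * b = b * a := by
    have h1 := IsPGroup.isMulCommutative_of_card_eq_prime_sq (p := 3) (G := K) (by rw [hK9]; norm_num)
    intro a ha b hb
    exact congrArg Subtype.val (h1.is_comm.comm (⟨a, ha⟩ : K) ⟨b, hb⟩)
  have htop : K ⊔ zpowers x = ⊤ := by
    apply Subgroup.eq_top_of_card_eq
    have h1 : Nat.card K ∣ Nat.card (K ⊔ zpowers x : Subgroup R) := card_dvd_of_le le_sup_left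
    have h2 : Nat.card (K ⊔ zpowers x : Subgroup R) ∣ 27 := hR ▸ Subgroup.card_subgroup_dvd_card _
    have h3 : Nat.card (K ⊔ zpowers x : Subgroup R) ≠ 9 := by
      intro h
      apply hxK
      have h4 : K = K ⊔ zpowers x := Subgroup.eq_of_le_of_card_ge le_sup_left (by rw [h, hK9])
      rw [h4]
      exact (le_sup_right : zpowers x ≤ K ⊔ zpowers x) (mem_zpowers x)
    rw [hR]
    rw [hK9] at h1
    obtain ⟨m, hm⟩ := h1
    rw [hm] at h2 h3 ⊢
    have h5 : m ∣ 3 := by
      have : 9 * m ∣ 9 * 3 := by simpa using h2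
      exact Nat.dvd_of_mul_dvd_mul_left (by norm_num) this
    have h6 := Nat.le_of_dvd (by norm_num) h5
    interval_cases m <;> omega
  have hKcen : K ≤ center R := by
    intro a ha
    have h1 : K ⊔ zpowers x ≤ centralizer ({a} : Set R) := by
      refine sup_le ?_ ?_
      · intro b hb
        rw [mem_centralizer_singleton_iff]
        exact hKcomm b hb a ha
      · rw [zpowers_le, mem_centralizer_singleton_iff]
        exact (hxc a).symm
    rw [htop] at h1
    rw [mem_center_iff]
    intro g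
    exact mem_centralizer_singleton_iff.1 (h1 (mem_top g))
  have hcen : center R = ⊤ := by
    rw [eq_top_iff, ← htop]
    refine sup_le hKcen ?_
    rw [zpowers_le, mem_center_iff]
    exact hxc
  intro r s
  have h1 : s ∈ center R := by rw [hcen]; trivial
  exact mem_center_iff.1 h1 r

/-- the main criterion -/
theorem not_dvd {G X : Type*} [Group G] [Finite G] [MulAction G X] [Finite X]
    {m : ℕ} (hG : Nat.card G = 27 * m) (hm : ¬ 3 ∣ m) (hX : ¬ 9 ∣ Nat.card X) {x : G}
    (hfpf : ∀ p : X, x • p ≠ p) (hx3 : x ^ 3 = 1) {P : Subgroup G} (hP : IsPGroup 3 P) {A B : G}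
    (hA : A ∈ P) (hB : B ∈ P) (hAB : A * B ≠ B * A) :
    ¬ 27 ∣ Nat.card (centralizer ({x} : Set G)) := by
  classical
  intro h27
  have : Fact (Nat.Prime 3) := ⟨by norm_num⟩
  have hsyl : ∀ S : Sylow 3 G, Nat.card S = 27 := by
    intro S
    rw [S.card_eq_multiplicity, hG]
    have h3 : (27 : ℕ) = 3 ^ 3 := by norm_num
    have hm0 : m ≠ 0 := by rintro rfl; exact hm (dvd_zero _)
    rw [h3, Nat.factorization_mul (by norm_num) hm0, Finsupp.add_apply,
      Nat.Prime.factorization_pow Nat.prime_three, Finsupp.single_eq_same,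
      Nat.factorization_eq_zero_of_not_dvd hm]
  obtain ⟨R, hR⟩ := Sylow.exists_subgroup_card_pow_prime (G := centralizer ({x} : Set G)) 3
    (n := 3) (by norm_num; exact h27)
  set R' : Subgroup G := R.map (centralizer ({x} : Set G)).subtype with hR'
  have hcR : Nat.card R' = 27 := by
    rw [hR', card_map_of_injective (subtype_injective _), hR]; norm_num
  have hpR : IsPGroup 3 R' := IsPGroup.of_card (n := 3) (by rw [hcR]; norm_num)
  obtain ⟨S, hS⟩ := hpR.exists_le_sylow
  have hSR : R' = (S : Subgroup G) := by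
    apply eq_of_le_of_card_ge hS
    rw [hsyl S, hcR]
  have hcomm : ∀ y ∈ R', y * x = x * y := by
    rintro _ ⟨y, -, rfl⟩
    exact mem_centralizer_singleton_iff.1 y.2
  have hxS : x ∈ (S : Subgroup G) := by
    have hn : S ≤ normalizer (zpowers x : Set G) := by
      intro y hy
      rw [← hSR] at hy
      have h1 : Commute y x := hcomm y hy
      rw [mem_normalizer_iff]
      intro z
      constructor
      · intro hz
        obtain ⟨k, rfl⟩ := mem_zpowers_iff.1 hz
        have h2 : Commute y (x ^ k) := h1.zpow_right k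
        rw [h2.eq, mul_inv_cancel_right]
        exact zpow_mem (mem_zpowers _) k
      · intro hz
        obtain ⟨k, hk⟩ := mem_zpowers_iff.1 hz
        have h2 : Commute y (x ^ k) := h1.zpow_right k
        have h3 : z = y⁻¹ * (y * z * y⁻¹) * y := by group
        rw [h3, ← hk, mul_assoc, ← h2.eq, inv_mul_cancel_left]
        exact zpow_mem (mem_zpowers _) k
    have hp : IsPGroup 3 ((S : Subgroup G) ⊔ zpowers x : Subgroup G) := by
      apply IsPGroup.to_sup_of_normal_right' S.2 _ hn
      apply IsPGroup.of_card (n := if x = 1 then 0 else 1)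
      split_ifs with h
      · rw [h, Nat.card_zpowers, orderOf_one, pow_zero]
      · rw [Nat.card_zpowers, orderOf_eq_prime hx3 h, pow_one]
    have h4 := S.3 hp le_sup_left
    rw [← h4]
    exact (le_sup_right : zpowers x ≤ (S : Subgroup G) ⊔ zpowers x) (mem_zpowers _)
  -- `S` is commutative
  have hSc : ∀ r s : S, r * s = s * r := by
    refine comm_of_fpf (X := X) (hsyl S) hX ⟨x, hxS⟩ ?_ hfpf
    intro r
    apply Subtype.ext
    refine hcomm r.1 ?_
    rw [hSR]
    exact r.2
  obtain ⟨T, hT⟩ := hP.exists_le_sylow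
  obtain ⟨c, hc⟩ := MulAction.exists_smul_eq G S T
  have hmem' : ∀ y ∈ T, c⁻¹ * y * c ∈ (S : Subgroup G) := by
    intro y hy
    rw [← hc] at hy
    have h5 : y ∈ MulAut.conj c • (S : Subgroup G) := hy
    rw [mem_pointwise_smul_iff_inv_smul_mem] at h5
    have h6 : (MulAut.conj c)⁻¹ • y = c⁻¹ * y * c := by
      rw [← map_inv, MulAut.smul_def, MulAut.conj_apply, inv_inv]
    rwa [h6] at h5
  have h7 := congrArg Subtype.val (hSc ⟨_, hmem' A (hT hA)⟩ ⟨_, hmem' B (hT hB)⟩)
  change c⁻¹ * A * c * (c⁻¹ * B * c) = c⁻¹ * B * c * (c⁻¹ * A * c) at h7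
  apply hAB
  calc A * B = c * (c⁻¹ * A * c * (c⁻¹ * B * c)) * c⁻¹ := by group
    _ = c * (c⁻¹ * B * c * (c⁻¹ * A * c)) * c⁻¹ := by rw [h7]
    _ = B * A := by group

/-- two elements of order three generating an extraspecial group lie in a common 3-subgroup -/
theorem exists_pgroup {G : Type*} [Group G] {a b c : G} (ha : a ^ 3 = 1) (hb : b ^ 3 = 1) (hc : c ^ 3 = 1)
    (hac : a * c = c * a) (hbc : b * c = c * b) (hab : a * b = b * a * c) :
    ∃ P : Subgroup G, IsPGroup 3 P ∧ a ∈ P ∧ b ∈ P := by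
  have isP_zpowers : ∀ {x : G}, x ^ 3 = 1 → IsPGroup 3 (zpowers x) := by
    intro x h y
    obtain ⟨k, hk⟩ := mem_zpowers_iff.1 y.2
    refine ⟨1, Subtype.ext ?_⟩
    show (y : G) ^ (3 ^ 1) = 1
    rw [← hk, pow_one, ← zpow_natCast, ← zpow_mul, mul_comm, zpow_mul, zpow_natCast, h, one_zpow]
  set C : Subgroup G := zpowers b ⊔ zpowers c with hC
  have hbC : b ∈ C := (le_sup_left : zpowers b ≤ C) (mem_zpowers _)
  have hcC : c ∈ C := (le_sup_right : zpowers c ≤ C) (mem_zpowers _)
  have hCp : IsPGroup 3 C := by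
    apply IsPGroup.to_sup_of_normal_right' (isP_zpowers hb) (isP_zpowers hc)
    rw [zpowers_le, mem_normalizer_iff]
    intro x
    constructor
    · intro hx
      obtain ⟨k, rfl⟩ := mem_zpowers_iff.1 hx
      have h1 : Commute b (c ^ k) := Commute.zpow_right hbc k
      rw [h1.eq, mul_inv_cancel_right]
      exact zpow_mem (mem_zpowers _) k
    · intro hx
      obtain ⟨k, hk⟩ := mem_zpowers_iff.1 hx
      have h1 : Commute b (c ^ k) := Commute.zpow_right hbc k
      have h3 : x = b⁻¹ * (b * x * b⁻¹) * b := by group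
      rw [h3, ← hk, mul_assoc, ← h1.eq, inv_mul_cancel_left]
      exact zpow_mem (mem_zpowers _) k
  have conj_mem : ∀ {x : G}, x ∈ C → a * x * a⁻¹ ∈ C := by
    intro x hx
    have h : C ≤ C.comap (MulAut.conj a).toMonoidHom := by
      refine sup_le ?_ ?_
      · rw [zpowers_le]
        show a * b * a⁻¹ ∈ C
        have h1 : a * b * a⁻¹ = b * c := by
          rw [hab, mul_assoc b a c, hac, ← mul_assoc, mul_inv_cancel_right]
        rw [h1]
        exact mul_mem hbC hcC
      · rw [zpowers_le]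
        show a * c * a⁻¹ ∈ C
        rw [hac, mul_inv_cancel_right]
        exact hcC
    exact h hx
  have hn : a ∈ normalizer (C : Set G) := by
    rw [mem_normalizer_iff]
    intro x
    refine ⟨conj_mem, fun hx => ?_⟩
    have h1 := conj_mem (conj_mem hx)
    have h2 : a * (a * (a * x * a⁻¹) * a⁻¹) * a⁻¹ = a ^ 3 * x * (a ^ 3)⁻¹ := by
      rw [pow_succ, pow_two]; group
    rw [h2, ha, one_mul, inv_one, mul_one] at h1
    exact h1
  refine ⟨zpowers a ⊔ C, ?_, (le_sup_left : zpowers a ≤ _) (mem_zpowers _), (le_sup_right : C ≤ _) hbC⟩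
  apply IsPGroup.to_sup_of_normal_right' (isP_zpowers ha) hCp
  rw [zpowers_le]
  exact hn

end Cfsg.Agent.H805.FpfCent
end

-- part: H805/HeThree
section
/-!
# Elements of order three in the Held group

* `he` : an element of order 3 whose centralizer has order prime to 27, and an elementary abelian group of order 9 with
  conjugate nonidentity elements centralised by the involution `a`.
-/

set_option autoImplicit false
set_option maxRecDepth 100000

namespace Cfsg.Agent.H805.HeThree

open Subgroup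
open Cfsg.Spor Cfsg.Spor.He Cfsg.Agent.SporadicB.HePerm Cfsg.Agent.FixBN.HeStab
open Cfsg.Agent.KFacts.He.Lv Cfsg.Agent.KFacts.He.TwoACent

/-! ### The element of class 3B -/

/-- the word of the element of class 3B -/
def wA : List Gen := [.c, .b, .d, .e, .g, .d, .c, .d, .f, .g, .d, .f, .c, .d, .e, .c, .d, .f, .d, .c, .b, .d, .c, .e, .d, .c, .d, .b, .c, .d, .c, .d, .b, .c, .d, .c]
/-- the word of an element of order 3 not commuting with it -/
def wB : List Gen := [.c, .b, .f, .d, .c, .e, .d, .c, .d, .g, .d, .e, .c, .d, .c, .d, .f, .b, .c]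
/-- the word of their commutator -/
def wC : List Gen := [.d, .e]

theorem A3 : (wd wA) ^ 3 = 1 := by
  have h := eq_of_chkB (v := wA ++ (wA ++ wA)) (w := []) (by decide +kernel)
  rw [wd_append, wd_append, wd_nil] at h
  rw [pow_three]; exact h

theorem B3 : (wd wB) ^ 3 = 1 := by
  have h := eq_of_chkB (v := wB ++ (wB ++ wB)) (w := []) (by decide +kernel)
  rw [wd_append, wd_append, wd_nil] at h
  rw [pow_three]; exact h

theorem C3 : (wd wC) ^ 3 = 1 := by
  have h := eq_of_chkB (v := wC ++ (wC ++ wC)) (w := []) (by decide +kernel)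
  rw [wd_append, wd_append, wd_nil] at h
  rw [pow_three]; exact h

theorem AC : wd wA * wd wC = wd wC * wd wA := by
  have h := eq_of_chkB (v := wA ++ wC) (w := wC ++ wA) (by decide +kernel)
  rwa [wd_append, wd_append] at h

theorem BC : wd wB * wd wC = wd wC * wd wB := by
  have h := eq_of_chkB (v := wB ++ wC) (w := wC ++ wB) (by decide +kernel)
  rwa [wd_append, wd_append] at h

theorem AB : wd wA * wd wB = wd wB * wd wA * wd wC := by
  have h := eq_of_chkB (v := wA ++ wB) (w := wB ++ wA ++ wC) (by decide +kernel)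
  rwa [wd_append, wd_append, wd_append] at h

theorem C_ne : wd wC ≠ 1 := by
  intro h
  have h1 := phi_wd_apply wC 32
  rw [h, map_one] at h1
  exact absurd h1 (by decide +kernel)

theorem fpf_chk : allBelow 2058 (fun i => !(Nat.beq (act wA i) i)) = true := by decide +kernel

theorem fpf (i : Fin 2058) : phi (wd wA) i ≠ i := by
  intro h
  have h1 := phi_wd_apply wA i
  rw [h] at h1
  have h2 := of_allBelow fpf_chk i.1 i.2
  rw [← h1] at h2
  simp at h2

theorem A_ne : wd wA ≠ 1 := by
  intro h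
  apply fpf 0
  rw [h, map_one]; rfl

theorem finite_he : Finite Cfsg.Spor.He := Nat.finite_of_card_ne_zero (by rw [card_he]; norm_num)

theorem not_dvd_A : ¬ 27 ∣ Nat.card (centralizer ({wd wA} : Set Cfsg.Spor.He)) := by
  have := finite_he
  let act : MulAction Cfsg.Spor.He (Fin 2058) := MulAction.compHom _ phi
  obtain ⟨P, hP, hA, hB⟩ := FpfCent.exists_pgroup A3 B3 C3 AC BC AB
  refine FpfCent.not_dvd (X := Fin 2058) (m := 149273600) (by rw [card_he]) (by norm_num) (by simp) fpf A3 hP hA hB ?_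
  intro h
  apply C_ne
  have h1 := AB
  rw [h] at h1
  exact (mul_eq_left.1 h1.symm)

/-! ### The group of order nine -/

/-- powers of words -/
def wp (l : List Gen) : ℕ → List Gen
  | 0 => []
  | n + 1 => l ++ wp l n

theorem wd_wp (l : List Gen) (n : ℕ) : wd (wp l n) = wd l ^ n := by
  induction n with
  | zero => rw [wp, pow_zero, wd_nil]
  | succ n ih => rw [wp, wd_append, ih, pow_succ']

theorem wd_reverse (w : List Gen) : wd w.reverse = (wd w)⁻¹ := by
  induction w with
  | nil => rw [List.reverse_nil, wd_nil, inv_one]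
  | cons x w ih => rw [List.reverse_cons, wd_append, wd_one, ih, wd_cons, mul_inv_rev, gn_inv]

/-- the words of the two generators -/
def wx : List Gen := [.d, .e]
def wy : List Gen := [.c, .f, .g, .d, .c, .f, .g]

/-- the nine elements -/
def el (n : ℕ) : List Gen := wp wx (n / 3) ++ wp wy (n % 3)

/-- conjugating words -/
def cw : List (List Gen) :=
  [[],
   [.f, .g, .c],
   [.g, .f, .c],
   [],
   [.g, .d, .f, .g, .d, .c, .d, .f, .g, .d, .c, .d, .g],
   [.f, .d, .g, .f, .d, .c, .d, .g, .f, .d, .c, .d, .f],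
   [.d],
   [.f, .d, .e, .c, .d, .c, .d, .g, .f, .d, .c, .d, .c],
   [.g, .d, .e, .c, .d, .c, .d, .f, .g, .d, .c, .d, .c]]

theorem chk_inj : ∀ m n : Fin 9, chkB (el m.1) (el n.1) = true → m = n := by decide +kernel

theorem chk_conj : ∀ n : Fin 9, n.1 = 0 ∨ chkB (cw.getD n.1 [] ++ (wx ++ (cw.getD n.1 []).reverse)) (el n.1) = true := by
  decide +kernel

theorem chkB_of_eq {v w : List Gen} (h : wd v = wd w) : chkB v w = true := by
  have h1 : ∀ i : Fin 2058, act v i = act w i := fun i => by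
    rw [← phi_wd_apply, ← phi_wd_apply, h]
  unfold chkB
  rw [Bool.and_eq_true, Bool.and_eq_true, Bool.and_eq_true]
  have e0 : act v 0 = act w 0 := h1 0
  have e1 : act v 1 = act w 1 := h1 1
  have e2 : act v 32 = act w 32 := h1 32
  have e3 : act v 8 = act w 8 := h1 8
  rw [e0, e1, e2, e3]
  exact ⟨⟨Nat.beq_refl _, Nat.beq_refl _⟩, Nat.beq_refl _, Nat.beq_refl _⟩

theorem xy : Commute (wd wx) (wd wy) := by
  have h := eq_of_chkB (v := wx ++ wy) (w := wy ++ wx) (by decide +kernel)
  rwa [wd_append, wd_append] at h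

theorem x3 : (wd wx) ^ 3 = 1 := C3

theorem y3 : (wd wy) ^ 3 = 1 := by
  have h := eq_of_chkB (v := wy ++ (wy ++ wy)) (w := []) (by decide +kernel)
  rw [wd_append, wd_append, wd_nil] at h
  rw [pow_three]; exact h

/-- the group of order nine -/
def E : Subgroup Cfsg.Spor.He where
  carrier := {g | ∃ i j : ℕ, g = wd wx ^ i * wd wy ^ j}
  one_mem' := ⟨0, 0, by simp⟩
  mul_mem' := by
    rintro _ _ ⟨i, j, rfl⟩ ⟨k, l, rfl⟩
    refine ⟨i + k, j + l, ?_⟩
    have h := (xy.pow_pow k j).eq
    rw [pow_add, pow_add, mul_assoc, ← mul_assoc (wd wy ^ j), ← h]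
    simp only [mul_assoc]
  inv_mem' := by
    rintro _ ⟨i, j, rfl⟩
    refine ⟨2 * i, 2 * j, ?_⟩
    rw [inv_eq_iff_mul_eq_one]
    have h := (xy.pow_pow (2 * i) j).eq
    rw [mul_assoc, ← mul_assoc (wd wy ^ j), ← h]
    calc wd wx ^ i * (wd wx ^ (2 * i) * wd wy ^ j * wd wy ^ (2 * j))
        = (wd wx ^ i * wd wx ^ (2 * i)) * (wd wy ^ j * wd wy ^ (2 * j)) := by simp only [mul_assoc]
      _ = 1 := by
        rw [← pow_add, ← pow_add, show i + 2 * i = 3 * i by ring, show j + 2 * j = 3 * j by ring, pow_mul, pow_mul,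
          x3, y3, one_pow, one_pow, one_mul]

theorem wd_el (n : ℕ) : wd (el n) = wd wx ^ (n / 3) * wd wy ^ (n % 3) := by
  rw [el, wd_append, wd_wp, wd_wp]

theorem exists_el {g : Cfsg.Spor.He} (hg : g ∈ E) : ∃ n : Fin 9, wd (el n.1) = g := by
  obtain ⟨i, j, rfl⟩ := hg
  have h1 : wd wx ^ i = wd wx ^ (i % 3) := pow_eq_pow_mod i x3
  have h2 : wd wy ^ j = wd wy ^ (j % 3) := pow_eq_pow_mod j y3
  refine ⟨⟨3 * (i % 3) + j % 3, by omega⟩, ?_⟩
  rw [wd_el, h1, h2]
  congr 2 <;> simp only <;> omega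

theorem card_E : Nat.card E = 9 := by
  let f : Fin 9 → E := fun n => ⟨wd (el n.1), n.1 / 3, n.1 % 3, wd_el n.1⟩
  have hf : Function.Bijective f := by
    constructor
    · intro m n h
      exact chk_inj m n (chkB_of_eq (congrArg Subtype.val h))
    · rintro ⟨g, hg⟩
      obtain ⟨n, hn⟩ := exists_el hg
      exact ⟨n, Subtype.ext hn⟩
  rw [← Nat.card_eq_of_bijective f hf]
  simp

theorem conj_x {g : Cfsg.Spor.He} (hg : g ∈ E) (h1 : g ≠ 1) : IsConj (wd wx) g := by
  obtain ⟨n, rfl⟩ := exists_el hg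
  rcases chk_conj n with h | h
  · exfalso
    apply h1
    have h2 : n = 0 := Fin.ext h
    rw [h2]
    exact eq_of_chkB (w := []) (by decide +kernel)
  · have h2 := eq_of_chkB h
    rw [wd_append, wd_append, wd_reverse] at h2
    rw [isConj_iff]
    exact ⟨wd (cw.getD n.1 []), by rw [mul_assoc]; exact h2⟩

theorem a_comm_x : wd wx * gn .a = gn .a * wd wx := by
  have h := eq_of_chkB (v := wx ++ [.a]) (w := .a :: wx) (by decide +kernel)
  rwa [wd_append, wd_one, wd_cons] at h

theorem a_comm_y : wd wy * gn .a = gn .a * wd wy := by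
  have h := eq_of_chkB (v := wy ++ [.a]) (w := .a :: wy) (by decide +kernel)
  rwa [wd_append, wd_one, wd_cons] at h

theorem a_ne : gn .a ≠ 1 := by
  intro h
  have h1 := phi_wd_apply [.a] 8
  rw [wd_one, h, map_one] at h1
  exact absurd h1 (by decide +kernel)

/-- **The facts on the elements of order three of the Held group.** -/
theorem he : (∃ x : Spor.He, orderOf x = 3 ∧ ¬ 27 ∣ Nat.card (Subgroup.centralizer {x})) ∧
    ∃ (E : Subgroup Spor.He) (t : Spor.He), Nat.card E = 9 ∧ t ≠ 1 ∧ ¬ 3 ∣ orderOf t ∧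
      t ∈ Subgroup.centralizer (E : Set Spor.He) ∧ ∀ x ∈ E, ∀ y ∈ E, x ≠ 1 → y ≠ 1 → IsConj x y := by
  have : Fact (Nat.Prime 3) := ⟨by norm_num⟩
  have : Fact (Nat.Prime 2) := ⟨by norm_num⟩
  refine ⟨⟨wd wA, orderOf_eq_prime A3 A_ne, not_dvd_A⟩, E, gn .a, card_E, a_ne, ?_, ?_, ?_⟩
  · rw [orderOf_eq_prime (p := 2) (by rw [pow_two]; exact gn_mul_self .a) a_ne]
    norm_num
  · rw [mem_centralizer_iff]
    rintro _ ⟨i, j, rfl⟩
    have h1 : Commute (wd wx ^ i) (gn .a) := Commute.pow_left a_comm_x i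
    have h2 : Commute (wd wy ^ j) (gn .a) := Commute.pow_left a_comm_y j
    exact (h1.mul_left h2).eq
  · intro x hx y hy hx1 hy1
    exact (conj_x hx hx1).symm.trans (conj_x hy hy1)

end Cfsg.Agent.H805.HeThree
end

private theorem dce_67211ab8aedb : _root_.True := by
  try have : _root_.True := by simp only [_root_.Cfsg.Agent.H805.HeThree.wp.eq_def]
  try have : _root_.True := by simp only [_root_.Cfsg.Agent.H805.HeThree.el.eq_1]
  try have : _root_.True := by simp only [_root_.Cfsg.Agent.H805.HeThree.wp.eq_1]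
  try have : _root_.True := by simp only [_root_.Cfsg.Agent.H805.HeThree.wp.eq_2]
  exact _root_.True.intro
end
end
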