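import Cfsg.Agent.HeldHe.Model
import Cfsg.Agent.Held.LetterVals
set_option linter.all false

/-!
# Facts about the presented Held group: root elements (helper579)

`xr i j` (0-based) are elements of the presented Held group satisfying the relations of the root elements of the
centraliser of a transvection of `L5(2)`; `y1`, `y2` complete them to the configuration `(1, 1)` of `Cfsg.Agent.Held`.
All relations are checked on the four base points of the representation on 2058 points.
-/

set_option autoImplicit false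

namespace Cfsg.Agent.KFacts.He.Words

open Cfsg.Spor Cfsg.Spor.He Cfsg.Agent.SporadicB.HePerm Cfsg.Agent.SporadicRecognition.CosetCert
  Cfsg.Agent.HeldHe.Rels Cfsg.Agent.HeldHe.Model Cfsg.Agent.Held.Config Cfsg.Agent.Held.Letters
  Cfsg.Agent.Held.LetterVals

/-- word of the central involution -/
def wz : List ℕ := [5,1,2,0,5,1,2,0]

/-- words of the sixteen letters in the ten letters -/
def w16 : ℕ → List ℕ
  | 0 => [2]
  | 1 => [5,1,5,1,2,0,5,1,2,0]
  | 2 => [5,1,4,5,1,4]
  | 3 => [5,1,2,0,5,1,2,0]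
  | 4 => [3,5,1,2,0,5,1,2,0]
  | 5 => [3,4,3,4]
  | 6 => [3,2,0,3,2,0]
  | 7 => [4,5,1,2,0,5,1,2,0]
  | 8 => [2,0,5,1,2,0,5,1,2,0]
  | 9 => [5]
  | 10 => [8,5,1,2,0,5,1,2,0]
  | 11 => [6,5,1,2,0,5,1,2,0]
  | 12 => [9,5]
  | 13 => [5,9]
  | 14 => [7,2]
  | 15 => [2,7]
  | _ => []

theorem w16_lt : ∀ n, ∀ l ∈ w16 n, l < 10 := by
  intro n
  match n with
  | 0 | 1 | 2 | 3 | 4 | 5 | 6 | 7 | 8 | 9 | 10 | 11 | 12 | 13 | 14 | 15 => decide
  | n + 16 => intro l hl; simp [w16] at hl

/-- the root elements, `y1` and `y2` -/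
def xr (i j : ℕ) : Cfsg.Spor.He :=
  ev L0 (w16 (([[16, 0, 1, 2, 3], [16, 16, 4, 5, 6], [16, 10, 16, 7, 8], [16, 16, 11, 16, 9]].getD i []).getD j 16))

/-- the element `y1` -/
def y1 : Cfsg.Spor.He := ev L0 [9,5]
/-- the element `y2` -/
def y2 : Cfsg.Spor.He := ev L0 [7,2]

theorem L0_inv {n : ℕ} (h : n < 10) : (L0 n)⁻¹ = L0 n := inv_eq_of_mul_eq_one_right (sq n h)

theorem gy_eq (n : ℕ) : gy xr y1 y2 n = ev L0 (w16 n) := by
  rcases Nat.lt_or_ge n 16 with h | h
  · interval_cases n
    all_goals first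
      | rfl
      | (simp only [g13, g15, y1, y2, w16, ev_cons, ev_nil, mul_one, mul_inv_rev,
          L0_inv (show 9 < 10 by norm_num), L0_inv (show 5 < 10 by norm_num),
          L0_inv (show 7 < 10 by norm_num), L0_inv (show 2 < 10 by norm_num)])
  · rw [gy_of_ge _ _ _ h]
    obtain ⟨m, rfl⟩ := Nat.exists_eq_add_of_le h
    rw [Nat.add_comm]
    rfl

/-- expansion of words in the sixteen letters -/
def ex (r : List ℕ) : List ℕ := (r.map w16).flatten

theorem ev_ex (r : List ℕ) : ev (gy xr y1 y2) r = ev L0 (ex r) := by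
  induction r with
  | nil => rfl
  | cons l r ih =>
    show ev _ (l :: r) = ev L0 (w16 l ++ ex r)
    rw [ev_cons, ev_append, ih, gy_eq]

/-- image of a point under the value of a word -/
noncomputable def im (r : List ℕ) (i : ℕ) : ℕ := walk (List.reverse (ex r)) i

theorem im_spec (r : List ℕ) (i : Fin 2058) :
    ((phi (ev (gy xr y1 y2) r) i : Fin 2058) : ℕ) = im r i := by
  unfold im
  rw [← walk_apply, List.reverse_reverse, ev_ex]

/-- two words have the same value: check on the base points -/
noncomputable def eqW (u v : List ℕ) : Bool :=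
  Bool.rec false (Bool.rec false (Bool.rec false (Nat.beq (im u 8) (im v 8)) (Nat.beq (im u 32) (im v 32)))
    (Nat.beq (im u 1) (im v 1))) (Nat.beq (im u 0) (im v 0))

theorem eq_of_base {x y : Cfsg.Spor.He} (h0 : phi x 0 = phi y 0) (h1 : phi x 1 = phi y 1)
    (h2 : phi x 32 = phi y 32) (h3 : phi x 8 = phi y 8) : x = y := by
  have h : y⁻¹ * x = 1 := by
    apply phi_inj
    rw [map_one]
    refine base_trivial _ ⟨y⁻¹ * x, rfl⟩ ?_ ?_ ?_ ?_
    · rw [map_mul, map_inv, Equiv.Perm.mul_apply, h0, ← Equiv.Perm.mul_apply, inv_mul_cancel, Equiv.Perm.one_apply]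
    · rw [map_mul, map_inv, Equiv.Perm.mul_apply, h1, ← Equiv.Perm.mul_apply, inv_mul_cancel, Equiv.Perm.one_apply]
    · rw [map_mul, map_inv, Equiv.Perm.mul_apply, h2, ← Equiv.Perm.mul_apply, inv_mul_cancel, Equiv.Perm.one_apply]
    · rw [map_mul, map_inv, Equiv.Perm.mul_apply, h3, ← Equiv.Perm.mul_apply, inv_mul_cancel, Equiv.Perm.one_apply]
  exact (inv_mul_eq_one.mp h).symm

theorem weq {u v : List ℕ} (h : eqW u v = true) : ev (gy xr y1 y2) u = ev (gy xr y1 y2) v := by
  unfold eqW at h
  rcases h0 : Nat.beq (im u 0) (im v 0) with _ | _ <;> rw [h0] at h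
  · exact absurd (show false = true from h) (by simp)
  rcases h1 : Nat.beq (im u 1) (im v 1) with _ | _ <;> rw [h1] at h
  · exact absurd (show false = true from h) (by simp)
  rcases h2 : Nat.beq (im u 32) (im v 32) with _ | _ <;> rw [h2] at h
  · exact absurd (show false = true from h) (by simp)
  refine eq_of_base ?_ ?_ ?_ ?_
  · apply Fin.ext; rw [im_spec, im_spec]; exact Nat.eq_of_beq_eq_true h0
  · apply Fin.ext; rw [im_spec, im_spec]; exact Nat.eq_of_beq_eq_true h1
  · apply Fin.ext; rw [im_spec, im_spec]; exact Nat.eq_of_beq_eq_true h2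
  · apply Fin.ext; rw [im_spec, im_spec]; exact Nat.eq_of_beq_eq_true h

/-- different values -/
theorem wne {u v : List ℕ} {i : ℕ} (hi : i < 2058) (h : Nat.beq (im u i) (im v i) = false) :
    ev (gy xr y1 y2) u ≠ ev (gy xr y1 y2) v := by
  intro e
  have h1 := im_spec u ⟨i, hi⟩
  have h2 := im_spec v ⟨i, hi⟩
  rw [e, h2] at h1
  have h3 : im v i = im u i := h1
  rw [h3] at h
  simp at h

/-- all pairs of a list -/
noncomputable def allW (l : List (List ℕ × List ℕ)) : Bool :=
  List.rec (motive := fun _ => Bool) true (fun p _ ih => Bool.rec false ih (eqW p.1 p.2)) l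

theorem allW_sound {l : List (List ℕ × List ℕ)} (h : allW l = true) :
    ∀ p ∈ l, ev (gy xr y1 y2) p.1 = ev (gy xr y1 y2) p.2 := by
  induction l with
  | nil => simp
  | cons a l ih =>
    have h' : (Bool.rec false (allW l) (eqW a.1 a.2) : Bool) = true := h
    rcases ha : eqW a.1 a.2 with _ | _
    · rw [ha] at h'; exact absurd (show false = true from h') (by simp)
    rw [ha] at h'
    intro p hp
    rcases List.mem_cons.mp hp with rfl | hp
    · exact weq ha
    · exact ih h' p hp

theorem chk1 : allW (eqs1 1) = true := by decide +kernel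

theorem chk2 : allW (eqs2 1) = true := by decide +kernel

theorem chkSq : allW [([0,0], []), ([1,1], []), ([2,2], []), ([3,3], []), ([4,4], []), ([5,5], []), ([6,6], []),
    ([7,7], []), ([8,8], []), ([9,9], []), ([10,10], []), ([11,11], [])] = true := by decide +kernel

theorem chkP : allW (relsP.map fun r => (r, [])) = true := by decide +kernel

/-- **The root elements satisfy the Steinberg relations.** -/
theorem st : St xr := by
  refine st_of_words (y1 := y1) (y2 := y2) ?_ ?_
  · intro n hn
    have := allW_sound chkSq ([n, n], []) (by interval_cases n <;> simp)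
    exact this
  · intro r hr
    exact allW_sound chkP (r, []) (List.mem_map.mpr ⟨r, hr, rfl⟩)

/-- **The configuration `(1, 1)`.** -/
theorem cfg : Config xr 1 1 (xr 1 3) y1 y2 where
  side1 := side1_of_eqs (y2 := y2) fun p hp => allW_sound chk1 p hp
  side2 := side2_of_eqs (y1 := y1) fun p hp => allW_sound chk2 p hp
  comm := by
    have := weq (u := [14,5,12,5]) (v := [5,12,5,14]) (by decide +kernel)
    simp only [ev_cons, ev_nil, mul_one, g5, g12, g14] at this
    simp only [mul_assoc]
    exact this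

end Cfsg.Agent.KFacts.He.Words
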